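import Groth.Agent.Inter.Cartier
import Groth.Agent.DegMono.StalkSum
import Groth.Agent.LocCohBase.CM
import Mathlib.LinearAlgebra.TensorProduct.Quotient

/-!
# Stalks of `F ⊗ O_X/I`

`(F ⊗ O_X/I)_x = F_x / I_x F_x`.
-/

universe u

open CategoryTheory CategoryTheory.Limits AlgebraicGeometry TopologicalSpace Opposite MonoidalCategory
open Groth.DerivedCoh.KFlat

namespace Groth.Inter

variable {X : Scheme.{u}}

/-- The stalk of `O_X ⟶ O_X / I`. -/
noncomputable def quotStalk (I : X.IdealSheafData) (x : X) :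
    X.presheaf.stalk x →ₗ[X.presheaf.stalk x] (ClSub.quotMod I).presheaf.stalk x :=
  ((stk x).map (ClSub.toSubscheme I)).hom.comp
    (LinearMap.toSpanSingleton (X.presheaf.stalk x) ((Coh.structureModule X).presheaf.stalk x)
      (QCohMod.germ (Coh.structureModule X) x (U := ⊤) trivial (PicAux.oneSec X ⊤)))

lemma quotStalk_germ (I : X.IdealSheafData) {U : X.Opens} {x : X} (hx : x ∈ U) (a : Γ(X, U)) :
    quotStalk I x (X.presheaf.germ U x hx a) =
      QCohMod.germ (ClSub.quotMod I) x hx ((ClSub.toSubscheme I).app U a) := by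
  refine Eq.trans (congrArg ((stk x).map (ClSub.toSubscheme I)).hom ?_)
    (DerSch.stalkFunctor_map_germ x (ClSub.toSubscheme I) U hx a)
  change X.presheaf.germ U x hx a • QCohMod.germ (Coh.structureModule X) x (U := ⊤) trivial _ = _
  rw [← QCohMod.germ_res (Coh.structureModule X) (le_top : U ≤ ⊤) x hx, ← QCohMod.germ_smul]
  refine congrArg (QCohMod.germ (Coh.structureModule X) x hx) ?_
  change a * PicAux.resX X (le_top : U ≤ ⊤) 1 = a
  rw [map_one, mul_one]

lemma quotStalk_surjective (I : X.IdealSheafData) (x : X) :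
    Function.Surjective (quotStalk I x) := by
  intro t
  have := DegMono.epi_toSubscheme I
  obtain ⟨s, rfl⟩ := (QCohMod.epi_iff_stalk (ClSub.toSubscheme I)).1 inferInstance x t
  obtain ⟨V, hxV, a, rfl⟩ := QCohMod.exists_germ (Coh.structureModule X) x s
  exact ⟨X.presheaf.germ V x hxV a,
    (quotStalk_germ I hxV a).trans (DerSch.stalkFunctor_map_germ x (ClSub.toSubscheme I) V hxV a).symm⟩

/-- The stalk of a quasi-coherent ideal. -/
noncomputable def stalkIdeal (I : X.IdealSheafData) (x : X) : Ideal (X.presheaf.stalk x) :=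
  LinearMap.ker (quotStalk I x)

lemma toSubscheme_app_eq_zero (I : X.IdealSheafData) (U : X.affineOpens) (a : Γ(X, U.1)) :
    (ClSub.toSubscheme I).app U.1 a = 0 ↔ a ∈ I.ideal U := by
  rw [← Scheme.IdealSheafData.ker_subschemeι_app]
  rfl

theorem stalkIdeal_eq_map (I : X.IdealSheafData) (W : X.affineOpens) {x : X} (hx : x ∈ W.1) :
    stalkIdeal I x = (I.ideal W).map (X.presheaf.germ W.1 x hx).hom := by
  refine le_antisymm (fun r hr => ?_) (Ideal.map_le_iff_le_comap.2 fun a ha => ?_)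
  · obtain ⟨V, hxV, a, rfl⟩ := TopCat.Presheaf.exists_germ_eq X.presheaf r
    rw [stalkIdeal, LinearMap.mem_ker, quotStalk_germ] at hr
    obtain ⟨O, hxO, i, j, e⟩ := TopCat.Presheaf.germ_eq (ClSub.quotMod I).presheaf x hxV hxV
      ((ClSub.toSubscheme I).app V a) 0 (hr.trans (map_zero _).symm)
    rw [map_zero] at e
    obtain ⟨W', hxW', hW'⟩ := Divisors.exists_affine_le x (O ⊓ W.1) ⟨hxO, hx⟩
    have hle : W'.1 ≤ V := (hW'.trans inf_le_left).trans i.le
    have hmem : PicAux.resX X hle a ∈ I.ideal W' := by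
      rw [← toSubscheme_app_eq_zero]
      have h1 : (ClSub.toSubscheme I).app W'.1 (PicAux.resX X hle a) =
          PicAux.res (ClSub.quotMod I) hle ((ClSub.toSubscheme I).app V a) :=
        (PicAux.app_res (ClSub.toSubscheme I) hle a)
      rw [h1]
      have h2 : PicAux.res (ClSub.quotMod I) i.le ((ClSub.toSubscheme I).app V a) = 0 := e
      exact ((PicAux.res_res i.le (hW'.trans inf_le_left) _).symm.trans
        (congrArg (PicAux.res (ClSub.quotMod I) (hW'.trans inf_le_left)) h2)).trans (PicAux.res_zero _)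
    rw [← I.map_ideal (U := W') (V := W) (hW'.trans inf_le_right)] at hmem
    have h3 := Ideal.mem_map_of_mem (X.presheaf.germ W'.1 x hxW').hom hmem
    rw [Ideal.map_map, ← CommRingCat.hom_comp] at h3
    erw [TopCat.Presheaf.germ_res] at h3
    exact (show _ = X.presheaf.germ V x hxV a from
      TopCat.Presheaf.germ_res_apply X.presheaf (homOfLE hle) x hxW' a) ▸ h3
  · rw [Ideal.mem_comap, stalkIdeal, LinearMap.mem_ker]
    exact (quotStalk_germ I hx a).trans <| by
      rw [(toSubscheme_app_eq_zero I W a).2 ha, map_zero]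

lemma stalkIdeal_bot (x : X) : stalkIdeal (⊥ : X.IdealSheafData) x = ⊥ := by
  obtain ⟨W, hW, hx⟩ := QCohMod.exists_affine_mem x
  rw [stalkIdeal_eq_map _ ⟨W, hW⟩ hx]
  simp

lemma stalkIdeal_sup (I J : X.IdealSheafData) (x : X) :
    stalkIdeal (I ⊔ J) x = stalkIdeal I x ⊔ stalkIdeal J x := by
  obtain ⟨W, hW, hx⟩ := QCohMod.exists_affine_mem x
  simp only [stalkIdeal_eq_map _ ⟨W, hW⟩ hx, Scheme.IdealSheafData.ideal_sup, Pi.sup_apply,
    Ideal.map_sup]

lemma stalkIdeal_ne_top_iff (I : X.IdealSheafData) (x : X) :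
    stalkIdeal I x ≠ ⊤ ↔ x ∈ I.support := by
  obtain ⟨W, hW, hx⟩ := QCohMod.exists_affine_mem x
  rw [stalkIdeal_eq_map _ ⟨W, hW⟩ hx, Scheme.IdealSheafData.mem_support_iff_of_mem (U := ⟨W, hW⟩) hx,
    Scheme.mem_zeroLocus_iff]
  constructor
  · intro h f hf hfx
    rw [Scheme.mem_basicOpen X f x hx] at hfx
    exact h (Ideal.eq_top_of_isUnit_mem _ (Ideal.mem_map_of_mem _ hf) hfx)
  · intro h htop
    refine (IsLocalRing.maximalIdeal.isMaximal _).ne_top (top_le_iff.1 (htop.ge.trans ?_))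
    rw [Ideal.map_le_iff_le_comap]
    intro f hf hu
    exact h f hf ((Scheme.mem_basicOpen X f x hx).2 hu)

/-- `(F ⊗ O_X/I)_x = F_x / I_x F_x`. -/
noncomputable def stalkQuotEquiv (F : X.Modules) (I : X.IdealSheafData) (x : X) :
    (CohB1.tensorMod F (ClSub.quotMod I)).presheaf.stalk x ≃ₗ[X.presheaf.stalk x]
      (F.presheaf.stalk x ⧸ stalkIdeal I x • (⊤ : Submodule (X.presheaf.stalk x) (F.presheaf.stalk x))) :=
  (QCohMod.stalkTensorEquiv F (ClSub.quotMod I) x).symm ≪≫ₗ
    TensorProduct.congr (LinearEquiv.refl _ _)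
      ((quotStalk I x).quotKerEquivOfSurjective (quotStalk_surjective I x)).symm ≪≫ₗ
    TensorProduct.tensorQuotEquivQuotSMul (F.presheaf.stalk x) (stalkIdeal I x)

theorem isCoh_tensor_quotMod [IsLocallyNoetherian X] {F : X.Modules} (hF : Coh.IsCoh F)
    (I : X.IdealSheafData) : Coh.IsCoh (CohB1.tensorMod F (ClSub.quotMod I)) :=
  have := hF.1
  have := (DegMono.isCoh_quotMod I).1
  ⟨QCohMod.isQCoh_tensorMod (M := F) (N := ClSub.quotMod I),
    QCohMod.isFT_tensorMod hF.2 (DegMono.isCoh_quotMod I).2⟩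

theorem support_tensor_quotMod [IsLocallyNoetherian X] {F : X.Modules} (hF : Coh.IsCoh F)
    (I : X.IdealSheafData) :
    CohB1.support (CohB1.tensorMod F (ClSub.quotMod I)) = CohB1.support F ∩ I.support := by
  ext x
  have := hF.1
  have hfin : Module.Finite (X.presheaf.stalk x) (F.presheaf.stalk x) := QCohMod.finite_stalk F hF.2 x
  change ¬ Subsingleton _ ↔ ¬ Subsingleton (F.presheaf.stalk x) ∧ x ∈ I.support
  rw [← stalkIdeal_ne_top_iff, (stalkQuotEquiv F I x).toEquiv.subsingleton_congr,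
    Submodule.Quotient.subsingleton_iff]
  constructor
  · intro h
    refine ⟨fun hs => h ((Submodule.subsingleton_iff _).2 hs |>.elim _ _), fun htop => h ?_⟩
    rw [htop, Submodule.top_smul]
  · rintro ⟨hne, htop⟩ heq
    rw [not_subsingleton_iff_nontrivial] at hne
    exact LocCohBase.smul_maximalIdeal_ne_top (F.presheaf.stalk x) htop heq

end Groth.Inter
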