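import Groth.Agent.Inter.Delta
import Groth.Agent.DerivedCoh.KFlat.SchemeStalk
import Groth.Agent.PicAux.EffCartierLine
import Groth.Agent.Divisors.Assoc

/-!
# Restriction to effective Cartier divisors

`0 → I_D ⊗ F → F → F ⊗ O_D → 0` is exact when `D` contains no associated point of `F`, so
`Δ_{I_D} χ(F) = χ(F ⊗ O_D)`.
-/

universe u

open CategoryTheory CategoryTheory.Limits AlgebraicGeometry TopologicalSpace Opposite MonoidalCategory

namespace Groth.Inter

variable {X : Scheme.{u}}

open Groth.DerivedCoh.KFlat in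
/-- Local equations avoiding the associated points act injectively on stalks. -/
theorem germ_smul_injective {F : X.Modules} (hF : F.IsQuasicoherent) {D : X.IdealSheafData}
    {W : X.affineOpens} {g : Γ(X, W.1)} (hg : D.ideal W = Ideal.span {g})
    (hass : ∀ x ∈ D.support, ¬ Curv2.IsWeakAssPoint F x) {x : X} (hx : x ∈ W.1)
    (m : F.presheaf.stalk x) (hm : X.presheaf.germ W.1 x hx g • m = 0) : m = 0 := by
  by_contra hne
  obtain ⟨V, hxV, s, rfl⟩ := QCohMod.exists_germ F x m
  have hxU : x ∈ W.1 ⊓ V := ⟨hx, hxV⟩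
  let s' : Γ(F, W.1 ⊓ V) := PicAux.res F inf_le_right s
  let g' : Γ(X, W.1 ⊓ V) := PicAux.resX X inf_le_left g
  have h0 : F.presheaf.germ (W.1 ⊓ V) x hxU (g' • s') = F.presheaf.germ (W.1 ⊓ V) x hxU 0 := by
    rw [map_zero]
    change QCohMod.germ F x hxU (g' • s') = 0
    rw [QCohMod.germ_smul, show QCohMod.germ F x hxU s' = _ from QCohMod.germ_res F inf_le_right x hxU s,
      show X.presheaf.germ (W.1 ⊓ V) x hxU g' = _ from
        TopCat.Presheaf.germ_res_apply X.presheaf (homOfLE inf_le_left) x hxU g]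
    exact hm
  obtain ⟨O, hxO, i, j, e⟩ := TopCat.Presheaf.germ_eq F.presheaf x _ _ _ _ h0
  rw [map_zero] at e
  have e' : PicAux.resX X i.le g' • PicAux.res F i.le s' = 0 :=
    (PicAux.res_smul (M := F) i.le g' s').symm.trans e
  have hsx : F.presheaf.germ O x hxO (PicAux.res F i.le s') ≠ 0 := by
    intro h
    refine hne (Eq.trans ?_ h)
    change QCohMod.germ F x hxV s = QCohMod.germ F x hxO (PicAux.res F i.le s')
    exact ((QCohMod.germ_res F i.le x hxO s').trans (QCohMod.germ_res F inf_le_right x hxU s)).symm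
  obtain ⟨y, hyO, -, hwa, hy0⟩ := Divisors.exists_weakAss_germ_ne_zero hF _ hxO hsx
  have hyW : y ∈ W.1 := (i.le hyO).1
  have hu : IsUnit (X.presheaf.germ W.1 y hyW g) := by
    by_contra hnu
    exact hass y ((Divisors.mem_support_iff_not_isUnit hg hyW).2 hnu) hwa
  refine hy0 ((IsUnit.smul_eq_zero hu).mp ?_)
  change _ • QCohMod.germ F y hyO (PicAux.res F i.le s') = 0
  rw [← show X.presheaf.germ O y hyO (PicAux.resX X i.le g') = _ from
    (TopCat.Presheaf.germ_res_apply X.presheaf i y hyO g').trans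
      (TopCat.Presheaf.germ_res_apply X.presheaf (homOfLE inf_le_left) y (i.le hyO) g),
    ← QCohMod.germ_smul, e', map_zero]

open Groth.DerivedCoh.KFlat in
/-- Tensoring the inclusion of a divisor with a stalk on which its equation is injective. -/
theorem injective_lTensor_idealModι {F : X.Modules} {D : X.IdealSheafData} {x : X} {W : X.affineOpens}
    {hxW : x ∈ W.1} {k₀ : Γ(ClSub.idealMod D, W.1)} (hgen : PicAux.Gen (ClSub.idealMod D) W.1 k₀)
    (hreg : ∀ m : (stk x).obj F,
      (X.presheaf.germ W.1 x hxW (OmegaSh.idealSect D W.1 k₀) : X.presheaf.stalk x) • m = 0 → m = 0) :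
    Function.Injective ((((ShortComplex.mk (ClSub.idealModι D) (ClSub.toSubscheme D)
      (kernel.condition (ClSub.toSubscheme D))).map (stk x)).f).hom.lTensor ((stk x).obj F)) := by
  let S₀ := (ShortComplex.mk (ClSub.idealModι D) (ClSub.toSubscheme D)
    (kernel.condition (ClSub.toSubscheme D))).map (stk x)
  let ε : S₀.X₁ := (ClSub.idealMod D).presheaf.germ W.1 x hxW k₀
  have hsurj : ∀ t : S₀.X₁, ∃ r : X.presheaf.stalk x, t = r • ε := fun t => by
    obtain ⟨V, hxV, s, rfl⟩ := QCohMod.exists_germ (ClSub.idealMod D) x t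
    obtain ⟨c, hc⟩ := hgen.exists_coeff (inf_le_left : W.1 ⊓ V ≤ W.1) (PicAux.res _ inf_le_right s)
    refine ⟨X.presheaf.germ (W.1 ⊓ V) x ⟨hxW, hxV⟩ c, ?_⟩
    rw [← QCohMod.germ_res (ClSub.idealMod D) (inf_le_right : W.1 ⊓ V ≤ V) x ⟨hxW, hxV⟩ s]
    change _ = (X.presheaf.germ (W.1 ⊓ V) x ⟨hxW, hxV⟩ c : X.presheaf.stalk x) •
      QCohMod.germ (ClSub.idealMod D) x hxW k₀
    rw [← QCohMod.germ_res (ClSub.idealMod D) (inf_le_left : W.1 ⊓ V ≤ W.1) x ⟨hxW, hxV⟩ k₀,
      ← QCohMod.germ_smul]
    exact congrArg _ hc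
  have hpure : ∀ z : TensorProduct (X.presheaf.stalk x) ((stk x).obj F) S₀.X₁,
      ∃ m : (stk x).obj F, z = TensorProduct.tmul _ m ε := fun z => by
    induction z using TensorProduct.induction_on with
    | zero => exact ⟨0, (TensorProduct.zero_tmul _ _).symm⟩
    | tmul m t =>
      obtain ⟨r, rfl⟩ := hsurj t
      exact ⟨r • m, (TensorProduct.smul_tmul r m ε).symm⟩
    | add p q hp hq =>
      obtain ⟨a, rfl⟩ := hp
      obtain ⟨b, rfl⟩ := hq
      exact ⟨a + b, (TensorProduct.add_tmul a b ε).symm⟩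
  let lin : S₀.X₂ →ₗ[X.presheaf.stalk x] X.presheaf.stalk x :=
    (LinearEquiv.ofBijective (LinearMap.toSpanSingleton (X.presheaf.stalk x)
      ((Coh.structureModule X).presheaf.stalk x)
      (QCohMod.germ (Coh.structureModule X) x hxW (PicAux.oneSec X W.1)))
      ⟨(injective_iff_map_eq_zero _).2 fun r hr =>
        PicAux.germ_smul_eq_zero (PicAux.gen_oneSec W.1) hxW hr, fun t => by
        obtain ⟨V, hxV, s, rfl⟩ := QCohMod.exists_germ (Coh.structureModule X) x t
        obtain ⟨c, hc⟩ := (PicAux.gen_oneSec W.1).exists_coeff (inf_le_left : W.1 ⊓ V ≤ W.1)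
          (PicAux.res _ inf_le_right s)
        refine ⟨X.presheaf.germ (W.1 ⊓ V) x ⟨hxW, hxV⟩ c, ?_⟩
        rw [← QCohMod.germ_res (Coh.structureModule X) (inf_le_right : W.1 ⊓ V ≤ V) x ⟨hxW, hxV⟩ s]
        change (X.presheaf.germ (W.1 ⊓ V) x ⟨hxW, hxV⟩ c : X.presheaf.stalk x) •
          QCohMod.germ (Coh.structureModule X) x hxW (PicAux.oneSec X W.1) = _
        rw [← QCohMod.germ_res (Coh.structureModule X) (inf_le_left : W.1 ⊓ V ≤ W.1) x ⟨hxW, hxV⟩
          (PicAux.oneSec X W.1), ← QCohMod.germ_smul]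
        exact congrArg _ hc.symm⟩).symm.toLinearMap
  have hlin : lin (S₀.f.hom ε) = X.presheaf.germ W.1 x hxW (OmegaSh.idealSect D W.1 k₀) := by
    refine (LinearEquiv.symm_apply_eq _).2 ?_
    change S₀.f.hom ε = (X.presheaf.germ W.1 x hxW (OmegaSh.idealSect D W.1 k₀) : X.presheaf.stalk x) •
      QCohMod.germ (Coh.structureModule X) x hxW (PicAux.oneSec X W.1)
    rw [← QCohMod.germ_smul]
    refine (DerSch.stalkFunctor_map_germ x (ClSub.idealModι D) W.1 hxW k₀).trans ?_
    refine congrArg (QCohMod.germ (Coh.structureModule X) x hxW) ?_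
    exact (mul_one (OmegaSh.idealSect D W.1 k₀)).symm
  refine (injective_iff_map_eq_zero _).2 fun z hz => ?_
  obtain ⟨m, rfl⟩ := hpure z
  have h1 := congrArg (fun w => TensorProduct.rid (X.presheaf.stalk x) _ (lin.lTensor _ w)) hz
  simp only [LinearMap.lTensor_tmul, map_zero, TensorProduct.rid_tmul] at h1
  have h2 := (congrArg (· • m) hlin).symm.trans h1
  exact (congrArg (fun q : (stk x).obj F => TensorProduct.tmul (X.presheaf.stalk x) q ε)
    (hreg m h2)).trans (TensorProduct.zero_tmul _ _)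

open Groth.DerivedCoh.KFlat in
/-- The sequence of a divisor avoiding the associated points, tensored with the module. -/
theorem shortExact_tensor_cartier {F : X.Modules} (hF : F.IsQuasicoherent) {D : X.IdealSheafData}
    (hD : BlowUp.IsEffCartierIdeal D) (hass : ∀ x ∈ D.support, ¬ Curv2.IsWeakAssPoint F x) :
    ((ShortComplex.mk (ClSub.idealModι D) (ClSub.toSubscheme D)
      (kernel.condition (ClSub.toSubscheme D))).map ((DCoh.tensorBi (X := X)).obj F)).ShortExact := by
  rw [shortExact_iff_stk]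
  intro x
  refine ShortComplex.shortExact_of_iso (ShortComplex.mapNatIso _ (tensorStkIso F x)).symm ?_
  let S₀ := (ShortComplex.mk (ClSub.idealModι D) (ClSub.toSubscheme D)
    (kernel.condition (ClSub.toSubscheme D))).map (stk x)
  have h : S₀.ShortExact := (shortExact_iff_stk _).1 (PicAux.shortExact_idealMod D) x
  have he : Function.Exact S₀.f.hom S₀.g.hom :=
    LinearMap.exact_iff.2 (S₀.moduleCat_exact_iff_range_eq_ker.1 h.exact).symm
  have hs : Function.Surjective S₀.g.hom := (ModuleCat.epi_iff_surjective _).1 h.epi_g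
  obtain ⟨W, hxW, -, k₀, hgen, -, hW⟩ := PicAux.exists_gen_idealMod hD x ⊤ trivial
  have hinj : Function.Injective (S₀.f.hom.lTensor ((stk x).obj F)) := by
    exact injective_lTensor_idealModι hgen fun m hm => germ_smul_injective hF hW hass hxW m hm
  exact
    { exact := (ShortComplex.moduleCat_exact_iff_range_eq_ker _).2
        (LinearMap.exact_iff.1 (lTensor_exact ((stk x).obj F) he hs)).symm
      mono_f := (ModuleCat.mono_iff_injective _).2 hinj
      epi_g := (ModuleCat.epi_iff_surjective _).2 (LinearMap.lTensor_surjective ((stk x).obj F) hs) }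

variable (k : Type u) [Field k] [X.Over (Spec (CommRingCat.of k))]
  [IsProper (X ↘ Spec (CommRingCat.of k))]

/-- A difference along a divisor is the restriction to it. -/
theorem delta_idealMod_cons {F : X.Modules} (hF : Coh.IsCoh F) {D : X.IdealSheafData}
    (hD : BlowUp.IsEffCartierIdeal D) (hass : ∀ x ∈ D.support, ¬ Curv2.IsWeakAssPoint F x)
    {l : List X.Modules} (hl : ∀ M ∈ l, PicF.IsInvertible M) :
    delta k (ClSub.idealMod D :: l) F = delta k l (CohB1.tensorMod F (ClSub.quotMod D)) := by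
  have := isNoetherian k (X := X)
  have hS := shortExact_tensor_cartier hF.1 hD hass
  have h₁ : Coh.IsCoh (CohB1.tensorMod F (ClSub.idealMod D)) :=
    QCohMod.isCoh_of_iso (tensor_comm _ F).some (isCoh_twist (PicAux.isInvertible_idealMod hD) hF)
  have h₂ : Coh.IsCoh (CohB1.tensorMod F (Coh.structureModule X)) :=
    QCohMod.isCoh_of_iso (SecTwist.unitorR F).symm hF
  have h₃ : Coh.IsCoh (CohB1.tensorMod F (ClSub.quotMod D)) := by
    have : (CohB1.tensorMod F (ClSub.idealMod D)).IsQuasicoherent := h₁.1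
    have := hS.epi_g
    exact QCohMod.isCoh_of_iso
      (IsColimit.coconePointUniqueUpToIso (cokernelIsCokernel _) hS.gIsCokernel)
      (QCohMod.isCoh_cokernel (M := CohB1.tensorMod F (ClSub.idealMod D)) _ h₂)
  have e := delta_add k hl hS h₁ h₃
  change delta k l (CohB1.tensorMod F (Coh.structureModule X)) =
    delta k l (CohB1.tensorMod F (ClSub.idealMod D)) + delta k l (CohB1.tensorMod F (ClSub.quotMod D)) at e
  rw [delta_congr k l ⟨SecTwist.unitorR F⟩, delta_congr k l (tensor_comm F (ClSub.idealMod D))] at e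
  rw [delta_cons, e]
  ring

end Groth.Inter
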