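import Groth.Agent.Inter.NakaiInd

/-!
# The criterion of Nakai and Moishezon and its variants
-/

universe u

open CategoryTheory CategoryTheory.Limits AlgebraicGeometry TopologicalSpace Opposite

namespace Groth.Inter

open Groth.PicAux Groth.HilbStab

attribute [local instance] Groth.EulerDeg.secModule

variable (k : Type u) [Field k] {X : Scheme.{u}} [X.Over (Spec (CommRingCat.of k))]

/-- Iterated differences of a direct image along a closed immersion. -/
theorem delta_push {Z : Scheme.{u}} [Z.Over (Spec (CommRingCat.of k))] (i : Z ⟶ X) [IsClosedImmersion i]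
    (hi : i ≫ (X ↘ Spec (CommRingCat.of k)) = Z ↘ Spec (CommRingCat.of k)) :
    ∀ (l : List X.Modules), (∀ N ∈ l, PicF.IsInvertible N) → ∀ G : Z.Modules,
      delta k l ((Coh.push i).obj G) = delta k (l.map (Scheme.Modules.pullback i).obj) G
  | [], _, G => euler_push k i hi G
  | a :: l, hl, G => by
    simp only [List.map_cons, delta_cons]
    rw [delta_congr k l (tensor_push i (hl a (by simp)) G),
      delta_push i hi l (fun N hN => hl N (by simp [hN])),
      delta_push i hi l (fun N hN => hl N (by simp [hN]))]

variable [IsProper (X ↘ Spec (CommRingCat.of k))]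

include k in
theorem support_closureStructureSheaf_eq (ξ : X) :
    CohB1.support (Cyc.closureStructureSheaf ξ) = closure {ξ} := by
  have : IsNoetherian X := isNoetherian k
  refine Set.Subset.antisymm (KTheory.Devissage.support_closureStructureSheaf_subset ξ)
    (closure_minimal (Set.singleton_subset_iff.2 fun h => ?_)
      (CohTwo.isClosed_support _ (KTheory.Devissage.isCoh_closureStructureSheaf ξ)))
  have h1 := KTheory.Devissage.length_closureStructureSheaf ξ
  rw [Module.length_eq_zero_iff.2 h] at h1
  exact zero_ne_one h1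

/-- An inverse changes the top self-intersection by a sign. -/
theorem delta_inverse_cons {L M : X.Modules} (hL : PicF.IsInvertible L)
    (hLM : Nonempty (CohB1.tensorMod L M ≅ Coh.structureModule X)) {l : List X.Modules}
    (hl : ∀ N ∈ l, PicF.IsInvertible N) {F : X.Modules} (hF : Coh.IsCoh F)
    (hdim : topologicalKrullDim (CohB1.support F) ≤ (l.length + 1 : ℕ)) :
    delta k (L :: l) F = - delta k (M :: l) F := by
  have h := delta_tensor k hL (PicAux.isInvertible_of_isInverseOf hL hLM) hl hF hdim
  have h0 : delta k (CohB1.tensorMod L M :: l) F = 0 := by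
    rw [delta_cons, sub_eq_zero]
    exact delta_congr k l ⟨((tensor_congr hLM ⟨Iso.refl F⟩).some ≪≫ (tensor_one F).some).symm⟩
  omega

/-- The sign of the top self-intersection of an inverse. -/
theorem delta_replicate_inverse {L M : X.Modules} (hL : PicF.IsInvertible L)
    (hLM : Nonempty (CohB1.tensorMod L M ≅ Coh.structureModule X)) {F : X.Modules} (hF : Coh.IsCoh F) :
    ∀ (d : ℕ) (l : List X.Modules), (∀ N ∈ l, PicF.IsInvertible N) →
      topologicalKrullDim (CohB1.support F) ≤ ((d + l.length : ℕ) : WithBot ℕ∞) →
      delta k (List.replicate d L ++ l) F = (-1) ^ d * delta k (List.replicate d M ++ l) F := by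
  intro d
  induction d with
  | zero => intro l _ _; simp
  | succ d ih =>
    intro l hl hdim
    have hM := PicAux.isInvertible_of_isInverseOf hL hLM
    have hlen : d + (L :: l).length = d + 1 + l.length := by simp; omega
    rw [List.replicate_succ', List.append_assoc, List.singleton_append,
      ih (L :: l) (by simpa [hL] using hl) (by rw [hlen]; exact hdim),
      delta_perm k (List.perm_middle (l₁ := List.replicate d M)) F,
      delta_inverse_cons k hL hLM (l := List.replicate d M ++ l) ?_ hF ?_,
      List.replicate_succ, List.cons_append, pow_succ]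
    · ring
    · intro N hN
      rcases List.mem_append.1 hN with h | h
      · exact (List.eq_of_mem_replicate h).symm ▸ hM
      · exact hl N h
    · refine hdim.trans_eq ?_
      rw [List.length_append, List.length_replicate]
      congr 1
      exact_mod_cast (show d + 1 + l.length = d + l.length + 1 by omega)

/-- Nakai–Moishezon: positivity of the top self-intersections implies ampleness. -/
theorem isAmple_of_delta_pos {L M : X.Modules} (hL : PicF.IsInvertible L)
    (hLM : Nonempty (CohB1.tensorMod L M ≅ Coh.structureModule X))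
    (h : ∀ (ξ : X) (d : ℕ), topologicalKrullDim (closure ({ξ} : Set X)) = ((d + 1 : ℕ) : WithBot ℕ∞) →
      0 < delta k (List.replicate (d + 1) M) (Cyc.closureStructureSheaf ξ)) :
    CohB1.IsAmple L := by
  refine isAmple_of_grows k hL fun ξ _ d hd => ?_
  intro hsm
  let i := (IntMult.ptIdeal ξ).subschemeι
  letI : (IntMult.ptIdeal ξ).subscheme.Over (Spec (CommRingCat.of k)) :=
    ⟨i ≫ (X ↘ Spec (CommRingCat.of k))⟩
  have : IsProper ((IntMult.ptIdeal ξ).subscheme ↘ Spec (CommRingCat.of k)) :=
    inferInstanceAs (IsProper (i ≫ (X ↘ Spec (CommRingCat.of k))))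
  have hM := PicAux.isInvertible_of_isInverseOf hL hLM
  refine hgrow_of_delta_pos k (PicAux.isInvertible_pullback i hL)
    (M := (Scheme.Modules.pullback i).obj M)
    ⟨(exists_pullback_tensorMod i L M).choose.symm ≪≫ (Scheme.Modules.pullback i).mapIso hLM.some ≪≫
      (pullback_structure_iso i).some⟩
    (((dim_ptIdeal_subscheme ξ).trans hd).le) hsm ?_
  have e := delta_push k i rfl (List.replicate (d + 1) M)
    (fun N hN => (List.eq_of_mem_replicate hN).symm ▸ hM) (Coh.structureModule _)
  rw [List.map_replicate] at e
  rw [← e]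
  exact h ξ d hd

/-- The converse. -/
theorem delta_pos_of_isAmple {L M : X.Modules} (hL : CohB1.IsAmple L)
    (hLM : Nonempty (CohB1.tensorMod L M ≅ Coh.structureModule X)) (ξ : X) (d : ℕ)
    (hd : topologicalKrullDim (closure ({ξ} : Set X)) = (d : WithBot ℕ∞)) :
    0 < delta k (List.replicate d M) (Cyc.closureStructureSheaf ξ) := by
  refine delta_pos k _ (fun N hN => (List.eq_of_mem_replicate hN).symm ▸ ⟨L, hL, hLM⟩) _
    (@KTheory.Devissage.isCoh_closureStructureSheaf _ (isNoetherian k).toIsLocallyNoetherian ξ) ?_
  rw [support_closureStructureSheaf_eq k ξ, hd, List.length_replicate]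

/-- Strictly nef invertible modules with a section of a power on every subvariety are ample. -/
theorem isAmple_of_strictlyNef_effective {L : X.Modules} (hL : PicF.IsInvertible L)
    (hnef : ∀ y : X, topologicalKrullDim (closure ({y} : Set X)) = ((1 : ℕ) : WithBot ℕ∞) →
      delta k [L] (Cyc.closureStructureSheaf y) < 0)
    (heff : ∀ (ξ : X) [IsIntegral (IntMult.ptIdeal ξ).subscheme] (d : ℕ),
      topologicalKrullDim (closure ({ξ} : Set X)) = ((d + 1 : ℕ) : WithBot ℕ∞) →
      ∃ (m : ℕ) (s : Γ(CohB1.tensorPow ((Scheme.Modules.pullback (IntMult.ptIdeal ξ).subschemeι).obj L)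
        (m + 1), (⊤ : (IntMult.ptIdeal ξ).subscheme.Opens))), s ≠ 0) :
    CohB1.IsAmple L := by
  refine isAmple_of_grows k hL fun ξ _ d hd => ?_
  intro hsm
  let Z := (IntMult.ptIdeal ξ).subscheme
  let i := (IntMult.ptIdeal ξ).subschemeι
  letI : Z.Over (Spec (CommRingCat.of k)) := ⟨i ≫ (X ↘ Spec (CommRingCat.of k))⟩
  have : IsProper (Z ↘ Spec (CommRingCat.of k)) :=
    inferInstanceAs (IsProper (i ≫ (X ↘ Spec (CommRingCat.of k))))
  let LZ := (Scheme.Modules.pullback i).obj L
  have hLZ : PicF.IsInvertible LZ := PicAux.isInvertible_pullback i hL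
  obtain ⟨m, s, hs⟩ := heff ξ d hd
  refine hgrow_of_section k hLZ hsm hs ?_
  -- otherwise `L^(m+1)` is trivial on `Z`, hence of degree zero on a curve in `Z`
  by_contra hne
  let O := Coh.structureModule Z
  let P := CohB1.tensorPow LZ (m + 1)
  have hP : PicF.IsInvertible P := isInvertible_tensorPow hLZ _
  have hO : PicF.IsInvertible O := EulerDeg.isInvertible_structureModule Z
  have hZN : IsNoetherian Z := isNoetherian k
  have hN : IsNoetherian X := isNoetherian k
  let f := mulSec s O
  have hgen := genericPoint_mem_gloc hP hs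
  have hf0 : f ≠ 0 := fun h => by
    have hb := mulSec_stalk_bijective s O hgen
    rw [show mulSec s O = 0 from h, Functor.map_zero] at hb
    have : Nontrivial (O.presheaf.stalk (genericPoint Z)) :=
      (RefRank.oneEquiv (genericPoint Z)).toEquiv.nontrivial_congr.1 inferInstance
    obtain ⟨a, ha⟩ := exists_ne (0 : O.presheaf.stalk (genericPoint Z))
    exact ha (hb.1 rfl)
  have hmono : Mono f := EulerDeg.mono_of_ne_zero hO (isInvertible_tensorMod hO hP) hf0
  have hepi : Epi f := Preadditive.epi_of_isZero_cokernel f (by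
    have hc : Coh.IsCoh (cokernel f) := by
      have := (isCoh_of_isInvertible hO).1
      have := (RefRank.isCoh_tensorMod (isCoh_of_isInvertible hO) (isCoh_of_isInvertible hP)).1
      exact QCohMod.isCoh_cokernel f
        (RefRank.isCoh_tensorMod (isCoh_of_isInvertible hO) (isCoh_of_isInvertible hP))
    have := hc.1
    exact (QCohMod.isZero_iff_support_eq_empty _).2 (Set.not_nonempty_iff_eq_empty.1 hne))
  have : IsIso f := isIso_of_mono_of_epi f
  have eP : P ≅ O := ((asIso f) ≪≫ (tensor_one P).some).symm
  -- a curve in `Z`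
  obtain ⟨y', hy'⟩ : ∃ y' : Z, Order.height y' = ((1 : ℕ) : ℕ∞) := by
    have h1 : topologicalKrullDim Z = ((d + 1 : ℕ) : WithBot ℕ∞) := (dim_ptIdeal_subscheme ξ).trans hd
    rw [Variety2.Dim.dim_eq_height_genericPoint] at h1
    have h2 : Order.height (genericPoint Z) = ((d + 1 : ℕ) : ℕ∞) := WithBot.coe_inj.1 h1
    rcases Nat.eq_zero_or_pos d with rfl | hd0
    · exact ⟨_, h2⟩
    · obtain ⟨y, -, hy⟩ := (Order.coe_lt_height_iff (x := genericPoint Z) (n := 1)
        (h2 ▸ ENat.natCast_lt_top _)).1 (h2 ▸ by exact_mod_cast Nat.succ_lt_succ hd0)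
      exact ⟨y, hy⟩
  let y := i y'
  have hy : topologicalKrullDim (closure ({y} : Set X)) = ((1 : ℕ) : WithBot ℕ∞) := by
    rw [Variety2.Dim.dim_closure_singleton,
      Variety2.Dim.height_eq_of_isPreimmersion (Z ↘ Spec (CommRingCat.of k))
        (X ↘ Spec (CommRingCat.of k)) i rfl y', hy']
    rfl
  let G' := Cyc.closureStructureSheaf y'
  have hG' : Coh.IsCoh G' := KTheory.Devissage.isCoh_closureStructureSheaf y'
  let G := (Coh.push i).obj G'
  have hG : Coh.IsCoh G := CohTwo.isCoh_push i hG'
  have hGy : y ∈ CohB1.support G := fun h => by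
    have h1 : y' ∈ CohB1.support G' := (support_closureStructureSheaf_eq k y').symm ▸ subset_closure rfl
    exact h1 (@Equiv.subsingleton _ _ (Equiv.ofBijective _ (CohTwo.bijective_pushStalk i G' y')).symm h)
  have hGs : CohB1.support G ⊆ closure {y} := fun x hx => by
    obtain ⟨z, rfl⟩ := CohTwo.support_push_subset i G' hx
    have hz : z ∈ CohB1.support G' := fun h =>
      hx (@Equiv.subsingleton _ _ (Equiv.ofBijective _ (CohTwo.bijective_pushStalk i G' z)) h)
    rw [support_closureStructureSheaf_eq k y'] at hz
    exact (map_mem_closure i.continuous hz fun w hw => by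
      rw [Set.mem_singleton_iff] at hw ⊢
      rw [hw])
  have hGd : topologicalKrullDim (CohB1.support G) ≤ ((1 : ℕ) : WithBot ℕ∞) :=
    (LocCohTransform.topologicalKrullDim_mono hGs).trans hy.le
  have hLP : PicF.IsInvertible (CohB1.tensorPow L (m + 1)) := isInvertible_tensorPow hL _
  have h0 : delta k [CohB1.tensorPow L (m + 1)] G = 0 := by
    rw [delta_push k i rfl [CohB1.tensorPow L (m + 1)] (by simpa using hLP)]
    simp only [List.map_cons, List.map_nil, delta_cons, delta_nil, sub_eq_zero]
    exact EulerDeg.euler_congr k ((tensor_congr ⟨(pullback_tensorPow i L (m + 1)).some ≪≫ eP⟩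
      ⟨Iso.refl G'⟩).some ≪≫ (tensor_one G').some).symm
  rw [delta_pow_cons k hL (l := []) (by simp) hG hGd (m + 1),
    delta_eq_sum_length k (l := [L]) (by simpa using hL) hG hGd {y} (fun x => ?_),
    Finset.sum_singleton] at h0
  · have h1 : 0 < (Module.length (X.presheaf.stalk y) (G.presheaf.stalk y)).toNat := by
      rw [Nat.pos_iff_ne_zero, ne_eq, ENat.toNat_eq_zero, not_or]
      exact ⟨fun h => hGy (Module.length_eq_zero_iff.1 h),
        KTheory.Devissage.length_stalk_ne_top hG y fun z hz hzy =>
          (eq_of_dim_closure hzy.mem_closure ((LocCohTransform.topologicalKrullDim_mono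
            (closure_minimal (Set.singleton_subset_iff.2 hz)
              (CohTwo.isClosed_support G hG))).trans hGd) hy.ge).symm⟩
    exact (mul_ne_zero (Int.natCast_ne_zero.2 (Nat.succ_ne_zero m))
      (mul_neg_of_pos_of_neg (Int.natCast_pos.2 h1) (hnef y hy)).ne) h0
  · rw [Finset.mem_singleton]
    constructor
    · rintro rfl
      exact ⟨hGy, hy⟩
    · rintro ⟨hx, hxd⟩
      exact eq_of_dim_closure (hGs hx) hy.le hxd.ge

/-- Ampleness depends only on the degrees on integral curves. -/
theorem isAmple_of_curveEq {L L' : X.Modules} (hL : CohB1.IsAmple L) (hL' : PicF.IsInvertible L')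
    (h : CurveEq k L L') : CohB1.IsAmple L' := by
  have hN : IsNoetherian X := isNoetherian k
  obtain ⟨M, hM, hLM⟩ := exists_isInverseOf hL.1
  obtain ⟨M', hM', hLM'⟩ := exists_isInverseOf hL'
  refine isAmple_of_delta_pos k hL' hLM' fun ξ d hd => ?_
  have hc := KTheory.Devissage.isCoh_closureStructureSheaf ξ
  have hdim : topologicalKrullDim (CohB1.support (Cyc.closureStructureSheaf ξ)) ≤
      ((d + 1 : ℕ) : WithBot ℕ∞) :=
    (LocCohTransform.topologicalKrullDim_mono
      (KTheory.Devissage.support_closureStructureSheaf_subset ξ)).trans hd.le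
  have h1 := delta_replicate_inverse k hL.1 hLM hc (d + 1) [] (by simp) (by simpa using hdim)
  have h2 := delta_replicate_inverse k hL' hLM' hc (d + 1) [] (by simp) (by simpa using hdim)
  simp only [List.append_nil] at h1 h2
  have h3 := delta_eq_of_curveEq k (d + 1) (List.replicate (d + 1) L) (List.replicate (d + 1) L')
    List.length_replicate (List.forall₂_iff_get.2 ⟨by simp, fun n a b => by
      simp only [List.get_eq_getElem, List.getElem_replicate]
      exact ⟨hL.1, hL', h⟩⟩) _ hc hdim
  rw [h1, h2] at h3
  rw [← mul_left_cancel₀ (pow_ne_zero _ (by norm_num : (-1 : ℤ) ≠ 0)) h3]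
  exact delta_pos_of_isAmple k hL hLM ξ (d + 1) hd

/-- An ample invertible module is strictly nef. -/
theorem delta_neg_of_isAmple {L : X.Modules} (hL : CohB1.IsAmple L) (y : X)
    (hy : topologicalKrullDim (closure ({y} : Set X)) = ((1 : ℕ) : WithBot ℕ∞)) :
    delta k [L] (Cyc.closureStructureSheaf y) < 0 := by
  have hN : IsNoetherian X := isNoetherian k
  obtain ⟨M, hM, hLM⟩ := exists_isInverseOf hL.1
  rw [delta_inverse_cons k hL.1 hLM (l := []) (by simp)
    (KTheory.Devissage.isCoh_closureStructureSheaf y)
    ((LocCohTransform.topologicalKrullDim_mono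
      (KTheory.Devissage.support_closureStructureSheaf_subset y)).trans hy.le)]
  have := delta_pos_of_isAmple k hL hLM y 1 hy
  simp only [List.replicate_one] at this
  omega

/-- The support of the ideal of a point. -/
theorem dim_support_ptIdeal (y : X) :
    topologicalKrullDim ((IntMult.ptIdeal y).support : Set X) =
      topologicalKrullDim (closure ({y} : Set X)) := by
  rw [IntMult.ptIdeal, Scheme.IdealSheafData.coe_support_vanishingIdeal]
  rfl

/-- Numerical equivalence, phrased with the reduced curves as closed subschemes. -/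
theorem curveEq_of_forall {L L' : X.Modules}
    (h : ∀ C : X.IdealSheafData, IsIntegral C.subscheme →
      topologicalKrullDim (C.support : Set X) = 1 →
        Curv2.euler k X (CohB1.tensorMod (ClSub.quotMod C) L) =
          Curv2.euler k X (CohB1.tensorMod (ClSub.quotMod C) L')) :
    CurveEq k L L' := fun y hy => by
  have := h (IntMult.ptIdeal y) (CohTwo.isIntegral_closure_subscheme rfl)
    ((dim_support_ptIdeal y).trans hy)
  rw [EulerDeg.euler_congr k (tensor_comm L _).some,
    EulerDeg.euler_congr k (tensor_comm L' _).some]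
  exact this

/-- Strict nefness, phrased with the reduced curves as closed subschemes. -/
theorem delta_neg_of_forall {L : X.Modules}
    (h : ∀ C : X.IdealSheafData, IsIntegral C.subscheme →
      topologicalKrullDim (C.support : Set X) = 1 →
        0 < Curv2.euler k X (CohB1.tensorMod (ClSub.quotMod C) L) - Curv2.euler k X (ClSub.quotMod C))
    (y : X) (hy : topologicalKrullDim (closure ({y} : Set X)) = ((1 : ℕ) : WithBot ℕ∞)) :
    delta k [L] (Cyc.closureStructureSheaf y) < 0 := by
  have := h (IntMult.ptIdeal y) (CohTwo.isIntegral_closure_subscheme rfl)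
    ((dim_support_ptIdeal y).trans (hy.trans (by rfl)))
  rw [delta_cons, delta_nil, delta_nil, EulerDeg.euler_congr k (tensor_comm L _).some]
  change 0 < Curv2.euler k X (CohB1.tensorMod (Cyc.closureStructureSheaf y) L) -
    Curv2.euler k X (Cyc.closureStructureSheaf y) at this
  omega

include k in
/-- Support and coherence of the structure sheaf of a closed subscheme. -/
theorem support_quotMod (I : X.IdealSheafData) :
    Coh.IsCoh (ClSub.quotMod I) ∧ CohB1.support (ClSub.quotMod I) = (I.support : Set X) := by
  have hN : IsNoetherian X := isNoetherian k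
  refine ⟨DegMono.isCoh_quotMod I, Set.Subset.antisymm
    ((CohTwo.support_push_subset I.subschemeι _).trans I.range_subschemeι.le) fun x hx => ?_⟩
  rw [← I.range_subschemeι] at hx
  obtain ⟨z, rfl⟩ := hx
  intro h
  have hne : Nontrivial ((Coh.structureModule I.subscheme).presheaf.stalk z) :=
    (RefRank.oneEquiv z).toEquiv.nontrivial_congr.1 inferInstance
  exact not_subsingleton _ (@Equiv.subsingleton _ _
    (Equiv.ofBijective _ (CohTwo.bijective_pushStalk I.subschemeι _ z)).symm h :
      Subsingleton ((Coh.structureModule I.subscheme).presheaf.stalk z))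

/-- An ample invertible module is strictly nef, for arbitrary curves in `X`. -/
theorem pos_of_isAmple {L : X.Modules} (hL : CohB1.IsAmple L) (C : X.IdealSheafData)
    (hC : topologicalKrullDim (C.support : Set X) = ((1 : ℕ) : WithBot ℕ∞)) :
    0 < Curv2.euler k X (CohB1.tensorMod (ClSub.quotMod C) L) - Curv2.euler k X (ClSub.quotMod C) := by
  obtain ⟨M, hM, hLM⟩ := exists_isInverseOf hL.1
  obtain ⟨hc, hs⟩ := support_quotMod k C
  have h1 := delta_pos k [M] (by simpa using ⟨L, hL, hLM⟩) _ hc (by rw [hs]; exact hC)
  have h2 := delta_inverse_cons k hL.1 hLM (l := []) (by simp) hc (by rw [hs]; exact hC.le)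
  rw [delta_cons k L, delta_nil, delta_nil, EulerDeg.euler_congr k (tensor_comm L _).some] at h2
  omega

omit [X.Over (Spec (CommRingCat.of k))] [IsProper (X ↘ Spec (CommRingCat.of k))] in
/-- Restrictions of globally generated invertible modules have nonzero sections. -/
theorem exists_section_pullback_of_gg {N : X.Modules} (hN : PicF.IsInvertible N)
    (hgg : Curv2.IsGloballyGenerated N) {Z : Scheme.{u}} [Nonempty Z] (i : Z ⟶ X) :
    ∃ s : Γ((Scheme.Modules.pullback i).obj N, (⊤ : Z.Opens)), s ≠ 0 := by
  obtain ⟨J, p, hp⟩ := hgg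
  by_contra hne
  push Not at hne
  let q := (Scheme.Modules.pullback i).map p
  have hq : q = 0 := by
    refine (isColimitOfPreserves (Scheme.Modules.pullback i)
      (SheafOfModules.isColimitFreeCofan (R := X.ringCatSheaf) J)).hom_ext fun j => ?_
    refine Eq.trans ?_ comp_zero.symm
    let ψ : (Coh.structureModule Z) ⟶ (Scheme.Modules.pullback i).obj N :=
      (pullback_structure_iso i).some.inv ≫
        (Scheme.Modules.pullback i).map (SheafOfModules.ιFree j.as ≫ p)
    have hψ : ψ = 0 := hom_structure_ext (by rw [hne (ψ.app ⊤ (oneSec Z ⊤))]; rfl)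
    change (Scheme.Modules.pullback i).map (SheafOfModules.ιFree j.as) ≫
      (Scheme.Modules.pullback i).map p = 0
    rw [← Functor.map_comp, ← cancel_epi (pullback_structure_iso i).some.inv, comp_zero]
    exact hψ
  have := Functor.preservesEpimorphisms_of_adjunction (Scheme.Modules.pullbackPushforwardAdjunction i)
  have hp' : @Epi X.Modules _ _ _ p := hp
  have hepi : Epi q := @Functor.map_epi _ _ _ _ (Scheme.Modules.pullback i) _ _ _ p hp'
  have hz : IsZero ((Scheme.Modules.pullback i).obj N) := by
    rw [IsZero.iff_id_eq_zero, ← cancel_epi q, hq, zero_comp, zero_comp]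
  obtain ⟨z⟩ := (inferInstance : Nonempty Z)
  obtain ⟨e⟩ := exists_stalk_equiv (PicAux.isInvertible_pullback i hN) z
  exact not_subsingleton _ (e.toEquiv.subsingleton_congr.2
    (AddCommGrpCat.subsingleton_of_isZero ((QCohMod.stalk z).map_isZero hz)))

end Groth.Inter
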