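import Groth.Agent.Inter.Surface
import Groth.Agent.Variety2.DimScheme
import Mathlib.RingTheory.Ideal.KrullsHeightTheorem
import Mathlib.AlgebraicGeometry.Morphisms.Proper
import Mathlib.FieldTheory.IsAlgClosed.Basic

/-!
# The zero scheme of a section has codimension one
-/

universe u

open CategoryTheory CategoryTheory.Limits AlgebraicGeometry TopologicalSpace Opposite

namespace Groth.Inter

open Groth.PicAux

attribute [local instance] EulerDeg.secModule

variable (k : Type u) [Field k] {X : Scheme.{u}} [X.Over (Spec (CommRingCat.of k))]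
  [IsProper (X ↘ Spec (CommRingCat.of k))] [IsIntegral X]

/-- On an integral proper scheme over an algebraically closed field `h⁰(O) ≤ 1`. -/
theorem finrank_h0_structure_le [IsAlgClosed k] :
    Module.finrank k (Coh.HH X (Coh.structureModule X) 0) ≤ 1 := by
  rw [(EulerDeg.h0Equiv k (Coh.structureModule X)).finrank_eq]
  let f := X ↘ Spec (CommRingCat.of k)
  let F : k →+* Γ(X, ⊤) := Coh.toGlobal f
  have hF : Function.Bijective F := by
    letI := (isField_of_universallyClosed (K := k) f).toField
    have hfin : F.Finite := RingHom.Finite.comp (finite_appTop_of_universallyClosed (K := k) f)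
      (RingHom.Finite.of_surjective _ (Scheme.ΓSpecIso (CommRingCat.of k)).commRingCatIsoToRingEquiv.symm.surjective)
    letI := F.toAlgebra
    have : Module.Finite k Γ(X, ⊤) := hfin
    exact IsAlgClosed.algebraMap_bijective_of_isIntegral (k := k) (K := Γ(X, ⊤))
  refine finrank_le_one (oneSec X ⊤) fun w => ?_
  obtain ⟨c, hc⟩ := (gen_oneSec (⊤ : X.Opens)).exists_coeff le_rfl w
  obtain ⟨a, ha⟩ := hF.2 c
  refine ⟨a, ?_⟩
  rw [hc, EulerDeg.smul_sec, res_self, ← ha]
  congr 1
  exact resX_self _ _

include k in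
/-- A nonzero section of an invertible module on an integral scheme vanishes in codimension one, if
anywhere. -/
theorem exists_height_of_cokernel {N L : X.Modules} (hN : PicF.IsInvertible N)
    (hL : PicF.IsInvertible L) {φ : N ⟶ L} (hφ : φ ≠ 0) {x : X}
    (hx : x ∈ CohB1.support (cokernel φ)) :
    ∃ y ∈ CohB1.support (cokernel φ), topologicalKrullDim X ≤ (Order.height y : ℕ∞) + 1 := by
  have hNoe : IsNoetherian X := isNoetherian k
  obtain ⟨V₀, g₀, e₀, c₀, hxV₀, hg₀, he₀, hc₀⟩ := EulerDeg.exists_frames (φ := φ) hN hL x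
  obtain ⟨V, hV, hxV, hle⟩ := Opens.isBasis_iff_nbhd.mp X.isBasis_affineOpens hxV₀
  have hg := hg₀.res hle
  have he := he₀.res hle
  have hc : φ.app V (res N hle g₀) = resX X hle c₀ • res L hle e₀ := by
    rw [app_res, hc₀, res_smul]
  set c := resX X hle c₀
  set g := res N hle g₀
  set e := res L hle e₀
  -- outside the zero locus of `c` the map is surjective
  have hsurj : ∀ y : X, y ∈ X.basicOpen c → y ∉ CohB1.support (cokernel φ) := fun y hy => by
    refine CohTwo.notMem_support_cokernel φ y fun t => ?_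
    obtain ⟨U, hyU, l, rfl⟩ := TopCat.Presheaf.exists_germ_eq L.presheaf t
    let W : X.Opens := U ⊓ X.basicOpen c
    have hWV : W ≤ V := inf_le_right.trans (X.basicOpen_le c)
    have hcu : IsUnit (resX X hWV c) := by
      have := (RingedSpace.isUnit_res_basicOpen X.toLocallyRingedSpace.toRingedSpace c).map
        (X.presheaf.map (homOfLE (inf_le_right : W ≤ X.basicOpen c)).op).hom
      rw [← resX_resX (X.basicOpen_le c) (inf_le_right : W ≤ X.basicOpen c)]
      exact this
    obtain ⟨r, hr⟩ := he.exists_coeff hWV (res L (inf_le_left : W ≤ U) l)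
    have hval : φ.app W ((r * ↑hcu.unit⁻¹) • res N hWV g) = res L (inf_le_left : W ≤ U) l := by
      rw [Scheme.Modules.Hom.app_smul, app_res, hc, res_smul, ← mul_smul, mul_assoc,
        IsUnit.val_inv_mul, mul_one, hr]
    refine ⟨N.presheaf.germ W _ ⟨hyU, hy⟩ ((r * ↑hcu.unit⁻¹) • res N hWV g), ?_⟩
    change (TopCat.Presheaf.stalkFunctor Ab.{u} y).map φ.mapPresheaf _ = _
    erw [TopCat.Presheaf.stalkFunctor_map_germ_apply]
    exact (congrArg _ hval).trans
      (TopCat.Presheaf.germ_res_apply L.presheaf (homOfLE (inf_le_left : W ≤ U)) _ _ l)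
  -- conversely
  have hzero : ∀ (y : X) (hyV : y ∈ V), y ∉ CohB1.support (cokernel φ) → y ∈ X.basicOpen c := by
    intro y hyV hy
    have hQ : Subsingleton ↑((Groth.QCohMod.stalk y).obj (cokernel φ)) := not_not.1 hy
    have hex := (ShortComplex.exact_of_g_is_cokernel (ShortComplex.mk φ (cokernel.π φ)
      (cokernel.condition φ)) (cokernelIsCokernel φ)).map (Groth.QCohMod.stalk y)
    rw [ShortComplex.ab_exact_iff] at hex
    obtain ⟨t, ht⟩ := hex (L.presheaf.germ V y hyV e) (hQ.elim _ _)
    obtain ⟨U, hyU, n, rfl⟩ := TopCat.Presheaf.exists_germ_eq N.presheaf t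
    have ht' : L.presheaf.germ U y hyU (φ.app U n) = L.presheaf.germ V y hyV e := by
      refine Eq.trans ?_ ht
      change _ = (TopCat.Presheaf.stalkFunctor Ab.{u} y).map φ.mapPresheaf _
      erw [TopCat.Presheaf.stalkFunctor_map_germ_apply]
      rfl
    obtain ⟨W, hyW, i₁, i₂, hW⟩ := TopCat.Presheaf.germ_eq L.presheaf y hyU hyV _ _ ht'
    have hWV : W ≤ V := i₂.le
    obtain ⟨r, hr⟩ := hg.exists_coeff hWV (res N i₁.le n)
    have h1 : (r * resX X hWV c) • res L hWV e = (1 : Γ(X, W)) • res L hWV e := by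
      rw [one_smul, mul_smul, ← res_smul, ← hc, ← app_res, ← Scheme.Modules.Hom.app_smul, ← hr, app_res]
      exact hW
    have hu : IsUnit (resX X hWV c) := IsUnit.of_mul_eq_one r (by rw [mul_comm]; exact he.smul_inj hWV h1)
    rw [X.mem_basicOpen c y hyV]
    have := hu.map (X.presheaf.germ W y hyW).hom
    rwa [show (X.presheaf.germ W y hyW).hom (resX X hWV c) = X.presheaf.germ V y hyV c from
      TopCat.Presheaf.germ_res_apply X.presheaf (homOfLE hWV) y hyW c] at this
  -- a minimal prime over `c` inside the prime of `x`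
  have hxc : x ∉ X.basicOpen c := fun h => hsurj x h hx
  let P := hV.primeIdealOf ⟨x, hxV⟩
  have hcP : c ∈ P.asIdeal := by
    by_contra hn
    apply hxc
    have hP : P ∈ PrimeSpectrum.basicOpen c := hn
    rw [← hV.fromSpec_preimage_basicOpen] at hP
    have hP' : hV.fromSpec P ∈ X.basicOpen c := hP
    rwa [hV.fromSpec_primeIdealOf ⟨x, hxV⟩] at hP'
  obtain ⟨q, hq, hqP⟩ := Ideal.exists_minimalPrimes_le (I := Ideal.span {c}) (J := P.asIdeal)
    ((Ideal.span_singleton_le_iff_mem _).2 hcP)
  have := hq.isPrime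
  have : IsNoetherianRing Γ(X, V) := IsLocallyNoetherian.component_noetherian (X := X) ⟨V, hV⟩
  have hh : q.height ≤ 1 := Ideal.height_le_one_of_isPrincipal_of_mem_minimalPrimes _ q hq
  let Q : PrimeSpectrum Γ(X, V) := ⟨q, inferInstance⟩
  let y : X := hV.fromSpec Q
  have hyV : y ∈ V := hV.range_fromSpec.le ⟨Q, rfl⟩
  refine ⟨y, ?_, ?_⟩
  · by_contra hy
    have h1 : Q ∈ hV.fromSpec ⁻¹ᵁ X.basicOpen c := hzero y hyV hy
    rw [hV.fromSpec_preimage_basicOpen] at h1
    exact h1 (hq.1.2 (Ideal.mem_span_singleton_self c))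
  · rw [← Variety2.Dim.ringKrullDim_stalk_add_height (X ↘ Spec (CommRingCat.of k)) y, add_comm]
    refine add_le_add le_rfl ?_
    letI := TopCat.Presheaf.algebra_section_stalk X.presheaf (⟨y, hyV⟩ : V)
    haveI hloc : IsLocalization.AtPrime (X.presheaf.stalk y) q := hV.isLocalization_stalk' Q hyV
    rw [IsLocalization.AtPrime.ringKrullDim_eq_height q (X.presheaf.stalk y)]
    exact WithBot.coe_le_coe.2 hh

end Groth.Inter
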