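import Groth.Agent.Inter.PushProper
import Groth.Agent.FlatMor2.StratVanish.Main
import Groth.Agent.S10860
import Groth.Agent.Variety2.DimFiber

/-!
# The projection formula for intersection symbols
-/

set_option linter.style.haveILetI false

universe u

open CategoryTheory CategoryTheory.Limits AlgebraicGeometry TopologicalSpace Opposite

namespace Groth.Inter

open Groth.PicAux Groth.CohBase Groth.CohFin

section

variable {X Y : Scheme.{u}}

/-- Near a point with finite fibre in the support, a coherent module is acyclic for a proper map. -/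
theorem exists_hVanish_nhd (π : X ⟶ Y) [IsProper π] [IsNoetherian X] {A : X.Modules} (hA : Coh.IsCoh A)
    {y : Y} (hy : (CohB1.support A ∩ π ⁻¹' {y}).Finite) :
    ∃ W : Y.Opens, y ∈ W ∧ ∀ W' : Y.Opens, IsAffineOpen W' → W' ≤ W → ∀ q,
      HVanish (X := X.toTopCat) (abSheaf A) (q + 1) (π ⁻¹ᵁ W') := by
  have := hA.1
  let T : Closeds X := ⟨CohB1.support A, CohTwo.isClosed_support A hA⟩
  let i := (Scheme.IdealSheafData.vanishingIdeal T).subschemeι
  have hr : Set.range i = CohB1.support A := Groth.PropsBasic2.range_vanishingIdeal_subschemeι T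
  have hfin : ((i ≫ π) ⁻¹' {y}).Finite := by
    refine Set.Finite.of_finite_image (f := i) (hy.subset ?_) i.isClosedEmbedding.injective.injOn
    rintro _ ⟨z, hz, rfl⟩
    exact ⟨hr.le ⟨z, rfl⟩, (Scheme.Hom.comp_apply i π z).symm.trans hz⟩
  obtain ⟨V, hyV, hV⟩ := exists_isFinite_morphismRestrict_of_finite_preimage_singleton (i ≫ π) y hfin
  refine ⟨V, hyV, fun W' hW' hle q => ?_⟩
  have haff : IsAffineOpen ((i ≫ π) ⁻¹ᵁ W') := by
    have h1 : IsAffineOpen (V.ι ⁻¹ᵁ W') :=
      (V.ι.isAffineOpen_iff_of_isOpenImmersion).1 (by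
        rwa [Scheme.Hom.image_preimage_eq_opensRange_inf, Scheme.Opens.opensRange_ι, inf_eq_right.2 hle])
    have h2 := (h1.preimage ((i ≫ π) ∣_ V)).image_of_isOpenImmersion ((i ≫ π) ⁻¹ᵁ V).ι
    rwa [image_morphismRestrict_preimage, Scheme.Hom.image_preimage_eq_opensRange_inf,
      Scheme.Opens.opensRange_ι, inf_eq_right.2 hle] at h2
  let U : X.Opens := π ⁻¹ᵁ W'
  have : IsAffine W'.toScheme := hW'
  have : CompactSpace U.toScheme := QuasiCompact.compactSpace_of_compactSpace (π ∣_ W')
  have : QuasiSeparatedSpace U.toScheme := quasiSeparatedSpace_of_quasiSeparated (π ∣_ W')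
  have : IsAffine (i ⁻¹ᵁ U).toScheme := haff
  have hsub : CohB1.support (A.restrict U.ι) ⊆ Set.range (i ∣_ U) := by
    intro w hw
    have hmem : U.ι w ∈ CohB1.support A := fun h => hw (AddCommGrpCat.subsingleton_of_isZero
      (FlatMor2.StratVanish.isZero_stalk_restrict A w (@AddCommGrpCat.isZero_of_subsingleton _ h)))
    obtain ⟨z, hz⟩ := hr.ge hmem
    have hzU : z ∈ i ⁻¹ᵁ U := by
      show i z ∈ U
      rw [hz]; exact w.2
    exact ⟨⟨z, hzU⟩, Subtype.ext ((morphismRestrict_base_coe i U ⟨z, hzU⟩).trans hz)⟩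
  have : (A.restrict U.ι).IsQuasicoherent := inferInstance
  have h := FlatMor2.StratVanish.subsingleton_HH (i ∣_ U) (A.restrict U.ι) hsub q
  obtain ⟨e⟩ := nonempty_equiv_HHon A U (q + 1)
  exact @Equiv.subsingleton _ _ e.symm.toEquiv h

/-- The failure of exactness of a direct image misses the points with finite fibre. -/
theorem notMem_support_cokernel_push (π : X ⟶ Y) [IsProper π] [IsNoetherian X]
    {S : ShortComplex X.Modules} (hS : S.ShortExact) (hA : Coh.IsCoh S.X₁) {y : Y}
    (hy : (CohB1.support S.X₁ ∩ π ⁻¹' {y}).Finite) :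
    y ∉ CohB1.support (cokernel ((Coh.push π).map S.g)) := by
  obtain ⟨W, hyW, hW⟩ := exists_hVanish_nhd π hA hy
  refine fun h => h (subsingleton_of_forall_eq 0 fun t => ?_)
  let φ := (Coh.push π).map S.g
  obtain ⟨U, hU, s, rfl⟩ := TopCat.Presheaf.exists_germ_eq (cokernel φ).presheaf t
  obtain ⟨U', hle, c, hyU', hc⟩ := exists_local_preimage (cokernel.π φ) s y hU
  obtain ⟨W', hW', hyW', hle'⟩ := Opens.isBasis_iff_nbhd.mp Y.isBasis_affineOpens
    (show y ∈ U' ⊓ W from ⟨hyU', hyW⟩)
  obtain ⟨b, hb⟩ := sections_surjective (S := S.map (toAbF X)) (shortExact_toAb hS)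
    (U := π ⁻¹ᵁ W') (hW W' hW' (hle'.trans inf_le_right) 0)
    (QCohMod.res S.X₃ (π.preimage_mono (hle'.trans inf_le_left)) c)
  have h0 : QCohMod.res (cokernel φ) ((hle'.trans inf_le_left).trans hle) s = 0 := by
    rw [← QCohMod.res_res (cokernel φ) hle (hle'.trans inf_le_left), ← hc, QCohMod.res_app]
    have hb' : φ.app W' (show Γ((Coh.push π).obj S.X₂, W') from b) =
        QCohMod.res ((Coh.push π).obj S.X₃) (hle'.trans inf_le_left) c := hb
    rw [← hb']
    exact congr(($(cokernel.condition φ)).app W' (show Γ((Coh.push π).obj S.X₂, W') from b))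
  rw [← TopCat.Presheaf.germ_res_apply (cokernel φ).presheaf
    (homOfLE ((hle'.trans inf_le_left).trans hle)) y hyW' s]
  exact (congrArg _ h0).trans (map_zero _)

end

variable (k : Type u) [Field k] {X X' : Scheme.{u}} [X.Over (Spec (CommRingCat.of k))]
  [X'.Over (Spec (CommRingCat.of k))] [IsProper (X ↘ Spec (CommRingCat.of k))]
  [IsProper (X' ↘ Spec (CommRingCat.of k))]

/-- Intersection symbols of direct images are additive in the critical dimension. -/
theorem delta_push_add (π : X' ⟶ X) [IsProper π] {l : List X.Modules}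
    (hl : ∀ M ∈ l, PicF.IsInvertible M) {S : ShortComplex X'.Modules} (hS : S.ShortExact)
    (h₁ : Coh.IsCoh S.X₁) (h₂ : Coh.IsCoh S.X₂) (h₃ : Coh.IsCoh S.X₃)
    (d₁ : topologicalKrullDim (CohB1.support S.X₁) ≤ (l.length : ℕ))
    (d₃ : topologicalKrullDim (CohB1.support S.X₃) ≤ (l.length : ℕ)) :
    delta k l ((Coh.push π).obj S.X₂) =
      delta k l ((Coh.push π).obj S.X₁) + delta k l ((Coh.push π).obj S.X₃) := by
  classical
  have hN : IsNoetherian X := isNoetherian k
  have hN' : IsNoetherian X' := isNoetherian k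
  have p₁ := isCoh_push_proper π h₁
  have p₂ := isCoh_push_proper π h₂
  have p₃ := isCoh_push_proper π h₃
  let φ := (Coh.push π).map S.g
  have := hS.mono_f
  have := p₃.1
  have := p₂.1
  have hQ : Coh.IsCoh (cokernel φ) := QCohMod.isCoh_cokernel φ p₃
  have := hQ.1
  have hK : Coh.IsCoh (Abelian.image φ) := QCohMod.isCoh_kernel (cokernel.π φ) p₃
  let T : ShortComplex X.Modules := ShortComplex.mk ((Coh.push π).map S.f) (Abelian.factorThruImage φ)
    (by rw [← cancel_mono (Abelian.image.ι φ), Category.assoc, Abelian.image.fac, zero_comp,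
      ← Functor.map_comp, S.zero, Functor.map_zero])
  have hT : T.ShortExact := by
    refine { exact := ?_, mono_f := inferInstanceAs (Mono ((Scheme.Modules.pushforward π).map S.f)),
             epi_g := inferInstanceAs (Epi (Abelian.factorThruImage φ)) }
    have hex : (S.map (Coh.push π)).Exact :=
      hS.exact.map_of_mono_of_preservesKernel _ hS.mono_f inferInstance
    let ψ : T ⟶ S.map (Coh.push π) :=
      { τ₁ := 𝟙 _, τ₂ := 𝟙 _, τ₃ := Abelian.image.ι φ
        comm₁₂ := (Category.id_comp _).trans (Category.comp_id _).symm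
        comm₂₃ := (Category.id_comp _).trans (Abelian.image.fac φ).symm }
    have : Epi ψ.τ₁ := inferInstanceAs (Epi (𝟙 _))
    have : IsIso ψ.τ₂ := inferInstanceAs (IsIso (𝟙 _))
    have : Mono ψ.τ₃ := inferInstanceAs (Mono (Abelian.image.ι φ))
    exact (ShortComplex.exact_iff_of_epi_of_isIso_of_mono ψ).2 hex
  have hT' : (ShortComplex.mk (Abelian.image.ι φ) (cokernel.π φ) (kernel.condition _)).ShortExact :=
    { exact := ShortComplex.exact_of_f_is_kernel _ (kernelIsKernel (cokernel.π φ))
      mono_f := inferInstanceAs (Mono (Abelian.image.ι φ))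
      epi_g := inferInstanceAs (Epi (cokernel.π φ)) }
  have e₂ : delta k l ((Coh.push π).obj S.X₂) =
      delta k l ((Coh.push π).obj S.X₁) + delta k l (Abelian.image φ) := delta_add k hl hT p₁ hK
  have e₃ : delta k l ((Coh.push π).obj S.X₃) =
      delta k l (Abelian.image φ) + delta k l (cokernel φ) := delta_add k hl hT' hK hQ
  have hQd : topologicalKrullDim (CohB1.support (cokernel φ)) ≤ (l.length : ℕ) :=
    (LocCohTransform.topologicalKrullDim_mono
      (KTheory.Devissage.support_subset_of_epi (cokernel.π φ))).trans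
      ((dim_support_push_le π _ (CohTwo.isClosed_support _ h₃) (CohTwo.isClosed_support _ p₃)).trans d₃)
  have h0 : delta k l (cokernel φ) = 0 := by
    refine (delta_eq_sum_length k hl hQ hQd ∅ fun y => ?_).trans Finset.sum_empty
    simp only [Finset.notMem_empty, false_iff, not_and]
    intro hyQ hyd
    refine notMem_support_cokernel_push π hS h₁ (Set.Finite.subset
      ((DivisorLength.finite_maximal_points (CohTwo.isClosed_support _ h₁)).subset ?_) subset_rfl) hyQ
    rintro z ⟨hz, hzy⟩
    rw [Variety2.Dim.dim_closure_singleton] at hyd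
    refine ⟨hz, fun w hw hwz => (eq_of_dim_closure (n := l.length) hwz.mem_closure
      ((LocCohTransform.topologicalKrullDim_mono (closure_minimal (Set.singleton_subset_iff.2 hw)
        (CohTwo.isClosed_support _ h₁))).trans d₁) ?_).symm⟩
    rw [← hyd, Variety2.Dim.dim_closure_singleton, WithBot.coe_le_coe]
    exact (show π z = y from hzy) ▸ height_apply_le π z
  omega

/-- A point as the image of a projective variety. -/
theorem exists_cover_point (ξ : X) :
    ∃ (Z : Scheme.{u}) (_ : Z.Over (Spec (CommRingCat.of k))) (_ : IsProper (Z ↘ Spec (CommRingCat.of k)))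
      (ρ : Z ⟶ X) (A : Z.Modules), IsProper ρ ∧
      ρ ≫ (X ↘ Spec (CommRingCat.of k)) = Z ↘ Spec (CommRingCat.of k) ∧ CohB1.IsAmple A ∧
      topologicalKrullDim Z = topologicalKrullDim (closure ({ξ} : Set X)) ∧
      ∀ e : ℕ, ξ ∈ CohB1.support ((Coh.push ρ).obj
          (CohB1.tensorMod (CohB1.tensorPow A e) (Coh.structureModule Z))) ∧
        CohB1.support ((Coh.push ρ).obj
          (CohB1.tensorMod (CohB1.tensorPow A e) (Coh.structureModule Z))) ⊆ closure {ξ} := by
  have hN : IsNoetherian X := isNoetherian k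
  let i := (IntMult.ptIdeal ξ).subschemeι
  let Z := (IntMult.ptIdeal ξ).subscheme
  letI : Z.Over (Spec (CommRingCat.of k)) := ⟨i ≫ (X ↘ Spec (CommRingCat.of k))⟩
  have : IsProper (Z ↘ Spec (CommRingCat.of k)) :=
    inferInstanceAs (IsProper (i ≫ (X ↘ Spec (CommRingCat.of k))))
  have : IsIntegral Z := CohTwo.isIntegral_closure_subscheme rfl
  have hZN : IsNoetherian Z := isNoetherian k
  let f : Z ⟶ Spec (CommRingCat.of k) := Z ↘ Spec (CommRingCat.of k)
  have hrange : Set.range i = closure ({ξ} : Set X) :=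
    Groth.PropsBasic2.range_vanishingIdeal_subschemeι ⟨closure {ξ}, isClosed_closure⟩
  obtain ⟨N, Z', μ, j, hj, hje, hμ, hsurj, ⟨U, hU, hU', hiso⟩, hred, hirr⟩ :=
    Groth.Chow.exists_chow f NoetherianSpace.finite_irreducibleComponents
  letI : Z'.Over (Spec (CommRingCat.of k)) := ⟨μ ≫ f⟩
  have : IsProper (Z' ↘ Spec (CommRingCat.of k)) := inferInstanceAs (IsProper (μ ≫ f))
  have : IrreducibleSpace Z' := hirr inferInstance
  have : QuasiCompact (μ ≫ f) := inferInstance
  let A := (Scheme.Modules.pullback j).obj (Twist.twistOver N (Spec (CommRingCat.of k)) 1)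
  have hA : CohB1.IsAmple A := Chow.isAmple_of_immersion (μ ≫ f) _ N j (Iso.refl _)
  have hZN' : IsNoetherian Z' := isNoetherian k
  let η := genericPoint Z'
  have hηU : μ η ∈ U :=
    (genericPoint_spec Z').mem_open_set_iff (μ ⁻¹ᵁ U).2 |>.2 (by simpa using hU'.nonempty)
  have hμη : μ η = genericPoint Z := by
    refine ((genericPoint_spec Z').image μ.continuous).eq ?_
    rw [IsGenericPoint, Set.image_univ, μ.surjective.range_eq, closure_univ]
    exact genericPoint_spec Z
  have hρη : i (μ η) = ξ := by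
    rw [hμη]
    exact CohTwo.apply_genericPoint_eq i hrange
  refine ⟨Z', inferInstance, inferInstance, μ ≫ i, A, inferInstance, Category.assoc _ _ _, hA, ?_,
    fun e => ?_⟩
  · have hne : ((μ ⁻¹ᵁ U : Z'.Opens) : Set Z').Nonempty := ⟨η, hηU⟩
    rw [← Variety2.Dim.dim_opens (μ ≫ f) (μ ⁻¹ᵁ U) hne,
      (μ ∣_ U).homeomorph.isHomeomorph.topologicalKrullDim_eq,
      Variety2.Dim.dim_opens f U ⟨μ η, hηU⟩, dim_ptIdeal_subscheme]
  · let T := CohB1.tensorMod (CohB1.tensorPow A e) (Coh.structureModule Z')
    have hT : Coh.IsCoh T := isCoh_twist (PicAux.isInvertible_tensorPow hA.1 e)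
      (isCoh_of_isInvertible (EulerDeg.isInvertible_structureModule Z'))
    have h1 : η ∈ CohB1.support T := by
      obtain ⟨B, hB, hAB⟩ := exists_isInverseOf hA.1
      have e' : Nonempty (CohB1.tensorMod (CohB1.tensorPow B e) T ≅ Coh.structureModule Z') :=
        ⟨(tensor_assoc _ _ _).some.symm ≪≫
          (tensor_congr (isInverseOf_symm (isInverseOf_tensorPow hAB e)) ⟨Iso.refl _⟩).some ≪≫
          (tensor_one _).some⟩
      exact support_twist_subset (CohB1.tensorPow B e) T ((QCohMod.support_eq_of_iso e'.some).ge fun h => by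
        have : Nontrivial ((Coh.structureModule Z').presheaf.stalk η) :=
          (RefRank.oneEquiv η).toEquiv.nontrivial_congr.1 inferInstance
        exact not_subsingleton _ h)
    refine ⟨fun h => ?_, fun x hx => ?_⟩
    · have h2 : μ η ∈ CohB1.support ((Coh.push μ).obj T) := mem_support_push_of_isIso μ U T hηU h1
      refine h2 (@Equiv.subsingleton _ _ (Equiv.ofBijective _
        (CohTwo.bijective_pushStalk i ((Coh.push μ).obj T) (μ η))).symm ?_)
      rw [← hρη] at h
      exact h
    · obtain ⟨z, -, rfl⟩ := support_push_subset' (μ ≫ i) T (CohTwo.isClosed_support _ hT) hx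
      exact hrange.le ⟨μ z, (Scheme.Hom.comp_apply μ i z).symm⟩

/-- The projection formula. -/
theorem delta_pullback_eq (π : X' ⟶ X)
    (hπ : π ≫ (X ↘ Spec (CommRingCat.of k)) = X' ↘ Spec (CommRingCat.of k)) {l : List X.Modules}
    (hl : ∀ M ∈ l, PicF.IsInvertible M) {F : X'.Modules} (hF : Coh.IsCoh F)
    (hd : topologicalKrullDim (CohB1.support F) ≤ (l.length : ℕ)) :
    delta k (l.map (Scheme.Modules.pullback π).obj) F = delta k l ((Coh.push π).obj F) := by
  have hN : IsNoetherian X := isNoetherian k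
  have hN' : IsNoetherian X' := isNoetherian k
  have : IsProper π := by
    have : IsProper (π ≫ (X ↘ Spec (CommRingCat.of k))) := hπ ▸ inferInstance
    exact IsProper.of_comp π (X ↘ Spec (CommRingCat.of k))
  let l' := l.map (Scheme.Modules.pullback π).obj
  have hl' : ∀ M ∈ l', PicF.IsInvertible M := by
    simp only [l', List.mem_map]
    rintro _ ⟨M, hM, rfl⟩
    exact PicAux.isInvertible_pullback π (hl M hM)
  have hlen : l'.length = l.length := List.length_map _
  rw [← sub_eq_zero]
  let φ : X'.Modules → ℤ := fun G => delta k l' G - delta k l ((Coh.push π).obj G)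
  have hφcongr : ∀ {G G' : X'.Modules}, Nonempty (G ≅ G') → φ G = φ G' := fun e => by
    simp only [φ, delta_congr k l' e, delta_congr k l ⟨(Coh.push π).mapIso e.some⟩]
  have hdim : ∀ {G : X'.Modules} {T : Set X'}, CohB1.support G ⊆ T →
      topologicalKrullDim T ≤ (l.length : ℕ) → topologicalKrullDim (CohB1.support G) ≤ (l.length : ℕ) :=
    fun h hT => (LocCohTransform.topologicalKrullDim_mono h).trans hT
  have hadd : ∀ T : Set X', topologicalKrullDim T ≤ (l.length : ℕ) →
      ∀ S : ShortComplex X'.Modules, S.ShortExact → Coh.IsCoh S.X₁ → Coh.IsCoh S.X₂ → Coh.IsCoh S.X₃ →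
      CohB1.support S.X₁ ⊆ T → CohB1.support S.X₂ ⊆ T → CohB1.support S.X₃ ⊆ T →
      φ S.X₂ = φ S.X₁ + φ S.X₃ := fun T hT S hS c₁ c₂ c₃ s₁ _ s₃ => by
    simp only [φ]
    rw [delta_add k hl' hS c₁ c₃, delta_push_add k π hl hS c₁ c₂ c₃ (hdim s₁ hT) (hdim s₃ hT)]
    ring
  have hsmall : ∀ G : X'.Modules, Coh.IsCoh G →
      topologicalKrullDim (CohB1.support G) < (l.length : ℕ) → φ G = 0 := fun G hG hGd => by
    simp only [φ]
    rw [delta_eq_zero k l' hl' G hG (hlen.symm ▸ hGd), delta_eq_zero k l hl _ (isCoh_push_proper π hG)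
      ((dim_support_push_le π _ (CohTwo.isClosed_support _ hG)
        (CohTwo.isClosed_support _ (isCoh_push_proper π hG))).trans_lt hGd), sub_zero]
  refine additive_eq_zero_of_support φ (CohTwo.isClosed_support F hF) (hadd _ hd) (fun η hη => ?_) hF subset_rfl
  have hηd : topologicalKrullDim (closure ({η} : Set X')) ≤ (l.length : ℕ) :=
    (LocCohTransform.topologicalKrullDim_mono hη).trans hd
  have hcη := KTheory.Devissage.isCoh_closureStructureSheaf η
  rcases hηd.lt_or_eq with hlt | heq
  · exact hsmall _ hcη ((LocCohTransform.topologicalKrullDim_mono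
      (KTheory.Devissage.support_closureStructureSheaf_subset η)).trans_lt hlt)
  obtain ⟨Z, instZ, hZp, ρ, A, hρp, hρ, hA, hZd, hT⟩ := exists_cover_point k η
  have hρπ : (ρ ≫ π) ≫ (X ↘ Spec (CommRingCat.of k)) = Z ↘ Spec (CommRingCat.of k) := by
    rw [Category.assoc, hπ, hρ]
  have hO : Coh.IsCoh (Coh.structureModule Z) :=
    isCoh_of_isInvertible (EulerDeg.isInvertible_structureModule Z)
  obtain ⟨j₁, hj₁⟩ := exists_delta_pullback_eq k ρ hρ hA l' hl' _ hO
  obtain ⟨j₂, hj₂⟩ := exists_delta_pullback_eq k (ρ ≫ π) hρπ hA l hl _ hO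
  obtain ⟨hmem, hsub⟩ := hT (max j₁ j₂)
  let T := CohB1.tensorMod (CohB1.tensorPow A (max j₁ j₂)) (Coh.structureModule Z)
  let G := (Coh.push ρ).obj T
  have hG : Coh.IsCoh G := by
    have : IsLocallyNoetherian Z := LocallyOfFiniteType.isLocallyNoetherian ρ
    exact isCoh_push_proper ρ (isCoh_twist (PicAux.isInvertible_tensorPow hA.1 _) hO)
  -- the formula holds for `G`
  have hGzero : φ G = 0 := by
    simp only [φ, G]
    rw [← hj₁ _ (le_max_left _ _), sub_eq_zero]
    calc delta k (l'.map (Scheme.Modules.pullback ρ).obj) T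
        = delta k (l.map (Scheme.Modules.pullback (ρ ≫ π)).obj) T := by
          refine delta_congr_list k ?_ T
          simp only [l', List.map_map, List.forall₂_map_left_iff, List.forall₂_map_right_iff]
          exact List.forall₂_same.2 fun M _ => ⟨(Scheme.Modules.pullbackComp ρ π).app M⟩
      _ = delta k l ((Coh.push (ρ ≫ π)).obj T) := hj₂ _ (le_max_right _ _)
      _ = delta k l ((Coh.push π).obj ((Coh.push ρ).obj T)) :=
          delta_congr k l ⟨((Scheme.Modules.pushforwardComp ρ π).app T).symm⟩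
  -- `φ` is the length times the value at `η`
  let χ : X'.Modules → ℤ := fun H =>
    φ H - ((Module.length (X'.presheaf.stalk η) (H.presheaf.stalk η)).toNat : ℤ) *
      φ (Cyc.closureStructureSheaf η)
  have hne : ∀ H : X'.Modules, Coh.IsCoh H → CohB1.support H ⊆ closure {η} →
      Module.length (X'.presheaf.stalk η) (H.presheaf.stalk η) ≠ ⊤ := fun H hH hHs =>
    KTheory.Devissage.length_stalk_ne_top hH η fun z hz hzη =>
      (eq_of_dim_closure (specializes_iff_mem_closure.1 hzη)
        ((LocCohTransform.topologicalKrullDim_mono (closure_minimal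
          (Set.singleton_subset_iff.2 (hHs hz)) isClosed_closure)).trans heq.le) heq.ge).symm
  have hχ : χ G = 0 := by
    refine additive_eq_zero_of_support χ isClosed_closure (fun S hS c₁ c₂ c₃ s₁ s₂ s₃ => ?_)
      (fun y hy => ?_) hG hsub
    · simp only [χ]
      rw [hadd _ heq.le S hS c₁ c₂ c₃ s₁ s₂ s₃, length_stalk_add hS η,
        ENat.toNat_add (hne _ c₁ s₁) (hne _ c₃ s₃)]
      push_cast
      ring
    · simp only [χ]
      by_cases hyη : η ∈ closure ({y} : Set X')
      · obtain rfl : η = y := eq_of_dim_closure hyη ((LocCohTransform.topologicalKrullDim_mono hy).trans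
          heq.le) heq.ge
        rw [KTheory.Devissage.length_closureStructureSheaf η]
        simp
      · have h0 : Module.length (X'.presheaf.stalk η) ((Cyc.closureStructureSheaf y).presheaf.stalk η) = 0 :=
          Module.length_eq_zero_iff.2 (not_not.1 fun h =>
            hyη (KTheory.Devissage.support_closureStructureSheaf_subset y h))
        rw [h0, hsmall _ (KTheory.Devissage.isCoh_closureStructureSheaf y) ?_]
        · simp
        refine (LocCohTransform.topologicalKrullDim_mono
          (KTheory.Devissage.support_closureStructureSheaf_subset y)).trans_lt ?_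
        refine lt_of_lt_of_eq (LocCohTransform.topologicalKrullDim_lt_of_ssubset hy
          (fun h => hyη (h (subset_closure rfl))) isClosed_closure isClosed_closure
          isIrreducible_singleton.closure (heq ▸ WithBot.coe_lt_coe.2 (ENat.natCast_lt_top _))) heq
  have hpos : 0 < (Module.length (X'.presheaf.stalk η) (G.presheaf.stalk η)).toNat :=
    Nat.pos_of_ne_zero fun h => by
      rcases ENat.toNat_eq_zero.1 h with h' | h'
      · exact hmem (Module.length_eq_zero_iff.1 h')
      · exact hne G hG hsub h'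
  simp only [χ, hGzero, zero_sub, neg_eq_zero, mul_eq_zero] at hχ
  rcases hχ with h | h
  · omega
  · exact h

/-- Nefness descends along proper surjective morphisms. -/
theorem nonneg_of_surjective (π : X' ⟶ X)
    (hπ : π ≫ (X ↘ Spec (CommRingCat.of k)) = X' ↘ Spec (CommRingCat.of k)) [Surjective π]
    {M : X.Modules} (hM : PicF.IsInvertible M) (h : Nonneg k [(Scheme.Modules.pullback π).obj M]) :
    Nonneg k [M] := by
  have hN : IsNoetherian X := isNoetherian k
  have hN' : IsNoetherian X' := isNoetherian k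
  have : IsProper π := by
    have : IsProper (π ≫ (X ↘ Spec (CommRingCat.of k))) := hπ ▸ inferInstance
    exact IsProper.of_comp π (X ↘ Spec (CommRingCat.of k))
  refine nonneg_of_integral k (by simpa using hM) fun ξ hξ => ?_
  simp only [List.length_singleton] at hξ
  have : Nonempty (π.fiber ξ) := by
    obtain ⟨x, hx⟩ := π.surjective ξ
    exact ⟨(π.fiberHomeo ξ).symm ⟨x, hx⟩⟩
  have : CompactSpace (π.fiber ξ) := inferInstance
  obtain ⟨z, -, hz⟩ := isClosed_univ.exists_closed_singleton (Set.univ_nonempty (α := π.fiber ξ))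
  let x := π.fiberι ξ z
  have hxξ : π x = ξ := (π.range_fiberι ξ).le ⟨z, rfl⟩
  have hxh : Order.height x = 1 := by
    rw [← Variety2.Dim.height_fiber_add (X' ↘ Spec (CommRingCat.of k)) (X ↘ Spec (CommRingCat.of k))
      π hπ ξ z, (Variety2.Dim.height_eq_zero_iff z).2 hz, zero_add]
    rw [Variety2.Dim.dim_closure_singleton] at hξ
    exact WithBot.coe_injective hξ
  have hxd : topologicalKrullDim (closure ({x} : Set X')) = ((1 : ℕ) : WithBot ℕ∞) := by
    rw [Variety2.Dim.dim_closure_singleton, hxh]
    rfl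
  let G := Cyc.closureStructureSheaf x
  have hG := KTheory.Devissage.isCoh_closureStructureSheaf x
  have hGd : topologicalKrullDim (CohB1.support G) ≤ ((1 : ℕ) : WithBot ℕ∞) :=
    (LocCohTransform.topologicalKrullDim_mono
      (KTheory.Devissage.support_closureStructureSheaf_subset x)).trans hxd.le
  have hP := isCoh_push_proper π hG
  have h0 := h G hG (by simpa using hGd)
  have e := delta_pullback_eq k π hπ (l := [M]) (by simpa using hM) hG (by simpa using hGd)
  simp only [List.map_cons, List.map_nil] at e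
  rw [e] at h0
  have hsub : CohB1.support ((Coh.push π).obj G) ⊆ closure {ξ} := fun y hy => by
    obtain ⟨w, hw, rfl⟩ := support_push_subset' π G (CohTwo.isClosed_support _ hG) hy
    exact hxξ ▸ ((specializes_iff_mem_closure.2
      (KTheory.Devissage.support_closureStructureSheaf_subset x hw)).map π.continuous).mem_closure
  have hmem : ξ ∈ CohB1.support ((Coh.push π).obj G) := by
    intro hs
    let i := (IntMult.ptIdeal x).subschemeι
    obtain ⟨w, hw⟩ : x ∈ Set.range i :=
      (Groth.PropsBasic2.range_vanishingIdeal_subschemeι ⟨closure {x}, isClosed_closure⟩).ge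
        (subset_closure rfl)
    let one : Γ((Coh.push π).obj G, ⊤) :=
      show Γ((IntMult.ptIdeal x).subscheme, ⊤) from 1
    obtain ⟨U, hU, i₁, i₂, hUeq⟩ := TopCat.Presheaf.germ_eq ((Coh.push π).obj G).presheaf ξ
      (U := ⊤) (V := ⊤) trivial trivial one 0 (hs.elim _ _)
    rw [map_zero] at hUeq
    have hone : (IntMult.ptIdeal x).subscheme.presheaf.map
        (homOfLE (le_top : i ⁻¹ᵁ (π ⁻¹ᵁ U) ≤ ⊤)).op
        (1 : Γ((IntMult.ptIdeal x).subscheme, ⊤)) = 0 := hUeq
    rw [map_one] at hone
    have hw' : w ∈ i ⁻¹ᵁ (π ⁻¹ᵁ U) := by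
      change π (i w) ∈ U
      rw [hw, hxξ]
      exact hU
    exact one_ne_zero ((map_one ((IntMult.ptIdeal x).subscheme.presheaf.germ _ w hw').hom).symm.trans
      ((congrArg ((IntMult.ptIdeal x).subscheme.presheaf.germ _ w hw') hone).trans (map_zero _)))
  rw [delta_eq_sum_length k (by simpa using hM) hP
    ((LocCohTransform.topologicalKrullDim_mono hsub).trans (by simpa using hξ.le)) {ξ} fun y => ?_,
    Finset.sum_singleton] at h0
  · refine nonneg_of_mul_nonneg_right h0 (Int.natCast_pos.2 (Nat.pos_of_ne_zero fun h' => ?_))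
    rcases ENat.toNat_eq_zero.1 h' with h'' | h''
    · exact hmem (Module.length_eq_zero_iff.1 h'')
    · exact KTheory.Devissage.length_stalk_ne_top hP ξ (fun w hw hwξ =>
        (eq_of_dim_closure (specializes_iff_mem_closure.1 hwξ)
          ((LocCohTransform.topologicalKrullDim_mono (closure_minimal
            (Set.singleton_subset_iff.2 (hsub hw)) isClosed_closure)).trans hξ.le) hξ.ge).symm) h''
  · rw [Finset.mem_singleton, List.length_singleton]
    exact ⟨fun hy => ⟨hy ▸ hmem, hy ▸ hξ⟩, fun hy => eq_of_dim_closure (hsub hy.1) hξ.le hy.2.ge⟩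

end Groth.Inter
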