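import Groth.Agent.Inter.Delta
import Mathlib.Algebra.MvPolynomial.Rename
import Mathlib.Algebra.MvPolynomial.Degrees
import Mathlib.RingTheory.Polynomial.Pochhammer
import Mathlib.Data.Nat.Choose.Sum

/-!
# Snapper polynomials

`(m₁, …, mₙ) ↦ χ(L₁^{m₁} ⊗ ⋯ ⊗ Lₙ^{mₙ} ⊗ F)` is a polynomial of degree at most `dim Supp F`.
-/

universe u

open CategoryTheory CategoryTheory.Limits AlgebraicGeometry TopologicalSpace

namespace Groth.Inter

variable (k : Type u) [Field k] {X : Scheme.{u}} [X.Over (Spec (CommRingCat.of k))]

lemma tensorPow_succ_twist (L : X.Modules) (m : ℕ) (F : X.Modules) :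
    Nonempty (CohB1.tensorMod (CohB1.tensorPow L (m + 1)) F ≅
      CohB1.tensorMod L (CohB1.tensorMod (CohB1.tensorPow L m) F)) :=
  ⟨(tensor_assoc _ L F).some ≪≫ (tensor_left_comm _ L F).some⟩

/-- Binomial expansion of a difference in a power. -/
theorem delta_pow (L : X.Modules) : ∀ (m : ℕ) (l : List X.Modules) (F : X.Modules),
    delta k l (CohB1.tensorMod (CohB1.tensorPow L m) F) =
      ∑ j ∈ Finset.range (m + 1), (m.choose j : ℤ) * (-1) ^ j * delta k (List.replicate j L ++ l) F := by
  intro m
  induction m with
  | zero =>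
    intro l F
    change delta k l (CohB1.tensorMod (Coh.structureModule X) F) = _
    simpa using delta_congr k l (tensor_one F)
  | succ m ih =>
    intro l F
    have h2 : ∀ j, delta k (List.replicate j L ++ L :: l) F =
        delta k (List.replicate (j + 1) L ++ l) F := fun j => by
      rw [List.replicate_succ', List.append_assoc, List.singleton_append]
    rw [delta_congr k l (tensorPow_succ_twist L m F), delta_twist k L l, ih l F, ih (L :: l) F]
    simp only [h2]
    rw [Finset.sum_range_succ' _ (m + 1), Finset.sum_range_succ' (fun j => (m.choose j : ℤ) * _ * _) m]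
    have h3 : ∀ j : ℕ, ((m + 1).choose (j + 1) : ℤ) * (-1) ^ (j + 1) *
          delta k (List.replicate (j + 1) L ++ l) F =
        (m.choose (j + 1) : ℤ) * (-1) ^ (j + 1) * delta k (List.replicate (j + 1) L ++ l) F -
          (m.choose j : ℤ) * (-1) ^ j * delta k (List.replicate (j + 1) L ++ l) F := fun j => by
      rw [Nat.choose_succ_succ' m j]; push_cast; ring
    simp only [h3, Finset.sum_sub_distrib]
    rw [Finset.sum_range_succ (fun j => (m.choose (j + 1) : ℤ) * _ * _) m]
    simp only [Nat.choose_succ_self, Nat.choose_zero_right]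
    push_cast
    ring

/-- The binomial coefficient as a polynomial in the variable `0`. -/
noncomputable def choosePoly (n j : ℕ) : MvPolynomial (Fin (n + 1)) ℚ :=
  MvPolynomial.C (1 / (j.factorial : ℚ)) *
    ∏ i ∈ Finset.range j, (MvPolynomial.X 0 - MvPolynomial.C (i : ℚ))

lemma eval_choosePoly (n j : ℕ) (m : Fin (n + 1) → ℕ) :
    MvPolynomial.eval (fun i => (m i : ℚ)) (choosePoly n j) = ((m 0).choose j : ℚ) := by
  rw [Nat.cast_choose_eq_descPochhammer_div, descPochhammer_eval_eq_prod_range, choosePoly]
  simp [map_prod, div_eq_inv_mul]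

lemma totalDegree_choosePoly (n j : ℕ) : (choosePoly n j).totalDegree ≤ j := by
  refine (MvPolynomial.totalDegree_mul _ _).trans ?_
  rw [MvPolynomial.totalDegree_C, zero_add]
  refine (MvPolynomial.totalDegree_finsetProd _ _).trans ?_
  refine (Finset.sum_le_card_nsmul _ _ 1 fun i _ => ?_).trans (by simp)
  refine (MvPolynomial.totalDegree_sub _ _).trans (max_le ?_ ?_)
  · rw [MvPolynomial.totalDegree_X]
  · rw [MvPolynomial.totalDegree_C]; exact Nat.zero_le _

lemma multiTwist_succ {n : ℕ} (L : Fin (n + 1) → X.Modules) (m : Fin (n + 1) → ℕ) :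
    FGA.multiTwist L m = CohB1.tensorMod (CohB1.tensorPow (L 0) (m 0))
      (FGA.multiTwist (fun i => L i.succ) (fun i => m i.succ)) := by
  simp [FGA.multiTwist, List.finRange_succ, FGA.tensorList, List.map_map, Function.comp_def]

lemma isInvertible_multiTwist {n : ℕ} {L : Fin n → X.Modules} (hL : ∀ i, PicF.IsInvertible (L i))
    (m : Fin n → ℕ) : PicF.IsInvertible (FGA.multiTwist L m) :=
  isInvertible_tensorList fun M hM => by
    obtain ⟨i, -, rfl⟩ := List.mem_map.1 hM
    exact PicAux.isInvertible_tensorPow (hL i) _

variable [IsProper (X ↘ Spec (CommRingCat.of k))]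

/-- Snapper: differences of `χ` of twists are polynomial. -/
theorem exists_poly (r : ℕ) : ∀ (n : ℕ) (L : Fin n → X.Modules), (∀ i, PicF.IsInvertible (L i)) →
    ∀ (l : List X.Modules), (∀ M ∈ l, PicF.IsInvertible M) → l.length ≤ r →
    ∀ F : X.Modules, Coh.IsCoh F → topologicalKrullDim (CohB1.support F) ≤ (r : ℕ) →
      ∃ P : MvPolynomial (Fin n) ℚ, P.totalDegree + l.length ≤ r ∧ ∀ m : Fin n → ℕ,
        (delta k l (CohB1.tensorMod (FGA.multiTwist L m) F) : ℚ) =
          MvPolynomial.eval (fun i => (m i : ℚ)) P := by
  intro n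
  induction n with
  | zero =>
    intro L _ l _ hlr F _ _
    refine ⟨MvPolynomial.C (delta k l F : ℚ), by rw [MvPolynomial.totalDegree_C]; omega, fun m => ?_⟩
    rw [MvPolynomial.eval_C, delta_congr k l (G := F) ?_]
    simpa [FGA.multiTwist, FGA.tensorList] using tensor_one F
  | succ n ih =>
    intro L hL l hl hlr F hF hdim
    classical
    have hrep : ∀ j, ∀ M ∈ List.replicate j (L 0) ++ l, PicF.IsInvertible M := fun j M hM => by
      rcases List.mem_append.1 hM with h | h
      · rw [List.eq_of_mem_replicate h]; exact hL 0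
      · exact hl M h
    have hex : ∀ j, ∃ P : MvPolynomial (Fin n) ℚ, (P ≠ 0 → P.totalDegree + (j + l.length) ≤ r) ∧
        ∀ m : Fin n → ℕ, (delta k (List.replicate j (L 0) ++ l)
          (CohB1.tensorMod (FGA.multiTwist (fun i => L i.succ) m) F) : ℚ) =
          MvPolynomial.eval (fun i => (m i : ℚ)) P := fun j => by
      by_cases hj : j + l.length ≤ r
      · obtain ⟨P, hP, hPe⟩ := ih (fun i => L i.succ) (fun i => hL _)
          (List.replicate j (L 0) ++ l) (hrep j) (by simpa using hj) F hF hdim
        exact ⟨P, fun _ => by simpa using hP, hPe⟩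
      · refine ⟨0, fun h => absurd rfl h, fun m => ?_⟩
        rw [map_zero, Int.cast_eq_zero]
        refine delta_eq_zero k _ (hrep j) _
          (isCoh_twist (isInvertible_multiTwist (fun i => hL i.succ) m) hF) ?_
        refine lt_of_le_of_lt ((LocCohTransform.topologicalKrullDim_mono
          (support_twist_subset _ F)).trans hdim) ?_
        rw [List.length_append, List.length_replicate]
        exact_mod_cast (not_le.1 hj)
    choose P hP hPe using hex
    refine ⟨∑ j ∈ Finset.range (r + 1),
      choosePoly n j * MvPolynomial.C ((-1 : ℚ) ^ j) * MvPolynomial.rename Fin.succ (P j), ?_, fun m => ?_⟩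
    · have key : ∀ j, (choosePoly n j * MvPolynomial.C ((-1 : ℚ) ^ j) *
          MvPolynomial.rename Fin.succ (P j)).totalDegree ≤ r - l.length := fun j => by
        by_cases h0 : P j = 0
        · simp [h0]
        have h1 := hP j h0
        have h2 := totalDegree_choosePoly n j
        have h3 := MvPolynomial.totalDegree_rename_le (Fin.succ : Fin n → Fin (n + 1)) (P j)
        have h4 := MvPolynomial.totalDegree_mul (choosePoly n j) (MvPolynomial.C ((-1 : ℚ) ^ j))
        rw [MvPolynomial.totalDegree_C, add_zero] at h4
        have h5 := MvPolynomial.totalDegree_mul (choosePoly n j * MvPolynomial.C ((-1 : ℚ) ^ j))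
          (MvPolynomial.rename Fin.succ (P j))
        omega
      have := MvPolynomial.totalDegree_finsetSum_le (s := Finset.range (r + 1))
        (f := fun j => choosePoly n j * MvPolynomial.C ((-1 : ℚ) ^ j) *
          MvPolynomial.rename Fin.succ (P j)) (d := r - l.length) fun j _ => key j
      omega
    · rw [map_sum, multiTwist_succ]
      rw [delta_congr k l (tensor_assoc _ _ F), delta_pow k (L 0) (m 0) l]
      push_cast
      let t : ℕ → ℚ := fun j => ((m 0).choose j : ℚ) * (-1) ^ j *
        (delta k (List.replicate j (L 0) ++ l)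
          (CohB1.tensorMod (FGA.multiTwist (fun i => L i.succ) (fun i => m i.succ)) F) : ℚ)
      have e : ∀ j ∈ Finset.range (r + 1), MvPolynomial.eval (fun i => (m i : ℚ))
          (choosePoly n j * MvPolynomial.C ((-1 : ℚ) ^ j) * MvPolynomial.rename Fin.succ (P j)) =
            t j := fun j _ => by
        simp only [t, map_mul, MvPolynomial.eval_C, MvPolynomial.eval_rename, eval_choosePoly, hPe,
          Function.comp_def]
      rw [Finset.sum_congr rfl e]
      change ∑ j ∈ Finset.range (m 0 + 1), t j = ∑ j ∈ Finset.range (r + 1), t j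
      have hz : ∀ j, (m 0 < j ∨ r < j) → t j = 0 := fun j hj => by
        rcases hj with hj | hj
        · simp [t, Nat.choose_eq_zero_of_lt hj]
        · have hP0 : P j = 0 := by
            by_contra h
            have := hP j h
            omega
          simp [t, hPe, hP0]
      rw [Finset.sum_subset (Finset.range_subset_range.2 (le_max_left (m 0 + 1) (r + 1))) fun j _ hj =>
          hz j (Or.inl (by simp only [Finset.mem_range, not_lt] at hj; omega)),
        Finset.sum_subset (Finset.range_subset_range.2 (le_max_right (m 0 + 1) (r + 1))) fun j _ hj =>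
          hz j (Or.inr (by simp only [Finset.mem_range, not_lt] at hj; omega))]

/-- The binomial formula for `χ(L^m ⊗ F)` in terms of the self-intersections of `L`. -/
theorem euler_pow_eq {L M : X.Modules} (hL : PicF.IsInvertible L)
    (hLM : Nonempty (CohB1.tensorMod L M ≅ Coh.structureModule X)) {F : X.Modules} (hF : Coh.IsCoh F)
    (r : ℕ) (hdim : topologicalKrullDim (CohB1.support F) ≤ (r : ℕ)) (m : ℕ) :
    Curv2.euler k X (CohB1.tensorMod (CohB1.tensorPow L m) F) =
      ∑ i ∈ Finset.range (r + 1),
        ((m + i - 1).choose i : ℤ) * delta k (List.replicate i M) F := by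
  have hM : PicF.IsInvertible M := PicAux.isInvertible_of_isInverseOf hL hLM
  have hz : ∀ (j : ℕ), r < j → ∀ G : X.Modules, Coh.IsCoh G →
      topologicalKrullDim (CohB1.support G) ≤ (r : ℕ) → delta k (List.replicate j M) G = 0 :=
    fun j hj G hG hd => delta_eq_zero k _
      (fun N hN => (List.eq_of_mem_replicate hN).symm ▸ hM) G hG (lt_of_le_of_lt hd (by simp [hj]))
  -- `T m j = Δ_M^j χ(L^m ⊗ F)`
  let T : ℕ → ℕ → ℤ := fun m j =>
    delta k (List.replicate j M) (CohB1.tensorMod (CohB1.tensorPow L m) F)
  let S : ℕ → ℕ → ℤ := fun m j => ∑ i ∈ Finset.range (r + 1),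
    ((m + i - 1).choose i : ℤ) * delta k (List.replicate (i + j) M) F
  have hTrec : ∀ m j, T (m + 1) j - T m j = T (m + 1) (j + 1) := fun m j => by
    simp only [T, List.replicate_succ, delta_cons]
    congr 1
    refine delta_congr k _ ⟨(tensor_one _).some.symm ≪≫
      (tensor_congr ⟨(tensor_comm M L).some ≪≫ hLM.some |>.symm⟩ ⟨Iso.refl _⟩).some ≪≫
      (tensor_assoc M L _).some ≪≫
      (tensor_congr ⟨Iso.refl M⟩ ⟨(tensorPow_succ_twist L m F).some.symm⟩).some⟩
  have hSrec : ∀ m j, S (m + 1) j - S m j = S (m + 1) (j + 1) := fun m j => by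
    simp only [S]
    have h0 : delta k (List.replicate (r + (j + 1)) M) F = 0 := hz _ (by omega) F hF hdim
    rw [Finset.sum_range_succ' _ r, Finset.sum_range_succ' _ r,
      Finset.sum_range_succ (fun i => ((m + 1 + i - 1).choose i : ℤ) *
        delta k (List.replicate (i + (j + 1)) M) F) r, h0,
      mul_zero, add_zero]
    simp only [Nat.choose_zero_right, add_sub_add_right_eq_sub]
    rw [add_zero, ← Finset.sum_sub_distrib (G := ℤ)]
    refine Finset.sum_congr rfl fun i _ => ?_
    rw [show m + 1 + (i + 1) - 1 = (m + i) + 1 by omega, show m + (i + 1) - 1 = m + i by omega,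
      show m + 1 + i - 1 = m + i by omega, show i + 1 + j = i + (j + 1) by omega,
      Nat.choose_succ_succ' (m + i) i]
    push_cast
    ring
  have hTz : ∀ m j, r < j → T m j = 0 := fun m j hj => hz j hj _
    (isCoh_twist (PicAux.isInvertible_tensorPow hL m) hF)
    ((LocCohTransform.topologicalKrullDim_mono (support_twist_subset _ F)).trans hdim)
  have hSz : ∀ m j, r < j → S m j = 0 := fun m j hj => Finset.sum_eq_zero fun i _ => by
    rw [hz (i + j) (by omega) F hF hdim, mul_zero]
  have key : ∀ m j, T m j = S m j := by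
    intro m
    induction m with
    | zero =>
      intro j
      simp only [T, S]
      change delta k _ (CohB1.tensorMod (Coh.structureModule X) F) = _
      rw [delta_congr k _ (tensor_one F), Finset.sum_range_succ' _ r]
      simp
    | succ m ih =>
      suffices ∀ t j, r + 1 ≤ j + t → T (m + 1) j = S (m + 1) j from fun j => this (r + 1) j (by omega)
      intro t
      induction t with
      | zero => exact fun j hj => by rw [hTz _ _ (by omega), hSz _ _ (by omega)]
      | succ t iht =>
        intro j hj
        have e1 := hTrec m j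
        have e2 := hSrec m j
        rw [iht (j + 1) (by omega)] at e1
        rw [ih j] at e1
        linarith
  simpa [T, S] using key m 0

end Groth.Inter
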