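import Groth.Agent.Inter.EulerFibre
import Groth.Agent.Inter.Snapper
import Groth.Agent.HilbStab.BC.Euler
import Groth.Agent.FlatMorOne.FlatBaseChangeScheme
import Groth.Agent.FlatTwist.Relative
import Groth.Agent.PicAux.PullTensor
import Groth.Agent.QCohMod.PullbackQCoh
import Groth.Prelude.Def_Pic13

/-!
# Euler characteristics in a family parametrised by a connected scheme
-/

universe u

open CategoryTheory Limits AlgebraicGeometry TopologicalSpace Opposite

namespace Groth.Inter

/-- The Euler characteristic of a fibre is computed after any extension of the residue field. -/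
theorem euler_point_eq {X S : Scheme.{u}} (f : X ⟶ S) [IsProper f] (M : X.Modules)
    [M.IsQuasicoherent] (K : Type u) [Field K] {Z : Scheme.{u}}
    [Z.Over (Spec (CommRingCat.of K))] (σ : Spec (CommRingCat.of K) ⟶ S) (g : Z ⟶ X)
    (hsq : IsPullback g (Z ↘ Spec (CommRingCat.of K)) f σ) :
    Curv2.euler K Z ((Scheme.Modules.pullback g).obj M) =
      fibreEuler f M (σ (IsLocalRing.closedPoint K)) := by
  let y : S := σ (IsLocalRing.closedPoint K)
  let ι : S.residueField y ⟶ CommRingCat.of K := S.descResidueField (Scheme.stalkClosedPointTo σ)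
  have hσ : Spec.map ι ≫ S.fromSpecResidueField y = σ :=
    Scheme.descResidueField_stalkClosedPointTo_fromSpecResidueField K S σ
  let : Algebra (S.residueField y) K := ι.hom.toAlgebra
  let : (f.fiber y).Over (Spec (CommRingCat.of (S.residueField y))) :=
    ⟨f.fiberToSpecResidueField y⟩
  have hF : IsPullback (f.fiberι y) (f.fiberToSpecResidueField y) f (S.fromSpecResidueField y) :=
    IsPullback.of_hasPullback _ _
  have hw : g ≫ f = ((Z ↘ Spec (CommRingCat.of K)) ≫ Spec.map ι) ≫ S.fromSpecResidueField y :=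
    by rw [Category.assoc, hσ]; exact hsq.w
  let g' : Z ⟶ f.fiber y := hF.lift g ((Z ↘ Spec (CommRingCat.of K)) ≫ Spec.map ι) hw
  have hfst : g' ≫ f.fiberι y = g := hF.lift_fst _ _ _
  have hbc : Groth.CohBase.IsBC (A := S.residueField y) (A' := K) g' := by
    have hsq' : IsPullback (g' ≫ f.fiberι y) (Z ↘ Spec (CommRingCat.of K)) f
        (Spec.map ι ≫ S.fromSpecResidueField y) := by rw [hfst, hσ]; exact hsq
    exact IsPullback.of_right hsq' (hF.lift_snd _ _ _) hF
  have : IsProper (f.fiber y ↘ Spec (CommRingCat.of (S.residueField y))) :=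
    MorphismProperty.of_isPullback hF inferInstance
  have : CompactSpace (f.fiber y) :=
    QuasiCompact.compactSpace_of_compactSpace (f.fiber y ↘ Spec (CommRingCat.of (S.residueField y)))
  have : (f.fiber y).IsSeparated := by
    rw [Scheme.isSeparated_iff, show terminal.from (f.fiber y) =
      (f.fiber y ↘ Spec (CommRingCat.of (S.residueField y))) ≫ terminal.from _ from
        Subsingleton.elim _ _]
    infer_instance
  have : ((Scheme.Modules.pullback (f.fiberι y)).obj M).IsQuasicoherent :=
    QCohMod.isQCoh_pullback_obj _ M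
  have h := HilbStab.BC.euler_baseChange hbc ((Scheme.Modules.pullback (f.fiberι y)).obj M)
  refine Eq.trans (EulerDeg.euler_congr K ?_) h
  exact (Scheme.Modules.pullbackCongr hfst.symm).app M ≪≫
    ((Scheme.Modules.pullbackComp _ _).app M).symm

/-- A module over a scheme over a field is flat over the field. -/
theorem isFlatOver_field (k : Type u) [Field k] {X : Scheme.{u}}
    (p : X ⟶ Spec (CommRingCat.of k)) (F : X.Modules) [F.IsQuasicoherent] :
    FlatMod.IsFlatOver p F := by
  refine (Flatmor4.isFlatOver_iff_affine p F).2 fun U V e hU hV => ?_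
  let := Flatmor4.sectionModule p F e
  by_cases hne : (V : Set (Spec (CommRingCat.of k))).Nonempty
  · obtain rfl : V = ⊤ := by
      obtain ⟨v, hv⟩ := hne
      exact top_le_iff.1 fun z _ => by
        have : Subsingleton (Spec (CommRingCat.of k)) :=
          inferInstanceAs (Subsingleton (PrimeSpectrum k))
        rwa [Subsingleton.elim z v]
    have hf : IsField Γ(Spec (CommRingCat.of k), ⊤) :=
      MulEquiv.isField (Field.toIsField k)
        (Scheme.ΓSpecIso (CommRingCat.of k)).commRingCatIsoToRingEquiv.toMulEquiv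
    let := hf.toField
    exact Module.Flat.of_free
  · have : Subsingleton Γ(Spec (CommRingCat.of k), V) := by
      rw [Set.not_nonempty_iff_eq_empty] at hne
      have hV' : V = ⊥ := TopologicalSpace.Opens.ext hne
      subst hV'
      infer_instance
    have : Subsingleton Γ(F, U) := Module.subsingleton Γ(Spec (CommRingCat.of k), V) _
    infer_instance

variable (k : Type u) [Field k] (X : Scheme.{u}) [X.Over (Spec (CommRingCat.of k))]
  [IsProper (X ↘ Spec (CommRingCat.of k))]

/-- Twists by algebraically trivial modules do not change the Euler characteristic. -/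
theorem euler_tensor_of_isAlgEquivZero {L : X.Modules} (hL : Pic13.IsAlgEquivZero k X L)
    {F : X.Modules} (hF : Coh.IsCoh F) :
    Curv2.euler k X (CohB1.tensorMod F L) = Curv2.euler k X F := by
  obtain ⟨T, q, hT, hlft, hqc, M, hM, t, t₀, ht, ht₀, ⟨e⟩, ⟨e₀⟩⟩ := hL
  let π : Pic13.prodK k X q ⟶ T := pullback.snd _ _
  let pr : Pic13.prodK k X q ⟶ X := pullback.fst _ _
  have hP : IsPullback pr π (X ↘ Spec (CommRingCat.of k)) q := IsPullback.of_hasPullback _ _
  have : IsProper π := MorphismProperty.of_isPullback hP inferInstance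
  have : IsLocallyNoetherian T := LocallyOfFiniteType.isLocallyNoetherian q
  have := hF.1
  have : ((Scheme.Modules.pullback pr).obj F).IsQuasicoherent := QCohMod.isQCoh_pullback_obj _ F
  let G := CohB1.tensorMod ((Scheme.Modules.pullback pr).obj F) M
  have hGc : Coh.IsCoh G :=
    RefRank.isCoh_tensorMod ⟨inferInstance, QCohMod.isFT_pullback pr F hF.2⟩
      (isCoh_of_isInvertible hM)
  have hGf : FlatMod.IsFlatOver π G :=
    FlatTwist.isFlatOver_tensorMod hM
      (FlatMorOne.isFlatOver_baseChange hP F (isFlatOver_field k _ F))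
  have : (G).IsQuasicoherent := hGc.1
  have key : ∀ (s : Spec (CommRingCat.of k) ⟶ T) (hs : s ≫ q = 𝟙 _) (N : X.Modules)
      (eN : Pic13.fibreMod k X q s hs M ≅ N), ∃ y : T,
      Curv2.euler k X (CohB1.tensorMod F N) = fibreEuler π G y := by
    intro s hs N eN
    have hsl : Pic13.sliceAt k X q s hs ≫ pr = 𝟙 X := pullback.lift_fst _ _ _
    have hsn : Pic13.sliceAt k X q s hs ≫ π = (X ↘ Spec (CommRingCat.of k)) ≫ s :=
      pullback.lift_snd _ _ _
    have hsq : IsPullback (Pic13.sliceAt k X q s hs) (X ↘ Spec (CommRingCat.of k)) π s := by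
      refine IsPullback.of_right ?_ hsn hP
      rw [hsl, hs]
      exact IsPullback.of_horiz_isIso ⟨by simp⟩
    refine ⟨_, Eq.trans (EulerDeg.euler_congr k ?_) (euler_point_eq π G k s _ hsq)⟩
    have e1 := (PicAux.exists_pullback_tensorMod (Pic13.sliceAt k X q s hs)
      ((Scheme.Modules.pullback pr).obj F) M).choose
    refine ((tensor_congr ⟨?_⟩ ⟨eN⟩).some.symm ≪≫ e1.symm)
    exact (Scheme.Modules.pullbackComp _ _).app F ≪≫ (Scheme.Modules.pullbackCongr hsl).app F ≪≫
      (Scheme.Modules.pullbackId _).app F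
  obtain ⟨y, hy⟩ := key t ht L e
  obtain ⟨y₀, hy₀⟩ := key t₀ ht₀ _ e₀
  rw [hy, euler_fiber_eq π G hGc hGf y y₀, ← hy₀]
  exact EulerDeg.euler_congr k ((tensor_comm F _).some ≪≫ (tensor_one F).some)

lemma tensorPow_add_twist (L F : X.Modules) (m : ℕ) : ∀ n : ℕ,
    Nonempty (CohB1.tensorMod (CohB1.tensorPow L (m + n)) F ≅
      CohB1.tensorMod (CohB1.tensorPow L n) (CohB1.tensorMod (CohB1.tensorPow L m) F)) := by
  intro n
  induction n with
  | zero => exact ⟨(tensor_one _).some.symm⟩
  | succ n ih =>
    refine ⟨(tensorPow_succ_twist L (m + n) F).some ≪≫ ?_ ≪≫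
      (tensorPow_succ_twist L n _).some.symm⟩
    exact (tensor_congr ⟨Iso.refl L⟩ ih).some

omit [IsProper (X ↘ Spec (CommRingCat.of k))] in
lemma delta_multiTwist_one (L F : X.Modules) (m : ℕ) :
    delta k [] (CohB1.tensorMod (FGA.multiTwist ![L] ![m]) F) =
      Curv2.euler k X (CohB1.tensorMod (CohB1.tensorPow L m) F) := by
  refine delta_congr k [] (tensor_congr ⟨?_⟩ ⟨Iso.refl F⟩)
  simp only [FGA.multiTwist, List.finRange_succ, List.finRange_zero, List.map_nil, List.map_cons,
    FGA.tensorList, Matrix.cons_val_zero]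
  exact (tensor_comm _ _).some ≪≫ (tensor_one _).some

/-- Twists by τ-trivial modules do not change the Euler characteristic. -/
theorem euler_tensor_of_isTauEquivZero {L : X.Modules} (hL : PicF.IsInvertible L)
    (hτ : Pic13.IsTauEquivZero k X L) {F : X.Modules} (hF : Coh.IsCoh F) {d : ℕ}
    (hd : topologicalKrullDim (CohB1.support F) ≤ d) :
    Curv2.euler k X (CohB1.tensorMod F L) = Curv2.euler k X F := by
  obtain ⟨n, hn, halg⟩ := hτ
  have hstep : ∀ j : ℕ, Curv2.euler k X (CohB1.tensorMod (CohB1.tensorPow L (n * j)) F) =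
      Curv2.euler k X F := by
    intro j
    induction j with
    | zero => exact EulerDeg.euler_congr k (tensor_one F).some
    | succ j ih =>
      rw [Nat.mul_succ, EulerDeg.euler_congr k (tensorPow_add_twist X L F (n * j) n).some,
        EulerDeg.euler_congr k (tensor_comm _ _).some,
        euler_tensor_of_isAlgEquivZero k X halg
          (isCoh_twist (PicAux.isInvertible_tensorPow hL _) hF), ih]
  obtain ⟨P, -, hP⟩ := exists_poly k d 1 ![L] (fun i => by fin_cases i; exact hL) [] (by simp)
    (by simp) F hF hd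
  let Q : Polynomial ℚ := MvPolynomial.aeval (fun _ : Fin 1 => (Polynomial.X : Polynomial ℚ)) P
  have hQ : ∀ m : ℕ, Q.eval (m : ℚ) =
      (Curv2.euler k X (CohB1.tensorMod (CohB1.tensorPow L m) F) : ℚ) := fun m => by
    rw [← delta_multiTwist_one k X L F m, hP ![m]]
    change (Polynomial.aeval (m : ℚ)) (MvPolynomial.aeval _ P) = _
    rw [← AlgHom.comp_apply, MvPolynomial.comp_aeval, ← MvPolynomial.eval₂_id,
      MvPolynomial.aeval_def]
    congr 1
    funext i
    fin_cases i
    simp
  have hQ0 : Q = Polynomial.C (Curv2.euler k X F : ℚ) := by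
    apply Polynomial.eq_of_infinite_eval_eq
    refine Set.Infinite.mono (?_ : Set.range (fun j : ℕ => ((n * j : ℕ) : ℚ)) ⊆ _) ?_
    · rintro _ ⟨j, rfl⟩
      simp only [Set.mem_ofPred_eq, hQ, hstep, Polynomial.eval_C]
    · exact Set.infinite_range_of_injective fun a b h =>
        Nat.eq_of_mul_eq_mul_left hn (by exact_mod_cast h)
  have h1 := hQ 1
  rw [hQ0, Polynomial.eval_C] at h1
  refine Eq.trans (EulerDeg.euler_congr k ((tensor_comm F L).some ≪≫
    (tensor_congr ⟨?_⟩ ⟨Iso.refl F⟩).some)) (by exact_mod_cast h1.symm)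
  exact (tensor_one L).some.symm

end Groth.Inter
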