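import Groth.Prelude.Def_CohTop
import Groth.Agent.EulerDeg.DimOne
import Mathlib.Algebra.Colimit.Module
import Mathlib.Order.KrullDimension

/-!
# Grothendieck vanishing

On a Noetherian topological space of Krull dimension at most `d`, the cohomology of every abelian
sheaf vanishes in degrees `> d`.  The proof is by induction on the dimension of the supports of the
sections, mapping a sheaf to the flasque direct sum of its "stalks" at the irreducible closed
subsets of top dimension.
-/

universe u

open CategoryTheory Limits TopologicalSpace Opposite Order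

namespace Groth.Inter.Vanishing

variable {X : TopCat.{u}}

/-- `T` meets `U`. -/
def Meets (T : IrreducibleCloseds X) (U : Opens X) : Prop := ((T : Set X) ∩ U).Nonempty

lemma Meets.mono {T : IrreducibleCloseds X} {U V : Opens X} (h : Meets T V) (hVU : V ≤ U) :
    Meets T U :=
  Set.Nonempty.mono (Set.inter_subset_inter_right _ hVU) h

lemma Meets.inf {T : IrreducibleCloseds X} {U V : Opens X} (hU : Meets T U) (hV : Meets T V) :
    Meets T (U ⊓ V) :=
  T.isIrreducible.2 U V U.isOpen V.isOpen hU hV

variable (F : CohTop.Ab X)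

/-- Restriction of sections. -/
noncomputable abbrev rs {U V : Opens X} (h : V ≤ U) : F.obj.obj (op U) →+ F.obj.obj (op V) :=
  (F.obj.map (homOfLE h).op).hom

lemma rs_rs {U V W : Opens X} (h : V ≤ U) (h' : W ≤ V) (s : F.obj.obj (op U)) :
    rs F h' (rs F h s) = rs F (h'.trans h) s := by
  change (F.obj.map _).hom ((F.obj.map _).hom s) = _
  rw [← ConcreteCategory.comp_apply, ← Functor.map_comp]
  rfl

lemma rs_self {U : Opens X} (s : F.obj.obj (op U)) : rs F (le_refl U) s = s := by
  change (F.obj.map _).hom s = _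
  rw [show (homOfLE (le_refl U)).op = 𝟙 (op U) from rfl, F.obj.map_id]
  rfl

lemma hom_rs {F G : CohTop.Ab X} (φ : F ⟶ G) {U V : Opens X} (h : V ≤ U) (s : F.obj.obj (op U)) :
    φ.hom.app (op V) (rs F h s) = rs G h (φ.hom.app (op U) s) :=
  ConcreteCategory.congr_hom (φ.hom.naturality (homOfLE h).op) s

/-- The support of a section. -/
def Sp {U : Opens X} (s : F.obj.obj (op U)) : Set X :=
  {x | x ∈ U ∧ ∀ (V : Opens X) (h : V ≤ U), x ∈ V → rs F h s ≠ 0}

lemma closure_Sp_inter {U : Opens X} (s : F.obj.obj (op U)) : closure (Sp F s) ∩ U ⊆ Sp F s := by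
  rintro x ⟨hxc, hxU⟩
  by_contra hx
  simp only [Sp, Set.mem_ofPred_eq, not_and, not_forall, not_not] at hx
  obtain ⟨V, hV, hxV, h0⟩ := hx hxU
  obtain ⟨y, hyV, hy⟩ := mem_closure_iff.mp hxc V V.isOpen hxV
  exact hy.2 V hV hyV h0

/-- `T` lies in the support of the section `s`. -/
def Bad {U : Opens X} (s : F.obj.obj (op U)) (T : IrreducibleCloseds X) : Prop :=
  Meets T U ∧ (T : Set X) ∩ U ⊆ Sp F s

/-- All supports of sections have dimension `< d`. -/
def SupportLT (d : ℕ) : Prop :=
  ∀ (U : Opens X) (s : F.obj.obj (op U)) (T : IrreducibleCloseds X), Bad F s T →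
    height T < (d : ℕ∞)

lemma height_le_of_lt_succ {d : ℕ} {n : ℕ∞} (h : n < ((d + 1 : ℕ) : ℕ∞)) : n ≤ d := by
  rw [Nat.cast_succ] at h
  exact (ENat.lt_add_one_iff (ENat.natCast_ne_top d)).mp h

lemma not_lt_of_height {T T' : IrreducibleCloseds X} {d : ℕ} (hT : (d : ℕ∞) ≤ height T)
    (hT' : height T' ≤ d) : ¬ T < T' := fun h => by
  have h1 := (height_add_one_le h).trans hT'
  have : (d : ℕ∞) + 1 ≤ d := (add_le_add_left hT 1 |>.trans (le_of_eq rfl)).trans h1
  exact absurd ((ENat.lt_add_one_iff (ENat.natCast_ne_top d)).mpr le_rfl) (not_lt.mpr this)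

lemma finite_bad [NoetherianSpace X] {d : ℕ} (hF : SupportLT F (d + 1)) {U : Opens X}
    (s : F.obj.obj (op U)) :
    {T : IrreducibleCloseds X | Bad F s T ∧ height T = (d : ℕ∞)}.Finite := by
  obtain ⟨S, hSf, hSc, hSi, hS⟩ :=
    NoetherianSpace.exists_finite_set_isClosed_irreducible (isClosed_closure (s := Sp F s))
  refine Set.Finite.of_finite_image (f := fun T : IrreducibleCloseds X => (T : Set X))
    (hSf.subset ?_) (SetLike.coe_injective.injOn)
  rintro _ ⟨T, ⟨⟨hm, hsub⟩, hd⟩, rfl⟩
  have hTcl : (T : Set X) ⊆ closure (Sp F s) :=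
    (subset_closure_inter_of_isPreirreducible_of_isOpen T.isIrreducible.2 U.isOpen hm).trans
      (closure_mono hsub)
  lift S to Finset (Set X) using hSf
  obtain ⟨t, ht, hTt⟩ := isIrreducible_iff_sUnion_isClosed.1 T.isIrreducible S hSc (hS ▸ hTcl)
  let T' : IrreducibleCloseds X := ⟨t, hSi t ht, hSc t ht⟩
  have hle : T ≤ T' := hTt
  have hbad : Bad F s T' :=
    ⟨Set.Nonempty.mono (Set.inter_subset_inter_left _ hTt) hm, fun x hx =>
      closure_Sp_inter F s ⟨hS ▸ Set.subset_sUnion_of_mem ht hx.1, hx.2⟩⟩
  have := height_le_of_lt_succ (hF U s T' hbad)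
  obtain h | h := hle.lt_or_eq
  · exact absurd h (not_lt_of_height hd.ge this)
  · change (T : Set X) ∈ S
    rw [h]; exact ht

/-! ### Stalks at irreducible closed subsets -/

section Stk

variable (T : IrreducibleCloseds X)

/-- Opens meeting `T`, ordered by reverse inclusion. -/
abbrev Idx : Type u := {U : Opens X // Meets T U}ᵒᵈ

instance : IsDirectedOrder (Idx T) :=
  ⟨fun i j => ⟨OrderDual.toDual ⟨i.ofDual.1 ⊓ j.ofDual.1, i.ofDual.2.inf j.ofDual.2⟩,
    inf_le_left (a := i.ofDual.1) (b := j.ofDual.1), inf_le_right (a := i.ofDual.1) (b := j.ofDual.1)⟩⟩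

/-- The transition maps. -/
noncomputable abbrev sys (i j : Idx T) (h : i ≤ j) :
    F.obj.obj (op i.ofDual.1) →+ F.obj.obj (op j.ofDual.1) :=
  rs F (h : j.ofDual.1 ≤ i.ofDual.1)

instance : DirectedSystem (fun i : Idx T => (F.obj.obj (op i.ofDual.1) : Type u))
    (fun i j h => sys F T i j h) where
  map_self _ x := rs_self F x
  map_map _ _ _ _ _ x := rs_rs F _ _ x

open Classical in
/-- The stalk at an irreducible closed subset. -/
abbrev Stk : Type u :=
  AddCommGroup.DirectLimit (fun i : Idx T => (F.obj.obj (op i.ofDual.1) : Type u)) (sys F T)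

open Classical in
/-- The germ at an irreducible closed subset. -/
noncomputable def gm {U : Opens X} (h : Meets T U) : F.obj.obj (op U) →+ Stk F T :=
  AddCommGroup.DirectLimit.of (fun i : Idx T => (F.obj.obj (op i.ofDual.1) : Type u)) (sys F T)
    (OrderDual.toDual ⟨U, h⟩)

open Classical in
lemma gm_rs {U V : Opens X} (hV : Meets T V) (h : V ≤ U) (s : F.obj.obj (op U)) :
    gm F T hV (rs F h s) = gm F T (hV.mono h) s :=
  AddCommGroup.DirectLimit.of_f (f := sys F T) (i := OrderDual.toDual ⟨U, hV.mono h⟩)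
    (j := OrderDual.toDual ⟨V, hV⟩) h s

open Classical in
lemma gm_eq_zero_iff {U : Opens X} (h : Meets T U) (s : F.obj.obj (op U)) :
    gm F T h s = 0 ↔ ¬ Bad F s T := by
  constructor
  · intro h0 hbad
    obtain ⟨j, hij, hj⟩ :=
      AddCommGroup.DirectLimit.of.zero_exact (f := sys F T) (OrderDual.toDual ⟨U, h⟩) s h0
    obtain ⟨x, hxT, hxj⟩ := j.ofDual.2
    have hjU : j.ofDual.1 ≤ U := hij
    exact (hbad.2 ⟨hxT, hjU hxj⟩).2 _ hjU hxj hj
  · intro hbad
    simp only [Bad, h, true_and, Set.not_subset] at hbad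
    obtain ⟨x, ⟨hxT, hxU⟩, hx⟩ := hbad
    simp only [Sp, Set.mem_ofPred_eq, not_and, not_forall, not_not] at hx
    obtain ⟨V, hV, hxV, h0⟩ := hx hxU
    rw [← gm_rs F T (U := U) ⟨x, hxT, hxV⟩ hV, h0, map_zero]

open Classical in
lemma exists_gm (a : Stk F T) : ∃ (V : Opens X) (hV : Meets T V) (f : F.obj.obj (op V)),
    gm F T hV f = a := by
  have : Nonempty (Idx T) :=
    ⟨OrderDual.toDual ⟨⊤, by simpa [Meets] using T.isIrreducible.1⟩⟩
  induction a using AddCommGroup.DirectLimit.induction_on with
  | _ i f => exact ⟨i.ofDual.1, i.ofDual.2, f, rfl⟩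

end Stk

/-! ### The flasque sheaf -/

variable (d : ℕ)

/-- Irreducible closed subsets of dimension `d`. -/
abbrev Top (X : TopCat.{u}) (d : ℕ) : Type u := {T : IrreducibleCloseds X // height T = (d : ℕ∞)}

/-- Finitely supported families of germs. -/
noncomputable def sub (U : Opens X) : AddSubgroup (∀ T : Top X d, Stk F T.1) where
  carrier := {g | (∀ T, ¬ Meets T.1 U → g T = 0) ∧ {T | g T ≠ 0}.Finite}
  zero_mem' := ⟨fun _ _ => rfl, by simp⟩
  add_mem' {a b} ha hb := ⟨fun T hT => by simp [ha.1 T hT, hb.1 T hT],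
    (ha.2.union hb.2).subset fun T hT => by
      by_contra h
      simp only [Set.mem_union, Set.mem_ofPred_eq, not_or, not_not] at h
      exact hT (by simp [h.1, h.2])⟩
  neg_mem' {a} ha := ⟨fun T hT => by simp [ha.1 T hT], by simpa using ha.2⟩

open Classical in
/-- Restriction of families. -/
noncomputable def cut {U : Opens X} (V : Opens X) : sub F d U →+ sub F d V where
  toFun g := ⟨fun T => if Meets T.1 V then g.1 T else 0, fun T hT => if_neg hT,
    g.2.2.subset fun T hT => by
      simp only [Set.mem_ofPred_eq] at hT ⊢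
      by_cases hm : Meets T.1 V <;> simp_all⟩
  map_zero' := by ext T; simp
  map_add' a b := by ext T; by_cases hm : Meets T.1 V <;> simp [hm]

open Classical in
@[simp] lemma cut_apply {U V : Opens X} (g : sub F d U) (T : Top X d) :
    (cut F d V g).1 T = if Meets T.1 V then g.1 T else 0 := rfl

/-- The presheaf of finitely supported families of germs. -/
noncomputable def preG : TopCat.Presheaf AddCommGrpCat.{u} X where
  obj U := AddCommGrpCat.of (sub F d U.unop)
  map {U V} _ := AddCommGrpCat.ofHom (cut F d (U := U.unop) V.unop)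
  map_id U := by
    ext g T
    change (cut F d U.unop g).1 T = g.1 T
    rw [cut_apply]
    split_ifs with h
    · rfl
    · exact (g.2.1 T h).symm
  map_comp {U V W} i j := by
    ext g T
    change (cut F d W.unop g).1 T = (cut F d W.unop (cut F d V.unop g)).1 T
    rw [cut_apply, cut_apply, cut_apply]
    split_ifs with h h'
    · rfl
    · exact absurd (h.mono j.unop.le) h'
    · rfl

lemma isSheaf_preG [NoetherianSpace X] : (preG F d).IsSheaf := by
  classical
  rw [TopCat.Presheaf.isSheaf_iff_isSheafUniqueGluing]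
  intro ι U sf hsf
  have hmeet : ∀ {T : IrreducibleCloseds X}, Meets T (iSup U) → ∃ i, Meets T (U i) := by
    rintro T ⟨x, hxT, hxU⟩
    obtain ⟨i, hi⟩ := Opens.mem_iSup.mp hxU
    exact ⟨i, x, hxT, hi⟩
  let g : ∀ T : Top X d, Stk F T.1 := fun T =>
    if h : ∃ i, Meets T.1 (U i) then (sf h.choose).1 T else 0
  have key : ∀ (T : Top X d) (i : ι), Meets T.1 (U i) → g T = (sf i).1 T := by
    intro T i hi
    have h : ∃ i, Meets T.1 (U i) := ⟨i, hi⟩
    simp only [g, dif_pos h]
    have e := congrArg (fun z => z.1 T) (hsf h.choose i)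
    change (cut F d _ (sf h.choose)).1 T = (cut F d _ (sf i)).1 T at e
    simpa [cut_apply, h.choose_spec.inf hi] using e
  obtain ⟨t, ht⟩ := (NoetherianSpace.isCompact (α := X) ((iSup U : Opens X) : Set X)).elim_finite_subcover
    (fun i => (U i : Set X)) (fun i => (U i).isOpen) (by rw [Opens.coe_iSup])
  have hg : g ∈ sub F d (iSup U) := by
    refine ⟨fun T hT => dif_neg fun ⟨i, hi⟩ => hT (hi.mono (le_iSup U i)), ?_⟩
    refine (t.finite_toSet.biUnion fun i _ => (sf i).2.2).subset fun T hT => ?_
    have hTU : Meets T.1 (iSup U) := by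
      by_contra h
      exact hT (dif_neg fun ⟨i, hi⟩ => h (hi.mono (le_iSup U i)))
    obtain ⟨x, hxT, hxU⟩ := hTU
    obtain ⟨i, hit, hxi⟩ := Set.mem_iUnion₂.mp (ht hxU)
    refine Set.mem_biUnion hit ?_
    rw [Set.mem_ofPred_eq, ← key T i ⟨x, hxT, hxi⟩]
    exact hT
  refine ⟨⟨g, hg⟩, fun i => Subtype.ext (funext fun T => ?_), fun z hz => Subtype.ext (funext fun T => ?_)⟩
  · change (cut F d (U i) (⟨g, hg⟩ : sub F d (iSup U))).1 T = (sf i).1 T
    rw [cut_apply]
    split_ifs with h
    · exact key T i h
    · exact ((sf i).2.1 T h).symm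
  · change z.1 T = g T
    by_cases h : Meets T.1 (iSup U)
    · obtain ⟨i, hi⟩ := hmeet h
      have e := congrArg (fun z => z.1 T) (hz i)
      change (cut F d (U i) z).1 T = (sf i).1 T at e
      rw [cut_apply, if_pos hi] at e
      rw [e, key T i hi]
    · rw [z.2.1 T h, hg.1 T h]

/-- The flasque sheaf of finitely supported families of germs. -/
noncomputable def sheafG [NoetherianSpace X] : CohTop.Ab X := ⟨preG F d, isSheaf_preG F d⟩

lemma isFlasque_sheafG [NoetherianSpace X] : TopCat.Sheaf.IsFlasque (sheafG F d) := by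
  classical
  refine ⟨fun {U V} i => (AddCommGrpCat.epi_iff_surjective _).2 fun g => ?_⟩
  refine ⟨⟨g.1, fun T hT => g.2.1 T fun h => hT (h.mono i.unop.le), g.2.2⟩, Subtype.ext (funext fun T => ?_)⟩
  change (cut F d V.unop (⟨g.1, _⟩ : sub F d U.unop)).1 T = g.1 T
  rw [cut_apply]
  split_ifs with h
  · rfl
  · exact (g.2.1 T h).symm

variable {F d}

open Classical in
/-- Taking germs at the top-dimensional irreducible closed subsets. -/
noncomputable def toG [NoetherianSpace X] (hF : SupportLT F (d + 1)) : F ⟶ sheafG F d :=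
  ⟨{ app := fun U => AddCommGrpCat.ofHom
      { toFun := fun s => (⟨fun T => if h : Meets T.1 U.unop then gm F T.1 h s else 0,
          fun T hT => dif_neg hT,
          ((finite_bad F hF s).preimage Subtype.val_injective.injOn).subset fun T hT => by
            simp only [Set.mem_ofPred_eq, Set.mem_preimage] at hT ⊢
            by_cases h : Meets T.1 U.unop
            · rw [dif_pos h, ne_eq, gm_eq_zero_iff, not_not] at hT
              exact ⟨hT, T.2⟩
            · rw [dif_neg h] at hT; exact absurd rfl hT⟩ : sub F d U.unop)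
        map_zero' := Subtype.ext (funext fun T => by simp)
        map_add' := fun a b => Subtype.ext (funext fun T => by
          by_cases h : Meets T.1 U.unop <;> simp [h]) }
     naturality := fun {U V} i => by
      ext s
      refine Subtype.ext (funext fun T => ?_)
      change (if h : Meets T.1 V.unop then gm F T.1 h (rs F i.unop.le s) else 0) =
        if Meets T.1 V.unop then (if h : Meets T.1 U.unop then gm F T.1 h s else 0) else 0
      split_ifs with h h'
      · exact gm_rs F T.1 h i.unop.le s
      · exact absurd (h.mono i.unop.le) h'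
      · rfl }⟩

open Classical in
lemma toG_app [NoetherianSpace X] (hF : SupportLT F (d + 1)) {U : Opens X}
    (s : F.obj.obj (op U)) (T : Top X d) (h : Meets T.1 U) :
    ((toG hF).hom.app (op U) s).1 T = gm F T.1 h s :=
  dif_pos h

lemma isZero_of_supportLT_zero (hF : SupportLT F 0) : IsZero F := by
  have hzero : ∀ (U : Opens X) (s : F.obj.obj (op U)), s = 0 := by
    intro U s
    have hempty : ∀ x ∈ U, ∃ (V : Opens X) (h : V ≤ U), x ∈ V ∧ rs F h s = 0 := by
      intro x hxU
      by_contra hx
      push Not at hx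
      have hS : x ∈ Sp F s := ⟨hxU, hx⟩
      let T : IrreducibleCloseds X :=
        ⟨closure {x}, isIrreducible_singleton.closure, isClosed_closure⟩
      have hb : Bad F s T := ⟨⟨x, subset_closure rfl, hxU⟩, fun y hy =>
        closure_Sp_inter F s ⟨closure_mono (Set.singleton_subset_iff.mpr hS) hy.1, hy.2⟩⟩
      exact absurd (hF U s T hb) (by simp)
    choose V hV hxV h0 using fun x : U => hempty x.1 x.2
    refine TopCat.Sheaf.eq_of_locally_eq' (X := X) F V U (fun x => homOfLE (hV x))
      (fun x hx => Opens.mem_iSup.mpr ⟨⟨x, hx⟩, hxV _⟩) s 0 fun x => ?_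
    rw [map_zero]
    exact h0 x
  rw [IsZero.iff_id_eq_zero]
  ext U s
  exact (hzero _ _).trans (hzero _ _).symm

/-- Vanishing for sheaves with sections supported in dimension `< d`. -/
theorem subsingleton_H_of_supportLT [NoetherianSpace X] :
    ∀ (d : ℕ) (F : CohTop.Ab X), SupportLT F d → ∀ n, d ≤ n → Subsingleton (CohTop.H F n) := by
  intro d
  induction d with
  | zero => exact fun F hF n _ => Sheaf.subsingleton_H_of_isZero (isZero_of_supportLT_zero hF) n
  | succ d ih =>
    intro F hF n hn
    classical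
    let u := toG hF
    have s1 : (ShortComplex.mk (kernel.ι (Abelian.factorThruImage u)) (Abelian.factorThruImage u)
        (kernel.condition _)).ShortExact :=
      { exact := ShortComplex.exact_kernel _ }
    have s2 : (ShortComplex.mk (Abelian.image.ι u) (cokernel.π u) (kernel.condition _)).ShortExact :=
      { exact := ShortComplex.exact_kernel _ }
    have hK : SupportLT (kernel (Abelian.factorThruImage u)) d := by
      intro U s T hbad
      let ι := kernel.ι (Abelian.factorThruImage u)
      have hinj : ∀ V : Opens X, Function.Injective (ι.hom.app (op V)) := fun V => by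
        have : Mono ((CategoryTheory.evaluation _ _).obj (op V) |>.map
            ((sheafToPresheaf _ _).map ι)) := inferInstance
        exact (AddCommGrpCat.mono_iff_injective _).mp this
      have hb : Bad F (ι.hom.app (op U) s) T := ⟨hbad.1, fun x hx => ⟨hx.2, fun V hV hxV h0 => by
        refine (hbad.2 hx).2 V hV hxV (hinj V ?_)
        rw [map_zero, hom_rs, h0]⟩⟩
      refine lt_of_le_of_ne (height_le_of_lt_succ (hF U _ T hb)) fun hd => ?_
      have hιu : ι ≫ u = 0 := by
        calc ι ≫ u = ι ≫ (Abelian.factorThruImage u ≫ Abelian.image.ι u) :=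
              congrArg (ι ≫ ·) (Abelian.image.fac u).symm
          _ = 0 := by rw [← Category.assoc, kernel.condition, zero_comp]
      have e : u.hom.app (op U) (ι.hom.app (op U) s) = 0 := by
        have := congrArg (fun (φ : kernel (Abelian.factorThruImage u) ⟶ sheafG F d) =>
          φ.hom.app (op U) s) hιu
        exact this
      have e' : gm F T hb.1 (ι.hom.app (op U) s) = 0 := by
        rw [← toG_app hF (ι.hom.app (op U) s) ⟨T, hd⟩ hb.1]
        exact congrArg (fun z : sub F d U => z.1 ⟨T, hd⟩) e
      exact (gm_eq_zero_iff F T hb.1 _).mp e' hb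
    have hQ : SupportLT (cokernel u) d := by
      intro U q T hbad
      by_contra hlt
      rw [not_lt] at hlt
      obtain ⟨x, hxT, hxU⟩ := hbad.1
      have hepi : Epi (cokernel.π u) := inferInstance
      obtain ⟨V, hVU, ⟨g, hg⟩, hxV⟩ := (TopCat.Presheaf.isLocallySurjective_iff (X := X) _).mp
        ((TopCat.Sheaf.isLocallySurjective_iff_epi (X := X) (cokernel.π u)).mpr hepi) U q x hxU
      -- a finite union of closed sets not containing `T`
      have avoid : ∀ (W : Opens X), Meets T W → ∀ A : Set (Top X d), A.Finite →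
          ∃ W' : Opens X, W' ≤ W ∧ Meets T W' ∧ ∀ T' ∈ A, Meets T'.1 W' → T ≤ T'.1 := by
        intro W hW A hA
        let C : Set X := ⋃ T' ∈ A ∩ {T' | ¬ T ≤ T'.1}, (T'.1 : Set X)
        have hC : IsClosed C := (hA.inter_of_left _).isClosed_biUnion fun T' _ => T'.1.isClosed
        refine ⟨W ⊓ ⟨Cᶜ, hC.isOpen_compl⟩, inf_le_left, hW.inf ?_, fun T' hT' hm => ?_⟩
        · by_contra hem
          have hsub : (T : Set X) ⊆ ⋃₀ ((fun T' : Top X d => (T'.1 : Set X)) '' (A ∩ {T' | ¬ T ≤ T'.1})) := by
            intro y hy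
            by_contra hy'
            refine hem ⟨y, hy, fun hyC => hy' ?_⟩
            obtain ⟨T', hT', hyT'⟩ := Set.mem_iUnion₂.mp hyC
            exact ⟨_, ⟨T', hT', rfl⟩, hyT'⟩
          obtain ⟨Z, hZ, hTZ⟩ := isIrreducible_iff_sUnion_isClosed.1 T.isIrreducible
            ((hA.inter_of_left _).image _).toFinset
            (fun Z hZ => by
              obtain ⟨T', -, rfl⟩ := (Set.Finite.mem_toFinset _).mp hZ
              exact T'.1.isClosed)
            (by rwa [Set.Finite.coe_toFinset])
          obtain ⟨T', ⟨-, hT'⟩, rfl⟩ := (Set.Finite.mem_toFinset _).mp hZ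
          exact hT' hTZ
        · by_contra hle
          obtain ⟨y, hy, -, hyC⟩ := hm
          exact hyC (Set.mem_biUnion (show T' ∈ A ∩ {T' | ¬ T ≤ T'.1} from ⟨hT', hle⟩) hy)
      have hTV : Meets T V := ⟨x, hxT, hxV⟩
      obtain ⟨W, hWV, hTW, hW⟩ := avoid V hTV _ g.2.2
      -- killing `q` on a smaller open set meeting `T`
      suffices h : ∃ (W' : Opens X) (h : W' ≤ W), Meets T W' ∧
          ∃ f : F.obj.obj (op W'), u.hom.app (op W') f = rs (sheafG F d) (h.trans hWV) g by
        obtain ⟨W', h, ⟨y, hyT, hyW⟩, f, hf⟩ := h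
        refine (hbad.2 ⟨hyT, hVU (hWV (h hyW))⟩).2 W' ((h.trans hWV).trans hVU) hyW ?_
        rw [← rs_rs (cokernel u) hVU (h.trans hWV)]
        change rs (cokernel u) (h.trans hWV) (TopCat.Presheaf.restrictOpen q V hVU) = 0
        rw [← hg, ← hom_rs, ← hf]
        have := congrArg (fun (φ : F ⟶ cokernel u) => φ.hom.app (op W') f) (cokernel.condition u)
        exact this
      by_cases hTd : height T = (d : ℕ∞)
      · obtain ⟨W₁, hW₁, f, hf⟩ := exists_gm F T (g.1 ⟨T, hTd⟩)
        obtain ⟨W', hW', hTW', hA⟩ := avoid (W ⊓ W₁) (hTW.inf hW₁) _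
          ((finite_bad F hF f).preimage (f := Subtype.val) Subtype.val_injective.injOn)
        refine ⟨W', hW'.trans inf_le_left, hTW', rs F (hW'.trans inf_le_right) f, ?_⟩
        refine Subtype.ext (funext fun T' => ?_)
        change _ = (cut F d W' g).1 T'
        rw [cut_apply]
        by_cases hm : Meets T'.1 W'
        · rw [toG_app hF _ T' hm, if_pos hm, gm_rs]
          by_cases hTT : T'.1 = T
          · obtain ⟨T', hT'⟩ := T'
            obtain rfl := hTT
            exact hf
          · have hnle : ¬ T ≤ T'.1 := fun hle => by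
              obtain h | h := hle.lt_or_eq
              · exact not_lt_of_height hlt T'.2.le h
              · exact hTT h.symm
            have h1 : g.1 T' = 0 := by
              by_contra h
              exact hnle (hW T' h (hm.mono (hW'.trans inf_le_left)))
            rw [h1, gm_eq_zero_iff]
            exact fun hb => hnle (hA T' ⟨hb, T'.2⟩ hm)
        · rw [if_neg hm]
          exact dif_neg hm
      · refine ⟨W, le_rfl, hTW, 0, ?_⟩
        rw [map_zero]
        refine Subtype.ext (funext fun T' => ?_)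
        change 0 = (cut F d W g).1 T'
        rw [cut_apply]
        split_ifs with hm
        · by_contra h
          have hle := hW T' (fun h0 => h h0.symm) hm
          obtain h' | h' := hle.lt_or_eq
          · exact not_lt_of_height hlt T'.2.le h'
          · exact hTd (h' ▸ T'.2)
        · rfl
    obtain ⟨m, rfl⟩ : ∃ m, n = m + 1 := ⟨n - 1, by omega⟩
    have := ih _ hK (m + 1) (by omega)
    have := ih _ hQ m (by omega)
    have := isFlasque_sheafG F d
    have : Subsingleton (CohTop.H (sheafG F d) (m + 1)) :=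
      Groth.SiteCohomology.subsingleton_H_succ_of_flasque _ m
    have : Subsingleton (CohTop.H (Abelian.image u) (m + 1)) := EulerDeg.subsingleton_H_left s2 m
    exact EulerDeg.subsingleton_H_mid s1 (m + 1)

/-- Grothendieck's vanishing theorem. -/
theorem subsingleton_H_of_dim_le [NoetherianSpace X] {d : ℕ} (hd : topologicalKrullDim X ≤ d)
    (F : CohTop.Ab X) (p : ℕ) (hp : d < p) : Subsingleton (CohTop.H F p) := by
  refine subsingleton_H_of_supportLT (d + 1) F (fun U s T _ => ?_) p hp
  have h : (height T : WithBot ℕ∞) ≤ ((d : ℕ∞) : WithBot ℕ∞) := (height_le_krullDim T).trans hd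
  rw [Nat.cast_succ]
  exact (ENat.lt_add_one_iff (ENat.natCast_ne_top d)).mpr (WithBot.coe_le_coe.mp h)

end Groth.Inter.Vanishing
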