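import Groth.Agent.Inter.Twist
import Groth.Agent.CohC3.ProperSupport
import Groth.Agent.PnCoh.ProjectionFormula
import Groth.Agent.EulerDeg.Basic

/-!
# Euler characteristics and direct images along closed immersions
-/

universe u

open CategoryTheory CategoryTheory.Limits AlgebraicGeometry

namespace Groth.Inter

variable (k : Type u) [Field k] {X Z : Scheme.{u}} [X.Over (Spec (CommRingCat.of k))]
  [Z.Over (Spec (CommRingCat.of k))]

theorem euler_push (i : Z ⟶ X) [IsClosedImmersion i]
    (hi : i ≫ (X ↘ Spec (CommRingCat.of k)) = Z ↘ Spec (CommRingCat.of k)) (M : Z.Modules) :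
    Curv2.euler k X ((Coh.push i).obj M) = Curv2.euler k Z M := by
  rename_i instX instZ _
  cases instZ with
  | ofHom g =>
  obtain rfl : i ≫ (X ↘ Spec (CommRingCat.of k)) = g := hi.trans rfl
  refine finsum_congr fun n => ?_
  obtain ⟨e⟩ := CohC3.nonempty_linearEquiv_push_closed i (X ↘ Spec (CommRingCat.of k)) n M
  congr 2
  exact e.finrank_eq

/-- The projection formula for closed immersions (left version). -/
theorem tensor_push (i : Z ⟶ X) {L : X.Modules} (hL : PicF.IsInvertible L) (M : Z.Modules) :
    Nonempty (CohB1.tensorMod L ((Coh.push i).obj M) ≅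
      (Coh.push i).obj (CohB1.tensorMod ((Scheme.Modules.pullback i).obj L) M)) :=
  ⟨(tensor_comm L _).some ≪≫ (PnCoh.exists_projectionFormula i M hL).choose ≪≫
    (Scheme.Modules.pushforward i).mapIso (tensor_comm M _).some⟩

end Groth.Inter
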