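import Groth.Agent.PicAux.Powers
import Groth.Agent.PicAux.MeroRegular
import Groth.Agent.RefRank.Divisor
import Groth.Agent.Ega2Proj.TwistExtend
import Groth.Prelude.Def_FGA

/-!
# Tensoring with invertible modules

Coherence, supports, stalks and exactness of `F ↦ L ⊗ F` for invertible `L`, and the behaviour of
`FGA.tensorList` up to isomorphism.
-/

universe u

open CategoryTheory CategoryTheory.Limits AlgebraicGeometry TopologicalSpace Opposite
open scoped TensorProduct

namespace Groth.Inter

variable {X : Scheme.{u}}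

lemma tensor_congr {A A' B B' : X.Modules} (h : Nonempty (A ≅ A')) (h' : Nonempty (B ≅ B')) :
    Nonempty (CohB1.tensorMod A B ≅ CohB1.tensorMod A' B') :=
  ⟨PicGrp.tensorModIso h.some h'.some⟩

lemma tensor_comm (A B : X.Modules) : Nonempty (CohB1.tensorMod A B ≅ CohB1.tensorMod B A) :=
  ⟨(PicAux.exists_braiding A B).choose⟩

lemma tensor_assoc (A B C : X.Modules) :
    Nonempty (CohB1.tensorMod (CohB1.tensorMod A B) C ≅ CohB1.tensorMod A (CohB1.tensorMod B C)) :=
  ⟨(PicAux.exists_associator A B C).choose⟩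

lemma tensor_left_comm (A B C : X.Modules) :
    Nonempty (CohB1.tensorMod A (CohB1.tensorMod B C) ≅ CohB1.tensorMod B (CohB1.tensorMod A C)) :=
  ⟨(tensor_assoc A B C).some.symm ≪≫ (tensor_congr (tensor_comm A B) ⟨Iso.refl C⟩).some ≪≫
    (tensor_assoc B A C).some⟩

lemma tensor_one (A : X.Modules) : Nonempty (CohB1.tensorMod (Coh.structureModule X) A ≅ A) :=
  ⟨(PicAux.exists_leftUnitor A).choose⟩

/-- An invertible module is coherent. -/
theorem isCoh_of_isInvertible {L : X.Modules} (hL : PicF.IsInvertible L) : Coh.IsCoh L :=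
  ⟨PicAux.isQCoh_of_isInvertible hL, Ega2Proj.isFT_of_isInvertible hL⟩

theorem isCoh_twist {L F : X.Modules} (hL : PicF.IsInvertible L) (hF : Coh.IsCoh F) :
    Coh.IsCoh (CohB1.tensorMod L F) :=
  RefRank.isCoh_tensorMod (isCoh_of_isInvertible hL) hF

theorem support_twist_subset (L F : X.Modules) :
    CohB1.support (CohB1.tensorMod L F) ⊆ CohB1.support F := by
  intro x hx h
  apply hx
  have : Subsingleton (F.presheaf.stalk x) := h
  have : Subsingleton (L.presheaf.stalk x ⊗[X.presheaf.stalk x] F.presheaf.stalk x) := by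
    refine subsingleton_of_forall_eq 0 fun z => ?_
    induction z using TensorProduct.induction_on with
    | zero => rfl
    | tmul a b => rw [Subsingleton.elim b 0, TensorProduct.tmul_zero]
    | add p q hp hq => rw [hp, hq, add_zero]
  exact (QCohMod.stalkTensorEquiv L F x).symm.toEquiv.subsingleton

/-- The stalk of an invertible module is free of rank one. -/
theorem exists_stalk_equiv {L : X.Modules} (hL : PicF.IsInvertible L) (x : X) :
    Nonempty (X.presheaf.stalk x ≃ₗ[X.presheaf.stalk x] L.presheaf.stalk x) := by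
  obtain ⟨U, e, hxU, he⟩ := ((PicAux.isInvertible_iff_exists_gen L).1 hL) x
  let φ := LinearMap.toSpanSingleton (X.presheaf.stalk x) (L.presheaf.stalk x)
    (QCohMod.germ L x hxU e)
  refine ⟨LinearEquiv.ofBijective φ ⟨(injective_iff_map_eq_zero φ).2 fun r hr =>
    PicAux.germ_smul_eq_zero he hxU hr, fun t => ?_⟩⟩
  obtain ⟨W, hxW, s, rfl⟩ := QCohMod.exists_germ L x t
  have hx : x ∈ U ⊓ W := ⟨hxU, hxW⟩
  obtain ⟨c, hc⟩ := he.exists_coeff (inf_le_left : U ⊓ W ≤ U) (PicAux.res L inf_le_right s)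
  refine ⟨X.presheaf.germ (U ⊓ W) x hx c, ?_⟩
  rw [← QCohMod.germ_res L (inf_le_right : U ⊓ W ≤ W) x hx s]
  change (X.presheaf.germ (U ⊓ W) x hx c : X.presheaf.stalk x) • QCohMod.germ L x hxU e = _
  rw [← QCohMod.germ_res L (inf_le_left : U ⊓ W ≤ U) x hx e, ← QCohMod.germ_smul]
  exact congrArg _ hc.symm

theorem exists_stalk_equiv_twist {L : X.Modules} (hL : PicF.IsInvertible L) (F : X.Modules) (x : X) :
    Nonempty (F.presheaf.stalk x ≃ₗ[X.presheaf.stalk x]
      (CohB1.tensorMod L F).presheaf.stalk x) :=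
  ⟨(TensorProduct.lid _ _).symm ≪≫ₗ
    TensorProduct.congr (exists_stalk_equiv hL x).some (LinearEquiv.refl _ _) ≪≫ₗ
    QCohMod.stalkTensorEquiv L F x⟩

/-- Twisting by an invertible module preserves short exact sequences. -/
theorem exists_shortExact_twist {L : X.Modules} (hL : PicF.IsInvertible L)
    {S : ShortComplex X.Modules} (hS : S.ShortExact) :
    ∃ S' : ShortComplex X.Modules, S'.ShortExact ∧
      Nonempty (S'.X₁ ≅ CohB1.tensorMod L S.X₁) ∧ Nonempty (S'.X₂ ≅ CohB1.tensorMod L S.X₂) ∧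
      Nonempty (S'.X₃ ≅ CohB1.tensorMod L S.X₃) :=
  ⟨_, PicAux.shortExact_tensorRightMod hL hS, tensor_comm _ L, tensor_comm _ L, tensor_comm _ L⟩

/-! ### Lists -/

theorem isInvertible_tensorList {l : List X.Modules} (hl : ∀ M ∈ l, PicF.IsInvertible M) :
    PicF.IsInvertible (FGA.tensorList l) := by
  induction l with
  | nil =>
    have h := PicAux.isInvertible_iff_exists_gen (Coh.structureModule X)
    exact h.2 fun x => ⟨⊤, _, trivial, PicAux.gen_oneSec ⊤⟩
  | cons a l ih =>
    exact PicAux.isInvertible_tensorMod (hl a (by simp)) (ih fun M hM => hl M (by simp [hM]))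

theorem tensorList_perm {l l' : List X.Modules} (h : l.Perm l') :
    Nonempty (FGA.tensorList l ≅ FGA.tensorList l') := by
  induction h with
  | nil => exact ⟨Iso.refl _⟩
  | cons a _ ih => exact tensor_congr ⟨Iso.refl a⟩ ih
  | swap a b l => exact tensor_left_comm b a _
  | trans _ _ h₁ h₂ => exact ⟨h₁.some ≪≫ h₂.some⟩

theorem tensorList_cons_tensor (a : X.Modules) (l : List X.Modules) (F : X.Modules) :
    Nonempty (CohB1.tensorMod (FGA.tensorList (a :: l)) F ≅
      CohB1.tensorMod (FGA.tensorList l) (CohB1.tensorMod a F)) :=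
  ⟨(tensor_assoc a _ F).some ≪≫ (tensor_left_comm a _ F).some⟩

end Groth.Inter
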