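import Groth.Prelude.Def_FGA
import Groth.Agent.Inter.Vanishing
import Groth.Agent.EulerDeg.Proper
import Groth.Agent.CohC3.ProperHelpers
import Groth.Agent.CohFin.ProjFinite

/-!
# The Euler characteristic on a proper scheme over a field

Finiteness, additivity, and comparison with `FGA.eulerCharLE`.
-/

universe u

open CategoryTheory CategoryTheory.Limits AlgebraicGeometry

namespace Groth.Inter

variable (k : Type u) [Field k] {X : Scheme.{u}} [X.Over (Spec (CommRingCat.of k))]
  [IsProper (X ↘ Spec (CommRingCat.of k))]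

include k in
lemma isNoetherian : IsNoetherian X :=
  CohC3.isNoetherian_of_proper k X

theorem finCoh {F : X.Modules} (hF : Coh.IsCoh F) : EulerDeg.FinCoh k F :=
  EulerDeg.finCoh_of_isCoh k X
    (fun M hM n => CohFin.hFin_of_proper CohFin.projFinite n X (X ↘ Spec (CommRingCat.of k)) M hM) hF

theorem euler_add {S : ShortComplex X.Modules} (hS : S.ShortExact) (h₁ : Coh.IsCoh S.X₁)
    (h₃ : Coh.IsCoh S.X₃) :
    Curv2.euler k X S.X₂ = Curv2.euler k X S.X₁ + Curv2.euler k X S.X₃ :=
  EulerDeg.euler_add hS (finCoh k h₁) (finCoh k h₃)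

/-- In dimension `≤ d` the truncated Euler characteristic is the Euler characteristic. -/
theorem eulerCharLE_eq {d : ℕ} (hd : topologicalKrullDim X ≤ d) (F : X.Modules) :
    FGA.eulerCharLE k X F d = Curv2.euler k X F := by
  have : IsNoetherian X := isNoetherian k
  rw [FGA.eulerCharLE]
  refine (EulerDeg.euler_eq_sum (k := k) (N := d + 1) fun n hn => ?_).symm
  have t : TopologicalSpace.NoetherianSpace X := inferInstance
  exact @Vanishing.subsingleton_H_of_dim_le X.toTopCat t d hd (Coh.toAb F) n (by omega)

omit [IsProper (X ↘ Spec (CommRingCat.of k))] in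
theorem euler_of_isZero {F : X.Modules} (hF : IsZero F) : Curv2.euler k X F = 0 :=
  EulerDeg.euler_of_isZero fun n =>
    Sheaf.subsingleton_H_of_isZero
      ((SheafOfModules.toSheaf X.ringCatSheaf).map_isZero hF) n

end Groth.Inter
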