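import Groth.Agent.Inter.Chi
import Groth.Agent.KTheory.ClosureSheaf

/-!
# Additive functions on coherent modules

An additive function vanishing on the structure sheaves of all closed integral subschemes inside a
closed set vanishes on the coherent modules supported there.
-/

universe u

open CategoryTheory CategoryTheory.Limits AlgebraicGeometry TopologicalSpace

namespace Groth.Inter

open Groth.KTheory Groth.KTheory.Devissage

variable {X : Scheme.{u}} [IsNoetherian X]

/-- Additive functions on coherent modules supported in `X'`. -/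
theorem additive_eq_zero_of_support {G : Type*} [AddCommGroup G] (φ : X.Modules → G)
    {X' : Set X} (hX' : IsClosed X')
    (hadd : ∀ S : ShortComplex X.Modules, S.ShortExact → Coh.IsCoh S.X₁ → Coh.IsCoh S.X₂ →
      Coh.IsCoh S.X₃ → CohB1.support S.X₁ ⊆ X' → CohB1.support S.X₂ ⊆ X' →
      CohB1.support S.X₃ ⊆ X' → φ S.X₂ = φ S.X₁ + φ S.X₃)
    (hgen : ∀ y : X, closure ({y} : Set X) ⊆ X' → φ (Cyc.closureStructureSheaf y) = 0)
    {F : X.Modules} (hF : Coh.IsCoh F) (hsupp : CohB1.support F ⊆ X') : φ F = 0 := by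
  let Φ := liftSub (cohSupp X') φ fun S hS h₁ h₂ h₃ => hadd S hS h₁.1 h₂.1 h₃.1 h₁.2 h₂.2 h₃.2
  have htop : Φ.ker = ⊤ := closure_eq_top X' hX' Φ.ker fun y hy =>
    ⟨Cyc.closureStructureSheaf y, isCoh_closureStructureSheaf y,
      support_closureStructureSheaf_subset y, length_closureStructureSheaf y, by
        rw [AddMonoidHom.mem_ker, liftSub_clSub (P := cohSupp X') φ _
          ⟨isCoh_closureStructureSheaf y, (support_closureStructureSheaf_subset y).trans hy⟩]
        exact hgen y hy⟩
  have h : KZero.clSub (cohSupp X') F ∈ Φ.ker := htop ▸ AddSubgroup.mem_top _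
  rwa [AddMonoidHom.mem_ker, liftSub_clSub (P := cohSupp X') φ _ ⟨hF, hsupp⟩] at h

theorem additive_eq_zero {G : Type*} [AddCommGroup G] (φ : X.Modules → G)
    (hadd : ∀ S : ShortComplex X.Modules, S.ShortExact → Coh.IsCoh S.X₁ → Coh.IsCoh S.X₂ →
      Coh.IsCoh S.X₃ → φ S.X₂ = φ S.X₁ + φ S.X₃)
    {X' : Set X} (hX' : IsClosed X')
    (hgen : ∀ y : X, closure ({y} : Set X) ⊆ X' → φ (Cyc.closureStructureSheaf y) = 0)
    {F : X.Modules} (hF : Coh.IsCoh F) (hsupp : CohB1.support F ⊆ X') : φ F = 0 :=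
  additive_eq_zero_of_support φ hX' (fun S hS c₁ c₂ c₃ _ _ _ => hadd S hS c₁ c₂ c₃) hgen hF hsupp

end Groth.Inter
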