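import Groth.Agent.Inter.Delta
import Groth.Agent.Inter.Devissage

/-!
# The length formula

`Δ_{M₁} ⋯ Δ_{M_r} χ(F) = Σ length(F_ξ) · Δ_{M₁} ⋯ Δ_{M_r} χ(O_{\bar ξ})`, the sum over the
`r`-dimensional components of `Supp F`.
-/

universe u

open CategoryTheory CategoryTheory.Limits AlgebraicGeometry TopologicalSpace

namespace Groth.Inter

variable {X : Scheme.{u}}

/-- Lengths of stalks are additive. -/
theorem length_stalk_add {S : ShortComplex X.Modules} (hS : S.ShortExact) (x : X) :
    Module.length (X.presheaf.stalk x) (S.X₂.presheaf.stalk x) =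
      Module.length (X.presheaf.stalk x) (S.X₁.presheaf.stalk x) +
        Module.length (X.presheaf.stalk x) (S.X₃.presheaf.stalk x) := by
  have := hS.mono_f
  have := hS.epi_g
  refine Module.length_eq_add_of_exact (KTheory.LocFree.stalkₗ S.f x) (KTheory.LocFree.stalkₗ S.g x)
    ((Groth.QCohMod.mono_iff_stalk S.f).mp inferInstance x)
    ((Groth.QCohMod.epi_iff_stalk S.g).mp inferInstance x) ?_
  have hex := hS.exact.map (Groth.QCohMod.stalk x)
  rw [ShortComplex.ab_exact_iff] at hex
  intro t
  refine ⟨fun ht => hex t ht, ?_⟩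
  rintro ⟨u, rfl⟩
  exact congr($((S.map (Groth.QCohMod.stalk x)).zero) u)

/-- Nested closures of the same finite dimension are equal. -/
theorem eq_of_dim_closure {ξ y : X} (h : ξ ∈ closure ({y} : Set X)) {n : ℕ}
    (hy : topologicalKrullDim (closure ({y} : Set X)) ≤ (n : ℕ))
    (hξ : (n : ℕ) ≤ topologicalKrullDim (closure ({ξ} : Set X))) : ξ = y := by
  have hsub : closure ({ξ} : Set X) ⊆ closure {y} :=
    closure_minimal (Set.singleton_subset_iff.2 h) isClosed_closure
  have h' : closure ({y} : Set X) ⊆ closure {ξ} := by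
    by_contra hne
    exact absurd (LocCohTransform.topologicalKrullDim_lt_of_ssubset hsub hne isClosed_closure
      isClosed_closure isIrreducible_singleton.closure
      (lt_of_le_of_lt hy (WithBot.coe_lt_coe.2 (ENat.natCast_lt_top _)))) (not_lt.2 (hy.trans hξ))
  exact isGenericPoint_closure.eq ((Set.Subset.antisymm h' hsub) ▸ isGenericPoint_closure)

variable (k : Type u) [Field k] [X.Over (Spec (CommRingCat.of k))]
  [IsProper (X ↘ Spec (CommRingCat.of k))]

/-- The length formula. -/
theorem delta_eq_sum_length {l : List X.Modules} (hl : ∀ M ∈ l, PicF.IsInvertible M)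
    {F : X.Modules} (hF : Coh.IsCoh F)
    (hdim : topologicalKrullDim (CohB1.support F) ≤ (l.length : ℕ)) (s : Finset X)
    (hs : ∀ ξ : X, ξ ∈ s ↔ ξ ∈ CohB1.support F ∧
      topologicalKrullDim (closure ({ξ} : Set X)) = (l.length : ℕ)) :
    delta k l F = ∑ ξ ∈ s, ((Module.length (X.presheaf.stalk ξ) (F.presheaf.stalk ξ)).toNat : ℤ) *
      delta k l (Cyc.closureStructureSheaf ξ) := by
  classical
  have hN : IsNoetherian X := isNoetherian k
  rw [← sub_eq_zero]
  refine additive_eq_zero_of_support
    (fun G => delta k l G - ∑ ξ ∈ s, ((Module.length (X.presheaf.stalk ξ) (G.presheaf.stalk ξ)).toNat : ℤ) *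
      delta k l (Cyc.closureStructureSheaf ξ))
    (CohTwo.isClosed_support F hF) (fun S hS c₁ c₂ c₃ s₁ _ s₃ => ?_) (fun y hy => ?_) hF subset_rfl
  · have hmax : ∀ ξ ∈ s, ∀ G : X.Modules, Coh.IsCoh G → CohB1.support G ⊆ CohB1.support F →
        Module.length (X.presheaf.stalk ξ) (G.presheaf.stalk ξ) ≠ ⊤ := by
      intro ξ hξ G hG hGF
      refine KTheory.Devissage.length_stalk_ne_top hG ξ fun z hz hzξ => ?_
      exact (eq_of_dim_closure (specializes_iff_mem_closure.1 hzξ)
        ((LocCohTransform.topologicalKrullDim_mono (closure_minimal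
          (Set.singleton_subset_iff.2 (hGF hz)) (CohTwo.isClosed_support F hF))).trans hdim)
        ((hs ξ).1 hξ).2.ge).symm
    rw [delta_add k hl hS c₁ c₃]
    have e : ∀ ξ ∈ s, ((Module.length (X.presheaf.stalk ξ) (S.X₂.presheaf.stalk ξ)).toNat : ℤ) *
          delta k l (Cyc.closureStructureSheaf ξ) =
        ((Module.length (X.presheaf.stalk ξ) (S.X₁.presheaf.stalk ξ)).toNat : ℤ) *
          delta k l (Cyc.closureStructureSheaf ξ) +
        ((Module.length (X.presheaf.stalk ξ) (S.X₃.presheaf.stalk ξ)).toNat : ℤ) *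
          delta k l (Cyc.closureStructureSheaf ξ) := fun ξ hξ => by
      rw [length_stalk_add hS ξ, ENat.toNat_add (hmax ξ hξ _ c₁ s₁) (hmax ξ hξ _ c₃ s₃)]
      push_cast
      ring
    rw [Finset.sum_congr rfl e, Finset.sum_add_distrib]
    ring
  · have hd : topologicalKrullDim (closure ({y} : Set X)) ≤ (l.length : ℕ) :=
      (LocCohTransform.topologicalKrullDim_mono hy).trans hdim
    have hsy := KTheory.Devissage.support_closureStructureSheaf_subset y
    have hne : ∀ ξ ∈ s, ξ ≠ y →
        ((Module.length (X.presheaf.stalk ξ) ((Cyc.closureStructureSheaf y).presheaf.stalk ξ)).toNat : ℤ) *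
          delta k l (Cyc.closureStructureSheaf ξ) = 0 := fun ξ hξ hne => by
      have hnot : ξ ∉ CohB1.support (Cyc.closureStructureSheaf y) := fun h =>
        hne (eq_of_dim_closure (hsy h) hd ((hs ξ).1 hξ).2.ge)
      simp only [CohB1.support, Set.mem_ofPred_eq, not_not] at hnot
      simp [Module.length_eq_zero_iff.2 hnot]
    by_cases hys : y ∈ s
    · rw [Finset.sum_eq_single y hne (fun h => absurd hys h),
        KTheory.Devissage.length_closureStructureSheaf y]
      simp
    · rw [Finset.sum_eq_zero fun ξ hξ => hne ξ hξ fun e => hys (e ▸ hξ), sub_zero]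
      refine delta_eq_zero k l hl _ (KTheory.Devissage.isCoh_closureStructureSheaf y)
        (lt_of_le_of_lt (LocCohTransform.topologicalKrullDim_mono hsy) (lt_of_le_of_ne hd fun e => ?_))
      exact hys ((hs y).2 ⟨hy (subset_closure rfl), e⟩)

end Groth.Inter
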