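import Groth.Agent.PicAux.EffCartierLine
import Groth.Agent.PnCoh.ProjectionFormula
import Groth.Agent.PnCoh.SectionsExact
import Groth.Agent.PropsBasic.AmpleBasis
import Groth.Agent.PicAux.Powers
import Groth.Agent.PnCoh.VanishingClosed
import Groth.Agent.Ega2Proj.AmpleBasic

/-!
# Ampleness from the vanishing of `H¹` of twisted ideals
-/

universe u

open CategoryTheory CategoryTheory.Limits AlgebraicGeometry TopologicalSpace Opposite

namespace Groth.Inter

open Groth.PicAux Groth.PropsBasic.Ample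

variable {X : Scheme.{u}}

theorem exists_gen_tensorPow {L : X.Modules} {U : X.Opens} {e : Γ(L, U)} (he : Gen L U e) :
    ∀ n : ℕ, ∃ f : Γ(CohB1.tensorPow L n, U), Gen (CohB1.tensorPow L n) U f
  | 0 => ⟨_, gen_oneSec U⟩
  | n + 1 => by
    obtain ⟨f, hf⟩ := exists_gen_tensorPow he n
    exact ⟨_, hf.tensor he⟩

theorem exists_closed_point (x : X) [CompactSpace X] : ∃ z : X, x ⤳ z ∧ IsClosed ({z} : Set X) := by
  obtain ⟨z, hz, hc⟩ := (isClosed_closure (s := ({x} : Set X))).exists_closed_singleton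
    ⟨x, subset_closure rfl⟩
  exact ⟨z, specializes_iff_mem_closure.2 hz, hc⟩

/-- Restriction of sections to a closed subscheme is onto when `H¹(I ⊗ L) = 0`. -/
theorem surjective_pullSec {L : X.Modules} (hL : PicF.IsInvertible L) (I : X.IdealSheafData)
    (h : Subsingleton (Coh.HH X (CohB1.tensorMod (ClSub.idealMod I) L) 1))
    (q : Γ((Scheme.Modules.pullback I.subschemeι).obj L, (⊤ : I.subscheme.Opens))) :
    ∃ s : Γ(L, ⊤), pullSec I.subschemeι L s = q := by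
  let S := (ShortComplex.mk (ClSub.idealModι I) (ClSub.toSubscheme I)
    (kernel.condition (ClSub.toSubscheme I))).map (DCoh.tensorRightMod L)
  have hS : S.ShortExact := shortExact_idealMod_twist I hL
  have := hS.epi_g
  have := hS.mono_f
  let D : ShortComplex X.Modules := ShortComplex.mk S.g (0 : S.X₃ ⟶ S.X₃) comp_zero
  have hD : D.Exact := D.exact_iff_epi rfl |>.2 hS.epi_g
  have hK : Subsingleton (Coh.HH X (kernel D.f) 1) := by
    have e : CohB1.tensorMod (ClSub.idealMod I) L ≅ kernel D.f :=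
      IsLimit.conePointUniqueUpToIso hS.fIsKernel (limit.isLimit _)
    exact PnCoh.subsingleton_HH_of_iso (specULiftZIsTerminal.from X) e h
  let Q := (Scheme.Modules.pullback I.subschemeι).obj L
  obtain ⟨P, hP⟩ := PnCoh.exists_projectionFormula I.subschemeι (Coh.structureModule I.subscheme) hL
  obtain ⟨μ, hμ⟩ := exists_leftUnitor Q
  obtain ⟨ν, hν⟩ := exists_leftUnitor L
  let q' : Γ(S.X₃, (⊤ : X.Opens)) :=
    P.inv.app ⊤ (μ.inv.app (I.subschemeι ⁻¹ᵁ ⊤) (show Γ(Q, I.subschemeι ⁻¹ᵁ ⊤) from q))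
  obtain ⟨t, ht⟩ := (PnCoh.exact_app_top_of_subsingleton (specULiftZIsTerminal.from X)
    D hD hK q').1 rfl
  refine ⟨ν.hom.app ⊤ t, ?_⟩
  have hsec : ∀ s : Γ(L, (⊤ : X.Opens)), μ.hom.app (I.subschemeι ⁻¹ᵁ ⊤) (P.hom.app ⊤
      (S.g.app ⊤ (tmulSec (oneSec X ⊤) s))) = pullSec I.subschemeι L s := by
    intro s
    have h1 : S.g.app ⊤ (tmulSec (oneSec X ⊤) s) =
        tmulSec ((ClSub.toSubscheme I).app ⊤ (oneSec X ⊤)) s :=
      tensorRightMod_map_tmulSec L (ClSub.toSubscheme I) ⊤ _ _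
    rw [h1, hP, hμ]
    convert one_smul Γ(I.subscheme, I.subschemeι ⁻¹ᵁ ⊤) (pullSec I.subschemeι L s) using 2
    exact map_one (I.subschemeι.app ⊤).hom
  obtain ⟨s, rfl⟩ : ∃ s : Γ(L, (⊤ : X.Opens)), t = tmulSec (oneSec X ⊤) s := by
    refine ⟨ν.hom.app ⊤ t, ?_⟩
    apply ((ConcreteCategory.isIso_iff_bijective (ν.hom.app ⊤)).1 inferInstance).1
    rw [hν, toFun_oneSec, one_smul]
  rw [hν, toFun_oneSec, one_smul, ← hsec s]
  change μ.hom.app _ (P.hom.app ⊤ (D.f.app ⊤ _)) = _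
  rw [ht]
  change μ.hom.app _ (P.hom.app ⊤ (P.inv.app ⊤ _)) = _
  rw [← ConcreteCategory.comp_apply, ← Scheme.Modules.Hom.comp_app, P.inv_hom_id]
  change μ.hom.app _ (μ.inv.app _ _) = _
  rw [← ConcreteCategory.comp_apply, ← Scheme.Modules.Hom.comp_app, μ.inv_hom_id]
  rfl

/-- A quasi-compact scheme on which `H¹(I ⊗ L^n)` vanishes for some `n > 0`, for every
quasi-coherent ideal `I`, has `L` ample. -/
theorem isAmple_of_ideal_vanishing [CompactSpace X] {L : X.Modules} (hL : PicF.IsInvertible L)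
    (h : ∀ I : X.IdealSheafData, ∃ n : ℕ,
      Subsingleton (Coh.HH X (CohB1.tensorMod (ClSub.idealMod I) (CohB1.tensorPow L (n + 1))) 1)) :
    CohB1.IsAmple L := by
  refine ⟨hL, inferInstance, fun x₀ => ?_⟩
  obtain ⟨x, hx₀, hxc⟩ := exists_closed_point x₀
  obtain ⟨U, e, hU, hxU, he⟩ := exists_affine_gen_mem hL x
  let C : Closeds X := ⟨(U : Set X)ᶜ ∪ {x}, U.2.isClosed_compl.union hxc⟩
  let I := Scheme.IdealSheafData.vanishingIdeal C
  obtain ⟨n, hn⟩ := h I
  obtain ⟨f, hf⟩ := exists_gen_tensorPow he (n + 1)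
  let i := I.subschemeι
  let M := CohB1.tensorPow L (n + 1)
  have hM : PicF.IsInvertible M := isInvertible_tensorPow hL _
  let Q := (Scheme.Modules.pullback i).obj M
  let O : X.Opens := ⟨({x} : Set X)ᶜ, hxc.isOpen_compl⟩
  have hmem : ∀ w, i w ∈ (U : Set X)ᶜ ∪ {x} := fun w => by
    have h1 : i w ∈ (I.support : Set X) := I.range_subschemeι.le ⟨w, rfl⟩
    rwa [Scheme.IdealSheafData.coe_support_vanishingIdeal] at h1
  let V : Bool → I.subscheme.Opens := fun b => if b then i ⁻¹ᵁ U else i ⁻¹ᵁ O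
  have hdis : ∀ w, w ∈ i ⁻¹ᵁ U → w ∈ i ⁻¹ᵁ O → False := fun w hU' hO' =>
    (hmem w).elim (fun h => h hU') (fun h => hO' h)
  have hbot : (i ⁻¹ᵁ U) ⊓ (i ⁻¹ᵁ O) = ⊥ :=
    Opens.ext (Set.eq_empty_iff_forall_notMem.2 fun w hw => hdis w hw.1 hw.2)
  let q : ∀ b, Γ(Q, V b) := fun b => Bool.rec (0 : Γ(Q, i ⁻¹ᵁ O)) (pullSec i M f : Γ(Q, i ⁻¹ᵁ U)) b
  have hcover : (⊤ : I.subscheme.Opens) ≤ iSup V := fun w _ => by
    rw [Opens.mem_iSup]
    by_cases hw : i w = x
    · exact ⟨true, by change i w ∈ U; rw [hw]; exact hxU⟩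
    · exact ⟨false, hw⟩
  have hsub : ∀ (W : I.subscheme.Opens), W ≤ ⊥ → ∀ a b : Γ(Q, W), a = b := fun W hW a b => by
    obtain rfl : W = ⊥ := le_bot_iff.1 hW
    have : Subsingleton Γ(I.subscheme, (⊥ : I.subscheme.Opens)) := inferInstance
    have := Module.subsingleton Γ(I.subscheme, (⊥ : I.subscheme.Opens)) Γ(Q, ⊥)
    exact Subsingleton.elim _ _
  obtain ⟨q₀, hq₀, -⟩ := res_glue (M := Q) V (fun _ => le_top) hcover q (by
    intro a b
    cases a <;> cases b
    · rfl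
    · exact hsub _ (le_of_eq_of_le (inf_comm _ _) hbot.le) _ _
    · exact hsub _ hbot.le _ _
    · rfl)
  obtain ⟨s, hs⟩ := surjective_pullSec hM I hn q₀
  have hloc : i ⁻¹ᵁ gloc s = gloc q₀ := by rw [← hs, gloc_pullSec i hM]
  have hxs : x ∈ gloc s := by
    obtain ⟨w, hw⟩ : x ∈ Set.range i := by
      rw [I.range_subschemeι, Scheme.IdealSheafData.coe_support_vanishingIdeal]
      exact Or.inr rfl
    have h1 : w ∈ gloc q₀ := le_gloc (t := q₀) (V := i ⁻¹ᵁ U) (by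
      rw [show res Q _ q₀ = q true from hq₀ true]
      exact hf.pull i) (by change i w ∈ U; rw [hw]; exact hxU)
    rw [← hloc] at h1
    rw [← hw]
    exact h1
  have hle : gloc s ≤ U := by
    intro z hz
    by_contra hzU
    obtain ⟨w, rfl⟩ : z ∈ Set.range i := by
      rw [I.range_subschemeι, Scheme.IdealSheafData.coe_support_vanishingIdeal]
      exact Or.inl hzU
    have hwO : w ∈ i ⁻¹ᵁ O := fun h => hzU (by rw [show i w = x from h]; exact hxU)
    have h1 : w ∈ gloc q₀ := hloc.le hz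
    obtain ⟨W, e', -, hwW, he'⟩ := exists_affine_gen_mem (isInvertible_pullback i hM) w
    have h2 : res Q (le_top : W ⊓ i ⁻¹ᵁ O ≤ ⊤) q₀ = (0 : Γ(I.subscheme, W ⊓ i ⁻¹ᵁ O)) •
        res Q inf_le_left e' := by
      rw [zero_smul, ← res_res (M := Q) (le_top : i ⁻¹ᵁ O ≤ ⊤) inf_le_right q₀,
        show res Q _ q₀ = q false from hq₀ false]
      exact res_zero _
    have h3 := (Ega2Proj.mem_gloc_iff (he'.res inf_le_left) h2 ⟨hwW, hwO⟩).1 h1
    rw [map_zero] at h3
    exact not_isUnit_zero h3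
  refine ⟨n, homOfSection s, hx₀.mem_open (CohB1.genLocus _ _).2 ?_, ?_⟩
  · exact hxs
  · have h4 := isAffineOpen_gloc_inf hM (homOfSection s) hU
    rwa [inf_eq_left.2 (show CohB1.genLocus _ (homOfSection s) ≤ U from hle)] at h4

end Groth.Inter
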