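import Groth.Agent.CohBase.FibreConsequences
import Groth.Agent.Inter.Chi

/-!
# Local constancy of the Euler characteristic of the fibres of a flat coherent module
-/

universe u

open CategoryTheory Limits AlgebraicGeometry TopologicalSpace Opposite HomologicalComplex
open scoped TensorProduct

namespace Groth.Inter

open Groth.CohBase Groth.CohBase.CxRank Groth.FlatCxBase

variable {X S : Scheme.{u}} (f : X ⟶ S)

lemma fdim_eq_zero_of_subsingleton {A : Type u} [CommRing A] (M : Type u) [AddCommGroup M]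
    [Module A M] [Subsingleton M] (x : PrimeSpectrum A) : fdim M x = 0 :=
  Module.finrank_zero_of_subsingleton

section Model

variable {f} {M : X.Modules} {V : S.Opens} (hV : IsAffineOpen V)
  [HasInjectiveResolutions X.Modules]
  {L : CochainComplex (ModuleCat.{u} Γ(S, V)) ℤ} (hL : IsModel f M L)

include hV hL in
lemma fiberRank_add (p : ℕ) (y : S) (hy : y ∈ V) :
    CohIII.fiberRank f M p y + fdim (L.X ((p : ℤ) + 1)) (hV.primeIdealOf ⟨y, hy⟩) =
      fdim (Qc L (p : ℤ)) (hV.primeIdealOf ⟨y, hy⟩) +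
        fdim (Qc L ((p : ℤ) + 1)) (hV.primeIdealOf ⟨y, hy⟩) := by
  have := hL.finite
  set x := hV.primeIdealOf ⟨y, hy⟩
  have hK := Ideal.ker_algebraMap_residueField x.asIdeal
  rw [hL.fiberRank_eq hV p y hy x.asIdeal.ResidueField hK]
  have h := kdim_ker_add L x.asIdeal.ResidueField (p : ℤ)
  rw [kdim_eq_fdim _ _ x hK, kdim_eq_fdim _ _ x hK, kdim_eq_fdim _ _ x hK] at h
  exact h

include hL in
lemma subsingleton_fiberH (p : ℕ) (y : S) (hy : y ∈ V) (hp : IsZero (L.X (p : ℤ))) :
    Subsingleton (CohIII.fiberH f M y p) := by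
  let : Algebra Γ(S, V) (S.residueField y) := (S.evaluation V y hy).hom.toAlgebra
  obtain ⟨e⟩ := hL.fibres p y hy
  have : Subsingleton (L.X (p : ℤ)) := ModuleCat.subsingleton_of_isZero hp
  have : Subsingleton (Qc L (p : ℤ)) := (Submodule.mkQ_surjective _).subsingleton
  have : Subsingleton (S.residueField y ⊗[Γ(S, V)] Qc L (p : ℤ)) := inferInstance
  exact e.toEquiv.subsingleton

end Model

/-- The Euler characteristic of the restriction of a module to a fibre. -/
noncomputable def fibreEuler (M : X.Modules) (y : S) : ℤ :=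
  letI : (f.fiber y).Over (Spec (CommRingCat.of (S.residueField y))) := ⟨f.fiberToSpecResidueField y⟩
  Curv2.euler (S.residueField y) (f.fiber y) (CohIII.fiberMod f M y)

/-- The Euler characteristics of the fibres of a flat coherent module over a locally Noetherian
base, for a proper morphism, are locally constant. -/
theorem isLocallyConstant_euler_fiber [IsProper f] [IsLocallyNoetherian S] (M : X.Modules)
    (hM : Coh.IsCoh M) (hfl : FlatMod.IsFlatOver f M) :
    IsLocallyConstant (fibreEuler f M) := by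
  rw [IsLocallyConstant.iff_exists_open]
  intro y₀
  obtain ⟨_, ⟨V, hV, rfl⟩, hy₀, -⟩ :=
    S.isBasis_affineOpens.exists_subset_of_mem_open (Set.mem_univ y₀) isOpen_univ
  have : IsNoetherianRing Γ(S, V) := IsLocallyNoetherian.component_noetherian ⟨V, hV⟩
  obtain ⟨L, hL⟩ := exists_isModel f M hV hM hfl
  have := hL.finite
  have := hL.flat
  obtain ⟨b, hb⟩ := hL.bdd
  let N : ℕ := b.toNat + 1
  let x : V → PrimeSpectrum Γ(S, V) := fun y => hV.primeIdealOf y
  let g : PrimeSpectrum Γ(S, V) → ℤ := fun z =>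
    (fdim (Qc L (0 : ℤ)) z : ℤ) -
      ∑ i ∈ Finset.range N, (-1 : ℤ) ^ i * (fdim (L.X ((i : ℤ) + 1)) z : ℤ)
  have hg : IsLocallyConstant g := by
    have h0 : IsLocallyConstant (fdim (A := Γ(S, V)) (Qc L (0 : ℤ))) := by
      have := hL.flat_Qc_zero
      exact isLocallyConstant_fdim _
    have h1 : ∀ i : ℕ, IsLocallyConstant (fdim (A := Γ(S, V)) (L.X ((i : ℤ) + 1))) := fun i => by
      have := Module.finitePresentation_of_finite Γ(S, V) (L.X ((i : ℤ) + 1))
      exact isLocallyConstant_fdim _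
    rw [IsLocallyConstant.iff_eventually_eq]
    intro z
    have h1' : ∀ᶠ w in nhds z, ∀ i ∈ Finset.range N,
        fdim (L.X ((i : ℤ) + 1)) w = fdim (L.X ((i : ℤ) + 1)) z := by
      rw [Finset.eventually_all]
      exact fun i _ => (h1 i).eventually_eq z
    filter_upwards [h0.eventually_eq z, h1'] with w hw hw'
    simp only [g]
    rw [hw, Finset.sum_congr rfl fun i hi => by rw [hw' i hi]]
  have key : ∀ (y : S) (hy : y ∈ V),
      fibreEuler f M y = g (x ⟨y, hy⟩) := by
    intro y hy
    let : (f.fiber y).Over (Spec (CommRingCat.of (S.residueField y))) := ⟨f.fiberToSpecResidueField y⟩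
    change Curv2.euler (S.residueField y) (f.fiber y) (CohIII.fiberMod f M y) = _
    have hvan : ∀ n, N ≤ n → Subsingleton (Coh.HH (f.fiber y) (CohIII.fiberMod f M y) n) :=
      fun n hn => subsingleton_fiberH hL n y hy (hb _ (by omega))
    rw [EulerDeg.euler_eq_sum hvan]
    have hstep : ∀ m : ℕ,
        ∑ i ∈ Finset.range m, (-1 : ℤ) ^ i * (CohIII.fiberRank f M i y : ℤ) =
          (fdim (Qc L (0 : ℤ)) (x ⟨y, hy⟩) : ℤ) -
              ∑ i ∈ Finset.range m, (-1 : ℤ) ^ i * (fdim (L.X ((i : ℤ) + 1)) (x ⟨y, hy⟩) : ℤ)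
            - (-1 : ℤ) ^ m * (fdim (Qc L (m : ℤ)) (x ⟨y, hy⟩) : ℤ) := by
      intro m
      induction m with
      | zero => simp
      | succ m ih =>
        rw [Finset.sum_range_succ, Finset.sum_range_succ, ih]
        have h := fiberRank_add hV hL m y hy
        have h' : (CohIII.fiberRank f M m y : ℤ) + (fdim (L.X ((m : ℤ) + 1)) (x ⟨y, hy⟩) : ℤ) =
            (fdim (Qc L (m : ℤ)) (x ⟨y, hy⟩) : ℤ) + (fdim (Qc L ((m : ℤ) + 1)) (x ⟨y, hy⟩) : ℤ) := by
          exact_mod_cast h
        have h'' := eq_sub_of_add_eq h'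
        push_cast
        rw [h'', pow_succ]
        ring
    refine (hstep N).trans ?_
    have : Subsingleton (L.X (N : ℤ)) := ModuleCat.subsingleton_of_isZero (hb _ (by omega))
    have : Subsingleton (Qc L (N : ℤ)) := (Submodule.mkQ_surjective _).subsingleton
    rw [fdim_eq_zero_of_subsingleton (Qc L (N : ℤ))]
    simp [g]
  have hxc : Continuous x := hV.isoSpec.hom.continuous
  obtain ⟨U, hU, hy₀U, hconst⟩ := (hg.comp_continuous hxc).exists_open ⟨y₀, hy₀⟩
  refine ⟨Subtype.val '' U, V.isOpen.isOpenMap_subtype_val _ hU, ⟨_, hy₀U, rfl⟩, ?_⟩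
  rintro _ ⟨⟨y, hy⟩, hyU, rfl⟩
  exact (key y hy).trans ((hconst _ hyU).trans (key y₀ hy₀).symm)

/-- The Euler characteristics of two fibres over a connected base agree. -/
theorem euler_fiber_eq [IsProper f] [IsLocallyNoetherian S] [PreconnectedSpace S] (M : X.Modules)
    (hM : Coh.IsCoh M) (hfl : FlatMod.IsFlatOver f M) (y z : S) :
    fibreEuler f M y = fibreEuler f M z :=
  (isLocallyConstant_euler_fiber f M hM hfl).apply_eq_of_preconnectedSpace y z

end Groth.Inter
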