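import Groth.Agent.Inter.NakaiCor
import Groth.Agent.Ega2Proj.RelAmple
import Mathlib.Topology.Order.IntermediateValue
import Mathlib.Topology.Algebra.Polynomial
import Mathlib.Data.Nat.Choose.Sum

/-!
# Kleiman's theorem on a scheme with an ample invertible module

Nef invertible modules have nonnegative intersection numbers.  Nefness is phrased with an inverse
`M`: `0 ≤ Δ_M χ(F)` for coherent `F` of dimension at most one.
-/

universe u

open CategoryTheory CategoryTheory.Limits AlgebraicGeometry TopologicalSpace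

namespace Groth.Inter

open Groth.PicAux Groth.HilbStab Groth.PropsBasic.Ample

variable (k : Type u) [Field k] {X : Scheme.{u}} [X.Over (Spec (CommRingCat.of k))]

/-- `δ_l` is nonnegative on coherent modules in the critical dimension. -/
def Nonneg (l : List X.Modules) : Prop :=
  ∀ F : X.Modules, Coh.IsCoh F → topologicalKrullDim (CohB1.support F) ≤ (l.length : ℕ) → 0 ≤ delta k l F

variable [IsProper (X ↘ Spec (CommRingCat.of k))]

omit [IsProper (X ↘ Spec (CommRingCat.of k))] in
theorem Nonneg.perm {l l' : List X.Modules} (h : l.Perm l') (hn : Nonneg k l) : Nonneg k l' :=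
  fun F hF hd => by rw [← delta_perm k h F]; exact hn F hF (by rwa [h.length_eq])

/-- Nonnegativity may be tested on integral closed subschemes of the critical dimension. -/
theorem nonneg_of_integral {l : List X.Modules} (hl : ∀ M ∈ l, PicF.IsInvertible M)
    (h : ∀ ξ : X, topologicalKrullDim (closure ({ξ} : Set X)) = (l.length : ℕ) →
      0 ≤ delta k l (Cyc.closureStructureSheaf ξ)) : Nonneg k l := by
  intro F hF hdim
  classical
  have hN : IsNoetherian X := isNoetherian k
  have hcl := CohTwo.isClosed_support F hF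
  let T := {x | x ∈ CohB1.support F ∧ topologicalKrullDim (closure ({x} : Set X)) = (l.length : ℕ)}
  have hT : T.Finite := (DivisorLength.finite_maximal_points hcl).subset fun x hx =>
    ⟨hx.1, fun w hw hwx => (eq_of_dim_closure hwx.mem_closure
      ((LocCohTransform.topologicalKrullDim_mono (closure_minimal (Set.singleton_subset_iff.2 hw) hcl)).trans
        hdim) hx.2.ge).symm⟩
  rw [delta_eq_sum_length k hl hF hdim hT.toFinset fun x => hT.mem_toFinset]
  exact Finset.sum_nonneg fun x hx => mul_nonneg (Int.natCast_nonneg _) (h x (hT.mem_toFinset.1 hx).2)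

/-- Cutting an integral closed subscheme by an ample module. -/
theorem exists_cut {B : X.Modules} (hB : IsAmpleInv B) (ξ : X) {n : ℕ}
    (hξ : topologicalKrullDim (closure ({ξ} : Set X)) = (n + 1 : ℕ)) :
    ∃ (c : ℕ) (Q : X.Modules), 0 < c ∧ Coh.IsCoh Q ∧ topologicalKrullDim (CohB1.support Q) ≤ (n : ℕ) ∧
      ∀ l : List X.Modules, (∀ M ∈ l, PicF.IsInvertible M) → l.length = n →
        (c : ℤ) * delta k (B :: l) (Cyc.closureStructureSheaf ξ) = delta k l Q := by
  obtain ⟨A, hA, hAB⟩ := hB
  have hBi : PicF.IsInvertible B := PicAux.isInvertible_of_isInverseOf hA.1 hAB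
  have hN : IsNoetherian X := isNoetherian k
  have hO := KTheory.Devissage.isCoh_closureStructureSheaf ξ
  have hOs := support_closureStructureSheaf_eq k ξ
  obtain ⟨N, t, hξt, -, -⟩ := exists_affine_gloc_finite hA {ξ} (Set.finite_singleton ξ) ⊤
    (fun _ _ => trivial)
  have := quasiSeparatedSpace_of_quasiSeparated (X ↘ Spec (CommRingCat.of k))
  obtain ⟨G, q, hq, hG, hsupp, hmono⟩ := HilbStab.exists_quotient_injective hO t inferInstance
  have hξO : ξ ∈ CohB1.support (Cyc.closureStructureSheaf ξ) := hOs ▸ subset_closure rfl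
  have hξG : ξ ∈ CohB1.support G := hsupp ξ (hξt rfl) hξO
  have hGY : CohB1.support G ⊆ closure {ξ} :=
    (KTheory.Devissage.support_subset_of_epi q).trans hOs.subset
  have := hO.1
  have := hG.1
  have hsmall : ∀ H : X.Modules, Coh.IsCoh H → CohB1.support H ⊆ closure {ξ} → ξ ∉ CohB1.support H →
      topologicalKrullDim (CohB1.support H) < ((n + 1 : ℕ) : WithBot ℕ∞) := fun H hH hHs hHξ =>
    lt_of_lt_of_eq (LocCohTransform.topologicalKrullDim_lt_of_ssubset hHs
      (fun h => hHξ (h (subset_closure rfl))) (CohTwo.isClosed_support _ hH) isClosed_closure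
      isIrreducible_singleton.closure (hξ ▸ WithBot.coe_lt_coe.2 (ENat.natCast_lt_top _))) hξ
  have hKc : Coh.IsCoh (kernel q) := QCohMod.isCoh_kernel q hO
  have hS : (ShortComplex.mk (kernel.ι q) q (kernel.condition q)).ShortExact :=
    { exact := ShortComplex.exact_of_f_is_kernel _ (kernelIsKernel q) }
  have hKs : ξ ∉ CohB1.support (kernel q) := fun hK => by
    have h1 : Module.length _ _ = _ + _ := length_stalk_add hS ξ
    rw [KTheory.Devissage.length_closureStructureSheaf ξ] at h1
    have hK1 : 1 ≤ Module.length (X.presheaf.stalk ξ) ((kernel q).presheaf.stalk ξ) :=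
      Order.one_le_iff_pos.2 (pos_iff_ne_zero.2 fun h => hK (Module.length_eq_zero_iff.1 h))
    have hG1 : 1 ≤ Module.length (X.presheaf.stalk ξ) (G.presheaf.stalk ξ) :=
      Order.one_le_iff_pos.2 (pos_iff_ne_zero.2 fun h => hξG (Module.length_eq_zero_iff.1 h))
    exact absurd ((add_le_add hK1 hG1).trans h1.ge) (by decide)
  let P := CohB1.tensorPow A (N + 1)
  let P' := CohB1.tensorPow B (N + 1)
  have hP : PicF.IsInvertible P := PicAux.isInvertible_tensorPow hA.1 _
  have hP' : PicF.IsInvertible P' := PicAux.isInvertible_tensorPow hBi _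
  have hGP : Coh.IsCoh (CohB1.tensorMod G P) :=
    QCohMod.isCoh_of_iso (tensor_comm P G).some (isCoh_twist hP hG)
  have := hGP.1
  let Q := cokernel (HilbStab.mulSec t G)
  have hQ : Coh.IsCoh Q := QCohMod.isCoh_cokernel _ hGP
  have hQs : CohB1.support Q ⊆ closure {ξ} :=
    (KTheory.Devissage.support_subset_of_epi (cokernel.π (HilbStab.mulSec t G))).trans
      ((HilbStab.support_tensorMod_subset hP G).trans hGY)
  refine ⟨N + 1, CohB1.tensorMod P' Q, N.succ_pos, isCoh_twist hP' hQ, ?_, fun l hl hlen => ?_⟩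
  · exact (LocCohTransform.topologicalKrullDim_mono (support_twist_subset _ _)).trans
      (lt_natCast_succ_iff.1 (hsmall Q hQ hQs
        fun h => HilbStab.support_cokernel_mulSec_subset t G h (hξt rfl)))
  · have hBl : ∀ M ∈ B :: l, PicF.IsInvertible M := by simpa [hBi] using hl
    have hK0 : delta k (B :: l) (kernel q) = 0 := delta_eq_zero k _ hBl _ hKc <| by
      rw [List.length_cons, hlen]
      exact hsmall _ hKc ((KTheory.Devissage.support_subset_of_mono (kernel.ι q)).trans hOs.subset) hKs
    have hadd := delta_add k hBl hS hKc hG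
    change delta k (B :: l) (Cyc.closureStructureSheaf ξ) = _ at hadd
    rw [hadd, hK0, zero_add]
    obtain ⟨S', hS', ⟨e₁⟩, ⟨e₂⟩, ⟨e₃⟩⟩ :=
      exists_shortExact_twist hP' (CohTwo.cokerSeq_shortExact (HilbStab.mulSec t G))
    have hadd2 := delta_add k hl hS'
      (QCohMod.isCoh_of_iso e₁.symm (isCoh_twist hP' hG))
      (QCohMod.isCoh_of_iso e₃.symm (isCoh_twist hP' hQ))
    rw [delta_congr k l ⟨e₁⟩, delta_congr k l ⟨e₂⟩, delta_congr k l ⟨e₃⟩] at hadd2
    have hinv : Nonempty (CohB1.tensorMod P' (CohB1.tensorMod G P) ≅ G) :=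
      ⟨(tensor_congr ⟨Iso.refl P'⟩ (tensor_comm G P)).some ≪≫ (tensor_assoc P' P G).some.symm ≪≫
        (tensor_congr (PicAux.isInverseOf_symm (PicAux.isInverseOf_tensorPow hAB (N + 1)))
          ⟨Iso.refl G⟩).some ≪≫ (tensor_one G).some⟩
    change delta k l (CohB1.tensorMod P' (CohB1.tensorMod G P)) =
      delta k l (CohB1.tensorMod P' G) + delta k l (CohB1.tensorMod P' Q) at hadd2
    rw [delta_congr k l hinv] at hadd2
    have hpow := delta_pow_cons k hBi hl hG
      (by rw [hlen]; exact (LocCohTransform.topologicalKrullDim_mono hGY).trans hξ.le) (N + 1)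
    rw [delta_cons, hadd2, add_sub_cancel_left] at hpow
    exact hpow.symm

/-- Adding an ample class keeps nonnegativity. -/
theorem Nonneg.cons {l : List X.Modules} (hl : ∀ M ∈ l, PicF.IsInvertible M) {B : X.Modules}
    (hB : IsAmpleInv B) (h : Nonneg k l) : Nonneg k (B :: l) := by
  refine nonneg_of_integral k (by simpa [hB.isInvertible] using hl) fun ξ hξ => ?_
  obtain ⟨c, Q, hc, hQ, hQd, hQe⟩ := exists_cut k hB ξ (n := l.length) (by simpa using hξ)
  have h0 := h Q hQ hQd
  rw [← hQe l hl rfl] at h0
  exact nonneg_of_mul_nonneg_right h0 (Int.natCast_pos.2 hc)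

theorem nonneg_replicate_append {l : List X.Modules} (hl : ∀ M ∈ l, PicF.IsInvertible M) {B : X.Modules}
    (hB : IsAmpleInv B) (h : Nonneg k l) : ∀ e : ℕ, Nonneg k (List.replicate e B ++ l)
  | 0 => h
  | e + 1 => Nonneg.cons k (fun M hM => by
      rcases List.mem_append.1 hM with h' | h'
      · exact (List.eq_of_mem_replicate h').symm ▸ hB.isInvertible
      · exact hl M h') hB (nonneg_replicate_append hl hB h e)

/-- Linearity in one slot. -/
theorem delta_comb_cons {B M : X.Modules} (hB : PicF.IsInvertible B) (hM : PicF.IsInvertible M)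
    (a b : ℕ) {l : List X.Modules} (hl : ∀ N ∈ l, PicF.IsInvertible N) {F : X.Modules}
    (hF : Coh.IsCoh F) (hdim : topologicalKrullDim (CohB1.support F) ≤ (l.length + 1 : ℕ)) :
    delta k (CohB1.tensorMod (CohB1.tensorPow B a) (CohB1.tensorPow M b) :: l) F =
      (a : ℤ) * delta k (B :: l) F + (b : ℤ) * delta k (M :: l) F := by
  rw [delta_tensor k (PicAux.isInvertible_tensorPow hB a) (PicAux.isInvertible_tensorPow hM b) hl hF hdim,
    delta_pow_cons k hB hl hF hdim, delta_pow_cons k hM hl hF hdim]

/-- The binomial expansion. -/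
theorem delta_comb_replicate {B M : X.Modules} (hB : PicF.IsInvertible B) (hM : PicF.IsInvertible M)
    (a b : ℕ) {F : X.Modules} (hF : Coh.IsCoh F) :
    ∀ (n : ℕ) (l : List X.Modules), (∀ N ∈ l, PicF.IsInvertible N) →
      topologicalKrullDim (CohB1.support F) ≤ ((n + l.length : ℕ) : WithBot ℕ∞) →
      delta k (List.replicate n (CohB1.tensorMod (CohB1.tensorPow B a) (CohB1.tensorPow M b)) ++ l) F =
        ∑ j ∈ Finset.range (n + 1), (n.choose j : ℤ) *
          ((b : ℤ) ^ j * (a : ℤ) ^ (n - j) *
            delta k (List.replicate j M ++ List.replicate (n - j) B ++ l) F) := by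
  intro n
  induction n with
  | zero => intro l _ _; simp
  | succ n ih =>
    intro l hl hdim
    let C := CohB1.tensorMod (CohB1.tensorPow B a) (CohB1.tensorPow M b)
    have hC : PicF.IsInvertible C :=
      isInvertible_tensorMod (PicAux.isInvertible_tensorPow hB a) (PicAux.isInvertible_tensorPow hM b)
    rw [List.replicate_succ', List.append_assoc, List.singleton_append,
      ih (C :: l) (by simpa [hC] using hl) (by
        rw [show n + (C :: l).length = n + 1 + l.length by simp; omega]; exact hdim)]
    let φ : ℕ → ℕ → ℤ := fun i j => (b : ℤ) ^ i * (a : ℤ) ^ j *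
      delta k (List.replicate i M ++ List.replicate j B ++ l) F
    have hs : ∀ j ∈ Finset.range (n + 1),
        (b : ℤ) ^ j * (a : ℤ) ^ (n - j) *
          delta k (List.replicate j M ++ List.replicate (n - j) B ++ C :: l) F =
        φ j (n + 1 - j) + φ (j + 1) (n - j) := fun j hj => by
      rw [Finset.mem_range] at hj
      simp only [φ]
      rw [delta_perm k (List.perm_middle (l₁ := List.replicate j M ++ List.replicate (n - j) B)) F,
        delta_comb_cons k hB hM a b ?_ hF ?_,
        show n + 1 - j = (n - j) + 1 by omega]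
      · have e₁ : delta k (B :: (List.replicate j M ++ List.replicate (n - j) B ++ l)) F =
            delta k (List.replicate j M ++ List.replicate (n - j + 1) B ++ l) F :=
          delta_perm k (by
            rw [List.replicate_succ, List.append_assoc, List.append_assoc, List.cons_append]
            exact List.perm_middle.symm) F
        have e₂ : delta k (M :: (List.replicate j M ++ List.replicate (n - j) B ++ l)) F =
            delta k (List.replicate (j + 1) M ++ List.replicate (n - j) B ++ l) F := by
          rw [List.replicate_succ]; rfl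
        rw [e₁, e₂, pow_succ, pow_succ]
        ring
      · intro N hN
        simp only [List.mem_append, List.mem_replicate] at hN
        rcases hN with (⟨-, rfl⟩ | ⟨-, rfl⟩) | h
        exacts [hM, hB, hl N h]
      · refine hdim.trans_eq ?_
        simp only [List.length_append, List.length_replicate]
        congr 1
        exact_mod_cast (show n + 1 + l.length = j + (n - j) + l.length + 1 by omega)
    rw [Finset.sum_choose_succ_mul φ n, ← Finset.sum_add_distrib]
    refine Finset.sum_congr rfl fun j hj => ?_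
    rw [hs j hj, mul_add]

/-- The analytic step: no polynomial behaves like a negative self-intersection of a nef class. -/
theorem real_step {d : ℕ} (I : ℕ → ℤ) (hI0 : 0 < I 0) (hIj : ∀ j < d, 0 ≤ I j) (hneg : I d < 0)
    (h : ∀ a b : ℕ, 0 < a → 0 < b →
      0 < ∑ j ∈ Finset.range (d + 1), (d.choose j : ℤ) * ((b : ℤ) ^ j * (a : ℤ) ^ (d - j) * I j) →
      (a : ℤ) ^ d * I 0 ≤
        ∑ j ∈ Finset.range (d + 1), (d.choose j : ℤ) * ((b : ℤ) ^ j * (a : ℤ) ^ (d - j) * I j)) :
    False := by
  have hd : 1 ≤ d := by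
    by_contra h0
    obtain rfl : d = 0 := by omega
    omega
  let p : ℝ → ℝ := fun t => ∑ j ∈ Finset.range (d + 1), (d.choose j : ℝ) * (t ^ (d - j) * (I j : ℝ))
  have hp : Continuous p := by fun_prop
  have hI0' : (1 : ℝ) ≤ I 0 := by exact_mod_cast hI0
  have hId' : (I d : ℝ) < 0 := by exact_mod_cast hneg
  have hsplit : ∀ t : ℝ, p t = t ^ d * (I 0 : ℝ) +
      (∑ j ∈ Finset.Ico 1 d, (d.choose j : ℝ) * (t ^ (d - j) * (I j : ℝ))) + (I d : ℝ) := fun t => by
    simp only [p]
    rw [Finset.sum_range_succ, Finset.range_eq_Ico, Finset.sum_eq_sum_Ico_succ_bot (by omega)]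
    simp
  have hmid : ∀ s t : ℝ, 0 ≤ s → s ≤ t →
      ∑ j ∈ Finset.Ico 1 d, (d.choose j : ℝ) * (s ^ (d - j) * (I j : ℝ)) ≤
        ∑ j ∈ Finset.Ico 1 d, (d.choose j : ℝ) * (t ^ (d - j) * (I j : ℝ)) := fun s t hs hst =>
    Finset.sum_le_sum fun j hj => by
      have : (0 : ℝ) ≤ I j := by exact_mod_cast hIj j (Finset.mem_Ico.1 hj).2
      gcongr
  have hp0 : p 0 = I d := by
    rw [hsplit, zero_pow (by omega), zero_mul, zero_add, Finset.sum_eq_zero fun j hj => ?_, zero_add]
    rw [Finset.mem_Ico] at hj
    rw [zero_pow (by omega), zero_mul, mul_zero]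
  let T : ℝ := 1 - I d
  have hT : (1 : ℝ) ≤ T := by simp only [T]; linarith
  have hpT : 0 ≤ p T := by
    have h1 := hmid 0 T le_rfl (by linarith)
    have h2 : (0 : ℝ) = ∑ j ∈ Finset.Ico 1 d, (d.choose j : ℝ) * ((0 : ℝ) ^ (d - j) * (I j : ℝ)) :=
      (Finset.sum_eq_zero fun j hj => by
        rw [Finset.mem_Ico] at hj
        rw [zero_pow (by omega), zero_mul, mul_zero]).symm
    have h3 : T ≤ T ^ d := le_self_pow₀ hT (by omega)
    have h4 : T ^ d * 1 ≤ T ^ d * (I 0 : ℝ) := mul_le_mul_of_nonneg_left hI0' (by positivity)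
    rw [hsplit]
    simp only [T] at *
    linarith
  obtain ⟨t₀, ⟨ht₀, -⟩, hroot⟩ := intermediate_value_Icc (show (0 : ℝ) ≤ T by linarith) hp.continuousOn
    ⟨hp0.le.trans hId'.le, hpT⟩
  have ht₀pos : 0 < t₀ := lt_of_le_of_ne ht₀ fun e => by
    rw [← e, hp0] at hroot
    linarith
  have hev : ∀ᶠ t in nhds t₀, p t < t ^ d * (I 0 : ℝ) :=
    (hp.continuousAt (x := t₀)).eventually_lt (by fun_prop) (by rw [hroot]; positivity)
  obtain ⟨u, hu, hu'⟩ := exists_Ico_subset_of_mem_nhds hev ⟨t₀ + 1, by linarith⟩
  obtain ⟨r, hr₁, hr₂⟩ := exists_rat_btwn hu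
  have hr0 : (0 : ℝ) < r := ht₀pos.trans hr₁
  have hlt : p r < (r : ℝ) ^ d * (I 0 : ℝ) := hu' ⟨hr₁.le, hr₂⟩
  have hpos : 0 < p r := by
    rw [← hroot, hsplit, hsplit]
    have := hmid t₀ r ht₀ hr₁.le
    have h5 : t₀ ^ d * (I 0 : ℝ) < (r : ℝ) ^ d * (I 0 : ℝ) :=
      mul_lt_mul_of_pos_right (pow_lt_pow_left₀ hr₁ ht₀ (by omega)) (by linarith)
    linarith
  have hnum : 0 < r.num := Rat.num_pos.2 (by exact_mod_cast hr0)
  obtain ⟨a, ha⟩ : ∃ a : ℕ, (a : ℤ) = r.num := ⟨r.num.toNat, Int.toNat_of_nonneg hnum.le⟩
  have hr : (r : ℝ) = (a : ℝ) / (r.den : ℝ) := by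
    rw [Rat.cast_def, ← ha]
    simp
  have hbne : (r.den : ℝ) ≠ 0 := by exact_mod_cast r.den_nz
  have hP : ((∑ j ∈ Finset.range (d + 1),
      (d.choose j : ℤ) * ((r.den : ℤ) ^ j * (a : ℤ) ^ (d - j) * I j) : ℤ) : ℝ) =
      (r.den : ℝ) ^ d * p r := by
    push_cast
    simp only [p, Finset.mul_sum]
    refine Finset.sum_congr rfl fun j hj => ?_
    rw [Finset.mem_range] at hj
    have e : (r.den : ℝ) ^ d = (r.den : ℝ) ^ j * (r.den : ℝ) ^ (d - j) := by
      rw [← pow_add, Nat.add_sub_cancel' (by omega)]
    rw [hr, div_pow, e]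
    field_simp
  have h1 := h a r.den (by omega) r.den_pos (by
    rw [← Int.cast_lt (R := ℝ), hP, Int.cast_zero]
    positivity)
  rw [← Int.cast_le (R := ℝ), hP] at h1
  push_cast at h1
  have h2 : (r.den : ℝ) ^ d * p r < (r.den : ℝ) ^ d * ((r : ℝ) ^ d * (I 0 : ℝ)) :=
    mul_lt_mul_of_pos_left hlt (by positivity)
  rw [hr, div_pow, ← mul_assoc, mul_div_cancel₀ _ (pow_ne_zero _ hbne)] at h2
  rw [hr] at h1
  linarith

omit [X.Over (Spec (CommRingCat.of k))] [IsProper (X ↘ Spec (CommRingCat.of k))] in
/-- Inverses of twists. -/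
theorem isInverseOf_comb {A B L M : X.Modules} (hAB : ClSub.IsInverseOf A B) (hLM : ClSub.IsInverseOf L M)
    (a b : ℕ) : ClSub.IsInverseOf (CohB1.tensorMod (CohB1.tensorPow A a) (CohB1.tensorPow L b))
      (CohB1.tensorMod (CohB1.tensorPow B a) (CohB1.tensorPow M b)) :=
  ⟨(tensor_assoc _ _ _).some ≪≫
    (tensor_congr ⟨Iso.refl _⟩ (tensor_left_comm (CohB1.tensorPow L b) (CohB1.tensorPow B a)
      (CohB1.tensorPow M b))).some ≪≫
    (tensor_assoc _ _ _).some.symm ≪≫
    (tensor_congr (PicAux.isInverseOf_tensorPow hAB a) (PicAux.isInverseOf_tensorPow hLM b)).some ≪≫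
    (tensor_one _).some⟩

/-- The step of the induction. -/
theorem kleiman_step [IsIntegral X] {A B L M : X.Modules} (hA : CohB1.IsAmple A)
    (hAB : ClSub.IsInverseOf A B) (hL : PicF.IsInvertible L) (hLM : ClSub.IsInverseOf L M)
    (hnef : Nonneg k [M]) {d : ℕ} (hd : 2 ≤ d) (hdim : topologicalKrullDim X = (d : WithBot ℕ∞))
    (ih : ∀ j < d, Nonneg k (List.replicate j M)) :
    0 ≤ delta k (List.replicate d M) (Coh.structureModule X) := by
  have hN : IsNoetherian X := isNoetherian k
  have hBi : IsAmpleInv B := ⟨A, hA, hAB⟩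
  have hB := hBi.isInvertible
  have hM : PicF.IsInvertible M := PicAux.isInvertible_of_isInverseOf hL hLM
  have hrM : ∀ j, ∀ N ∈ List.replicate j M, PicF.IsInvertible N :=
    fun j N hN => (List.eq_of_mem_replicate hN).symm ▸ hM
  have hmix : ∀ j, j < d → ∀ e, Nonneg k (List.replicate j M ++ List.replicate e B) := fun j hj e =>
    Nonneg.perm k List.perm_append_comm (nonneg_replicate_append k (hrM j) hBi (ih j hj) e)
  let O := Coh.structureModule X
  have hO : Coh.IsCoh O := isCoh_of_isInvertible (EulerDeg.isInvertible_structureModule X)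
  have hOs : CohB1.support O = Set.univ := Set.eq_univ_of_forall fun x h => by
    have := (RefRank.oneEquiv x).toEquiv.nontrivial_congr.1 inferInstance
    exact not_subsingleton _ h
  have hOd : topologicalKrullDim (CohB1.support O) = (d : WithBot ℕ∞) := by
    rw [hOs, IsHomeomorph.topologicalKrullDim_eq _ (Homeomorph.Set.univ X).isHomeomorph, hdim]
  let I : ℕ → ℤ := fun j => delta k (List.replicate j M ++ List.replicate (d - j) B) O
  by_contra hneg
  push Not at hneg
  refine real_step (d := d) I ?_ (fun j hj => hmix j hj _ O hO (by simp [hOd, Nat.add_sub_cancel' hj.le]))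
    (by simpa [I] using hneg) fun a b ha hb hP => ?_
  · have := delta_pos k (List.replicate d B) (fun N hN => (List.eq_of_mem_replicate hN).symm ▸ hBi) O hO
      (by simpa using hOd)
    simpa [I] using this
  let C := CohB1.tensorMod (CohB1.tensorPow B a) (CohB1.tensorPow M b)
  let Cv := CohB1.tensorMod (CohB1.tensorPow A a) (CohB1.tensorPow L b)
  have hCvi : PicF.IsInvertible Cv :=
    isInvertible_tensorMod (PicAux.isInvertible_tensorPow hA.1 a) (PicAux.isInvertible_tensorPow hL b)
  have hCv : ClSub.IsInverseOf Cv C := isInverseOf_comb hAB hLM a b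
  have hexp : ∀ (n : ℕ) (F : X.Modules), Coh.IsCoh F → topologicalKrullDim (CohB1.support F) ≤ (n : ℕ) →
      delta k (List.replicate n C) F = ∑ j ∈ Finset.range (n + 1), (n.choose j : ℤ) *
        ((b : ℤ) ^ j * (a : ℤ) ^ (n - j) *
          delta k (List.replicate j M ++ List.replicate (n - j) B) F) := fun n F hF hFd => by
    simpa using delta_comb_replicate k hB hM a b hF n [] (by simp) (by simpa using hFd)
  -- the twist is ample
  have hample : CohB1.IsAmple Cv := by
    refine isAmple_of_delta_pos k hCvi hCv fun ξ e he => ?_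
    have hc := KTheory.Devissage.isCoh_closureStructureSheaf ξ
    have hcd : topologicalKrullDim (CohB1.support (Cyc.closureStructureSheaf ξ)) =
        ((e + 1 : ℕ) : WithBot ℕ∞) := by rw [support_closureStructureSheaf_eq k ξ, he]
    rw [hexp _ _ hc hcd.le]
    have hed : e + 1 ≤ d := by
      have := (topologicalKrullDim_subspace_le X (closure ({ξ} : Set X))).trans hdim.le
      rw [he] at this
      exact_mod_cast this
    rcases lt_or_eq_of_le hed with hlt | heq
    · refine Finset.sum_pos' (fun j hj => ?_) ⟨0, by simp, ?_⟩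
      · rw [Finset.mem_range] at hj
        have := hmix j (by omega) (e + 1 - j) _ hc
          (by simp [hcd, Nat.add_sub_cancel' (show j ≤ e + 1 by omega)])
        positivity
      · have := delta_pos k (List.replicate (e + 1) B)
          (fun N hN => (List.eq_of_mem_replicate hN).symm ▸ hBi) _ hc (by simpa using hcd)
        simp only [Nat.choose_zero_right, pow_zero, one_mul, List.replicate_zero, List.nil_append,
          Nat.sub_zero, Nat.cast_one]
        have : (0 : ℤ) < a := by exact_mod_cast ha
        positivity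
    · rw [← hexp _ _ hc hcd.le]
      have hgen : ξ = genericPoint X := by
        refine eq_of_dim_closure (genericPoint_specializes ξ).mem_closure (n := e + 1) ?_ he.ge
        rw [Variety2.Dim.dim_closure_singleton, ← Variety2.Dim.dim_eq_height_genericPoint, hdim, heq]
      have h1 : delta k (List.replicate (e + 1) C) O =
          ((Module.length (X.presheaf.stalk ξ) (O.presheaf.stalk ξ)).toNat : ℤ) *
            delta k (List.replicate (e + 1) C) (Cyc.closureStructureSheaf ξ) := by
        have hCC : ∀ N ∈ List.replicate (e + 1) C, PicF.IsInvertible N := fun N hN =>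
          (List.eq_of_mem_replicate hN).symm ▸
            isInvertible_tensorMod (PicAux.isInvertible_tensorPow hB a) (PicAux.isInvertible_tensorPow hM b)
        rw [delta_eq_sum_length k hCC hO (by simp [hOd, heq]) {ξ} fun x => ?_, Finset.sum_singleton]
        rw [Finset.mem_singleton, hOs, List.length_replicate]
        refine ⟨fun hx => ⟨trivial, hx ▸ he⟩, fun hx => ?_⟩
        exact eq_of_dim_closure (hgen ▸ (genericPoint_specializes x).mem_closure) he.le hx.2.ge
      rw [heq, hexp d O hO hOd.le] at h1
      rw [heq]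
      exact pos_of_mul_pos_right (h1 ▸ hP) (Int.natCast_nonneg _)
  have hCi : IsAmpleInv C := ⟨Cv, hample, hCv⟩
  obtain ⟨e, rfl⟩ : ∃ e, d = e + 1 := ⟨d - 1, by omega⟩
  have hCl : ∀ N ∈ List.replicate e C, PicF.IsInvertible N :=
    fun N hN => (List.eq_of_mem_replicate hN).symm ▸ hCi.isInvertible
  have hQ : 0 ≤ delta k (M :: List.replicate e C) O :=
    Nonneg.perm k (by simpa using List.perm_append_comm (l₁ := List.replicate e C) (l₂ := [M]))
      (nonneg_replicate_append k (by simpa using hM) hCi hnef e) O hO (by simpa using hOd.le)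
  have hR := delta_comb_replicate k hB hM a b hO e [B] (by simpa using hB) (by simpa using hOd.le)
  rw [← hexp (e + 1) O hO hOd.le, List.replicate_succ,
    delta_comb_cons k hB hM a b hCl hO (by simpa using hOd.le)]
  have h2 : (a : ℤ) ^ e * I 0 ≤ delta k (B :: List.replicate e C) O := by
    rw [delta_perm k (List.perm_append_singleton B (List.replicate e C)).symm O, hR]
    refine le_trans (le_of_eq ?_) (Finset.single_le_sum (fun j hj => ?_) (Finset.mem_range.2 e.succ_pos))
    · simp only [I, Nat.choose_zero_right, pow_zero, one_mul, List.replicate_zero, List.nil_append,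
        Nat.sub_zero, Nat.cast_one]
      rw [← List.replicate_succ']
    · rw [Finset.mem_range] at hj
      have := hmix j (by omega) (e - j + 1) O hO
        (by simp only [hOd, List.length_append, List.length_replicate]; exact_mod_cast (show e + 1 ≤ j + (e - j + 1) by omega))
      rw [List.replicate_succ', ← List.append_assoc] at this
      positivity
  calc (a : ℤ) ^ (e + 1) * I 0 = (a : ℤ) * ((a : ℤ) ^ e * I 0) := by ring
    _ ≤ (a : ℤ) * delta k (B :: List.replicate e C) O := mul_le_mul_of_nonneg_left h2 (by positivity)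
    _ ≤ _ := le_add_of_nonneg_right (mul_nonneg (Int.natCast_nonneg _) hQ)

/-- Kleiman's theorem. -/
theorem kleiman : ∀ (d : ℕ) (X : Scheme.{u}) [X.Over (Spec (CommRingCat.of k))]
    [IsProper (X ↘ Spec (CommRingCat.of k))] (A L M : X.Modules), CohB1.IsAmple A → PicF.IsInvertible L →
    ClSub.IsInverseOf L M → Nonneg k [M] → Nonneg k (List.replicate d M) := by
  intro d
  induction d using Nat.strong_induction_on with
  | _ d ih =>
    intro X _ _ A L M hA hL hLM hnef
    rcases Nat.lt_or_ge d 2 with hd | hd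
    · rcases Nat.eq_zero_or_pos d with rfl | h1
      · exact fun F hF hdim => delta_nonneg k (l := []) (by simp) hF hdim
      · obtain rfl : d = 1 := by omega
        exact hnef
    have hN : IsNoetherian X := isNoetherian k
    have hM : PicF.IsInvertible M := PicAux.isInvertible_of_isInverseOf hL hLM
    refine nonneg_of_integral k (fun N hN' => (List.eq_of_mem_replicate hN').symm ▸ hM) fun ξ hξ => ?_
    rw [List.length_replicate] at hξ
    let i := (IntMult.ptIdeal ξ).subschemeι
    letI : (IntMult.ptIdeal ξ).subscheme.Over (Spec (CommRingCat.of k)) :=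
      ⟨i ≫ (X ↘ Spec (CommRingCat.of k))⟩
    have : IsProper ((IntMult.ptIdeal ξ).subscheme ↘ Spec (CommRingCat.of k)) :=
      inferInstanceAs (IsProper (i ≫ (X ↘ Spec (CommRingCat.of k))))
    have : IsIntegral (IntMult.ptIdeal ξ).subscheme := CohTwo.isIntegral_closure_subscheme rfl
    have hZN : IsNoetherian (IntMult.ptIdeal ξ).subscheme := isNoetherian k
    have hAZ := Ega2Proj.isAmple_pullback i i.isClosedEmbedding.isInducing hA
    have hLZ := PicAux.isInvertible_pullback i hL
    obtain ⟨B, -, hAB⟩ := exists_isInverseOf hAZ.1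
    have hLMZ : ClSub.IsInverseOf ((Scheme.Modules.pullback i).obj L) ((Scheme.Modules.pullback i).obj M) :=
      ⟨(exists_pullback_tensorMod i L M).choose.symm ≪≫ (Scheme.Modules.pullback i).mapIso hLM.some ≪≫
        (pullback_structure_iso i).some⟩
    have hnefZ : Nonneg k [(Scheme.Modules.pullback i).obj M] := fun G hG hGd => by
      have e := delta_push k i rfl [M] (by simpa using hM) G
      simp only [List.map_cons, List.map_nil] at e
      rw [← e]
      refine hnef _ (CohTwo.isCoh_push i hG) ((LocCohTransform.topologicalKrullDim_mono ?_).trans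
        ((i.isClosedEmbedding.isEmbedding.homeomorphImage (CohB1.support G)).isHomeomorph.topologicalKrullDim_eq.symm.trans_le (by simpa using hGd)))
      intro x hx
      obtain ⟨z, rfl⟩ := CohTwo.support_push_subset i G hx
      exact ⟨z, fun h => hx (@Equiv.subsingleton _ _ (Equiv.ofBijective _ (CohTwo.bijective_pushStalk i G z)) h), rfl⟩
    have e := delta_push k i rfl (List.replicate d M)
      (fun N hN' => (List.eq_of_mem_replicate hN').symm ▸ hM) (Coh.structureModule _)
    rw [List.map_replicate] at e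
    rw [show Cyc.closureStructureSheaf ξ = (Coh.push i).obj (Coh.structureModule _) from rfl, e]
    exact kleiman_step k hAZ hAB hLZ hLMZ hnefZ hd
      ((dim_ptIdeal_subscheme ξ).trans hξ) fun j hj => ih j hj _ _ _ _ hAZ hLZ hLMZ hnefZ

end Groth.Inter
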