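import Groth.Agent.Inter.Growth2

/-!
# Big invertible modules
-/

universe u

open CategoryTheory CategoryTheory.Limits AlgebraicGeometry TopologicalSpace Opposite

namespace Groth.Inter

open Groth.PicAux Groth.HilbStab Groth.PropsBasic.Ample

variable (k : Type u) [Field k] {X : Scheme.{u}} [X.Over (Spec (CommRingCat.of k))]

/-- A uniform bound for `h⁰` of a family of twists. -/
def BndFam {ι : Type} (B : ι → X.Modules) (w : ι → ℕ) (F : X.Modules) : Prop :=
  ∃ C : ℕ, ∀ i, Module.finrank k (Coh.HH X (CohB1.tensorMod F (B i)) 0) ≤ C * w i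

variable [IsProper (X ↘ Spec (CommRingCat.of k))]

theorem bndFam_of_integral {ι : Type} {B : ι → X.Modules} {w : ι → ℕ} (hB : ∀ i, PicF.IsInvertible (B i))
    {F : X.Modules} (hF : Coh.IsCoh F)
    (H : ∀ ξ : X, closure ({ξ} : Set X) ⊆ CohB1.support F →
      (∀ G : X.Modules, Coh.IsCoh G → CohB1.support G ⊆ closure {ξ} → ξ ∉ CohB1.support G → BndFam k B w G) →
      BndFam k B w (Cyc.closureStructureSheaf ξ)) : BndFam k B w F := by
  have hN : IsNoetherian X := isNoetherian k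
  have hc : ∀ {F : X.Modules}, Coh.IsCoh F → ∀ i, Coh.IsCoh (CohB1.tensorMod F (B i)) :=
    fun hF i => RefRank.isCoh_tensorMod hF (isCoh_of_isInvertible (hB i))
  have hiso : ∀ {A A' : X.Modules}, (A ≅ A') → BndFam k B w A → BndFam k B w A' := fun e ⟨C, hC⟩ =>
    ⟨C, fun i => (finrank_h0_congr k (tensor_congr ⟨e⟩ ⟨Iso.refl _⟩).some).symm.trans_le (hC i)⟩
  have hzero : ∀ {A : X.Modules}, IsZero A → BndFam k B w A := fun {A} h => ⟨0, fun i => by
    have : Subsingleton (Coh.HH X (CohB1.tensorMod A (B i)) 0) :=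
      Sheaf.subsingleton_H_of_isZero
        ((SheafOfModules.toSheaf X.ringCatSheaf).map_isZero ((DCoh.tensorRightMod (B i)).map_isZero h)) 0
    rw [Module.finrank_zero_of_subsingleton]
    exact Nat.zero_le _⟩
  have hext : ∀ S : ShortComplex X.Modules, S.ShortExact → Coh.IsCoh S.X₁ → Coh.IsCoh S.X₂ →
      Coh.IsCoh S.X₃ → BndFam k B w S.X₁ → BndFam k B w S.X₃ → BndFam k B w S.X₂ :=
    fun S hS a b c ⟨C₁, h₁⟩ ⟨C₃, h₃⟩ => ⟨C₁ + C₃, fun i => by
      rw [add_mul]
      exact (finrank_h0_le_add k (shortExact_tensorRightMod (hB i) hS) (hc a i) (hc b i) (hc c i)).trans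
        (Nat.add_le_add (h₁ i) (h₃ i))⟩
  have hsub : ∀ {A A' : X.Modules} (f : A ⟶ A'), Mono f → Coh.IsCoh A' → BndFam k B w A' →
      BndFam k B w A := fun {A A'} f hf hA' ⟨C, hC⟩ => ⟨C, fun i => by
    have h1 : Mono ((DCoh.tensorRightMod (B i)).map f) :=
      (shortExact_tensorRightMod (hB i) (@CohTwo.cokerSeq_shortExact _ _ _ f hf)).mono_f
    exact (@finrank_h0_le_of_mono k _ X _ _ _ _ ((DCoh.tensorRightMod (B i)).map f) h1 (hc hA' i)).trans
      (hC i)⟩
  refine CohTwo.coh_induction (BndFam k B w) (fun _ _ e h => hiso e.some h) (fun _ h => hzero h)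
    hext (CohB1.support F) ?_ (CohTwo.isClosed_support F hF) F hF subset_rfl
  intro Y ξ hY hYF G hG hkill hsmall
  obtain rfl : Y = ⟨closure {ξ}, isClosed_closure⟩ := Closeds.ext hY
  have hO := KTheory.Devissage.isCoh_closureStructureSheaf ξ
  have hne : Nontrivial ↑((Cyc.closureStructureSheaf ξ).presheaf.stalk ξ) :=
    not_subsingleton_iff_nontrivial.1 (show ξ ∈ CohB1.support (Cyc.closureStructureSheaf ξ) from
      (support_closureStructureSheaf_eq k ξ) ▸ subset_closure rfl)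
  have := hG.1
  have := (isCoh_of_isInvertible (EulerDeg.isInvertible_structureModule (IntMult.ptIdeal ξ).subscheme)).1
  refine CohTwo.step_two (BndFam k B w) (fun _ h => hzero h)
    (fun S hS a b c => ⟨fun p _ => hsub S.f hS.mono_f b p, hext S hS a b c⟩) (fun F' d hd hF' hP => ?_)
    (Y := closure ({ξ} : Set X)) hsmall hO (H ξ hYF hsmall)
    (KTheory.Devissage.support_closureStructureSheaf_subset ξ) ?_ hG ?_
    (fun a ha m => hkill.stalk_maximalIdeal (Y := ⟨closure {ξ}, isClosed_closure⟩) rfl a ha m)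
  · exact hsub (Sigma.ι (fun _ : Fin d => F') ⟨0, hd⟩) inferInstance (CohTwo.isCoh_powMod hF' d) hP
  · exact fun a ha m => (CohTwo.killed_push_subschemeι (IntMult.ptIdeal ξ)
      (Coh.structureModule (IntMult.ptIdeal ξ).subscheme)).stalk_maximalIdeal
        (Y := ⟨closure {ξ}, isClosed_closure⟩) rfl a ha m
  · exact hkill.support_subset.trans (by
      rw [Scheme.IdealSheafData.coe_support_vanishingIdeal]; rfl)

omit [X.Over (Spec (CommRingCat.of k))] [IsProper (X ↘ Spec (CommRingCat.of k))] in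
/-- A nonzero section gives monomorphisms. -/
theorem mono_mulSec_of_ne_zero [IsIntegral X] {P : X.Modules} (hP : PicF.IsInvertible P)
    {s : Γ(P, (⊤ : X.Opens))} (hs : s ≠ 0) {G : X.Modules} (hG : PicF.IsInvertible G) :
    Mono (mulSec s G) := by
  refine EulerDeg.mono_of_ne_zero hG (isInvertible_tensorMod hG hP) fun h => ?_
  have hb := mulSec_stalk_bijective s G (genericPoint_mem_gloc hP hs)
  rw [h, Functor.map_zero] at hb
  obtain ⟨e⟩ := exists_stalk_equiv hG (genericPoint X)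
  have : Nontrivial (G.presheaf.stalk (genericPoint X)) := e.symm.toEquiv.nontrivial
  obtain ⟨a, ha⟩ := exists_ne (0 : G.presheaf.stalk (genericPoint X))
  exact ha (hb.1 rfl)

omit [IsProper (X ↘ Spec (CommRingCat.of k))] in
include k in
theorem exists_ne_zero_of_finrank_pos {C : X.Modules} (h : 0 < Module.finrank k (Coh.HH X C 0)) :
    ∃ s : Γ(C, (⊤ : X.Opens)), s ≠ 0 := by
  have : Nontrivial (Coh.HH X C 0) := Module.nontrivial_of_finrank_pos (R := k) h
  have : Nontrivial Γ(C, (⊤ : X.Opens)) := (EulerDeg.h0Equiv k C).toEquiv.nontrivial_congr.1 inferInstance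
  exact exists_ne 0

include k in
/-- An integral scheme with an ample module has nonzero sections of high twists of any module. -/
theorem exists_section_twist [IsIntegral X] {A : X.Modules} (hA : CohB1.IsAmple A) {N : X.Modules}
    (hN : PicF.IsInvertible N) :
    ∃ p : ℕ, ∀ q, p ≤ q → ∃ s : Γ(CohB1.tensorMod N (CohB1.tensorPow A q), (⊤ : X.Opens)), s ≠ 0 := by
  have hNo : IsNoetherian X := isNoetherian k
  obtain ⟨e⟩ := exists_stalk_equiv hN (genericPoint X)
  have hne : (CohB1.support N).Nonempty :=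
    ⟨genericPoint X, not_subsingleton_iff_nontrivial.2 e.symm.toEquiv.nontrivial⟩
  obtain ⟨p, hp⟩ := eventually_h0_pos k hA.1 (isCoh_of_isInvertible hN) hne fun G hG _ i hi => by
    obtain ⟨d₀, hd₀⟩ := PnCoh.exists_subsingleton_of_isAmple (X ↘ Spec (CommRingCat.of k)) hA G hG
    exact ⟨d₀, fun n hn => hd₀ n hn i hi⟩
  exact ⟨p, fun q hq => exists_ne_zero_of_finrank_pos k (hp q hq)⟩

omit [X.Over (Spec (CommRingCat.of k))] [IsProper (X ↘ Spec (CommRingCat.of k))] in
theorem tensor_middle (a b c d : X.Modules) : Nonempty (CohB1.tensorMod (CohB1.tensorMod a b) (CohB1.tensorMod c d) ≅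
    CohB1.tensorMod (CohB1.tensorMod a c) (CohB1.tensorMod b d)) :=
  ⟨(tensor_assoc a b _).some ≪≫ (tensor_congr ⟨Iso.refl a⟩ (tensor_left_comm b c d)).some ≪≫
    (tensor_assoc a c _).some.symm⟩

omit [X.Over (Spec (CommRingCat.of k))] [IsProper (X ↘ Spec (CommRingCat.of k))] in
theorem tensorPow_tensorMod' (a b : X.Modules) : ∀ n : ℕ, Nonempty (CohB1.tensorPow (CohB1.tensorMod a b) n ≅
    CohB1.tensorMod (CohB1.tensorPow a n) (CohB1.tensorPow b n))
  | 0 => ⟨(tensor_one (Coh.structureModule X)).some.symm⟩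
  | n + 1 => by
    obtain ⟨e⟩ := tensorPow_tensorMod' a b n
    exact ⟨(tensor_congr ⟨e⟩ ⟨Iso.refl _⟩).some ≪≫ (tensor_middle _ _ a b).some⟩

omit [X.Over (Spec (CommRingCat.of k))] [IsProper (X ↘ Spec (CommRingCat.of k))] in
theorem tensorPow_mul' (a : X.Modules) (p : ℕ) : ∀ n : ℕ,
    Nonempty (CohB1.tensorPow (CohB1.tensorPow a p) n ≅ CohB1.tensorPow a (p * n))
  | 0 => ⟨Iso.refl _⟩
  | n + 1 => by
    obtain ⟨e⟩ := tensorPow_mul' a p n
    exact ⟨(tensor_congr ⟨e⟩ ⟨Iso.refl _⟩).some ≪≫ (tensorPow_add a (p * n) p).some.symm⟩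

/-- `h⁰(F ⊗ L^x ⊗ P^y) = O((x + y)^{dim F})`. -/
theorem bndFam_of_dim {A L P : X.Modules} (hA : CohB1.IsAmple A) (hL : PicF.IsInvertible L)
    (hP : PicF.IsInvertible P) (r : ℕ) {F : X.Modules} (hF : Coh.IsCoh F)
    (hd : topologicalKrullDim (CohB1.support F) ≤ (r : ℕ)) :
    BndFam k (fun q : ℕ × ℕ => CohB1.tensorMod (CohB1.tensorPow L q.1) (CohB1.tensorPow P q.2))
      (fun q => (q.1 + q.2 + 1) ^ r) F := by
  have hN : IsNoetherian X := isNoetherian k
  refine bndFam_of_integral k (fun q => isInvertible_tensorMod (isInvertible_tensorPow hL _)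
    (isInvertible_tensorPow hP _)) hF fun ξ hξ _ => ?_
  let Z := (IntMult.ptIdeal ξ).subscheme
  let i := (IntMult.ptIdeal ξ).subschemeι
  letI : Z.Over (Spec (CommRingCat.of k)) := ⟨i ≫ (X ↘ Spec (CommRingCat.of k))⟩
  have : IsProper (Z ↘ Spec (CommRingCat.of k)) :=
    inferInstanceAs (IsProper (i ≫ (X ↘ Spec (CommRingCat.of k))))
  have : IsIntegral Z := CohTwo.isIntegral_closure_subscheme rfl
  have hZN : IsNoetherian Z := isNoetherian k
  let AZ := (Scheme.Modules.pullback i).obj A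
  let LZ := (Scheme.Modules.pullback i).obj L
  let PZ := (Scheme.Modules.pullback i).obj P
  have hAZ : CohB1.IsAmple AZ := Ega2Proj.isAmple_pullback i i.isClosedEmbedding.isInducing hA
  have hLZ : PicF.IsInvertible LZ := PicAux.isInvertible_pullback i hL
  have hPZ : PicF.IsInvertible PZ := PicAux.isInvertible_pullback i hP
  obtain ⟨L', hL', hLL'⟩ := exists_isInverseOf hLZ
  obtain ⟨P', hP', hPP'⟩ := exists_isInverseOf hPZ
  obtain ⟨p₁, h₁⟩ := exists_section_twist k hAZ hL'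
  obtain ⟨p₂, h₂⟩ := exists_section_twist k hAZ hP'
  let p := max p₁ p₂
  obtain ⟨s₁, hs₁⟩ := h₁ p (le_max_left _ _)
  obtain ⟨s₂, hs₂⟩ := h₂ p (le_max_right _ _)
  let N₁ := CohB1.tensorMod L' (CohB1.tensorPow AZ p)
  let N₂ := CohB1.tensorMod P' (CohB1.tensorPow AZ p)
  have hN₁ : PicF.IsInvertible N₁ := isInvertible_tensorMod hL' (isInvertible_tensorPow hAZ.1 p)
  have hN₂ : PicF.IsInvertible N₂ := isInvertible_tensorMod hP' (isInvertible_tensorPow hAZ.1 p)
  let O := Coh.structureModule Z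
  have hO : PicF.IsInvertible O := EulerDeg.isInvertible_structureModule Z
  have hOd : topologicalKrullDim (CohB1.support O) ≤ (r : ℕ) :=
    ((LocCohTransform.topologicalKrullDim_mono (Set.subset_univ _)).trans
      (IsHomeomorph.topologicalKrullDim_eq _ (Homeomorph.Set.univ Z).isHomeomorph).le).trans
      ((dim_ptIdeal_subscheme ξ).trans_le ((LocCohTransform.topologicalKrullDim_mono hξ).trans hd))
  obtain ⟨C, hC⟩ := exists_bound_ample k hAZ (isCoh_of_isInvertible hO) hOd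
  refine ⟨C * (p + 1) ^ r, fun q => ?_⟩
  obtain ⟨x, y⟩ := q
  have hmul₁ := finrank_h0_twist_le k (isCoh_of_isInvertible hO) hN₁ s₁ (mono_mulSec_of_ne_zero hN₁ hs₁ hO)
  have hmul₂ := finrank_h0_twist_le k (isCoh_of_isInvertible hO) hN₂ s₂ (mono_mulSec_of_ne_zero hN₂ hs₂ hO)
  let B := CohB1.tensorMod (CohB1.tensorPow LZ x) (CohB1.tensorPow PZ y)
  have hB : PicF.IsInvertible B :=
    isInvertible_tensorMod (isInvertible_tensorPow hLZ x) (isInvertible_tensorPow hPZ y)
  have h0 : Module.finrank k (Coh.HH X (CohB1.tensorMod ((Coh.push i).obj O)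
      (CohB1.tensorMod (CohB1.tensorPow L x) (CohB1.tensorPow P y))) 0) =
      Module.finrank k (Coh.HH Z (CohB1.tensorMod O B) 0) := by
    have hLP : PicF.IsInvertible (CohB1.tensorMod (CohB1.tensorPow L x) (CohB1.tensorPow P y)) :=
      isInvertible_tensorMod (isInvertible_tensorPow hL x) (isInvertible_tensorPow hP y)
    have e := finrank_h0_push k i rfl hLP O 1
    have u1 := finrank_h0_congr k (tensor_congr ⟨Iso.refl ((Coh.push i).obj O)⟩
      ⟨(tensor_one (CohB1.tensorMod (CohB1.tensorPow L x) (CohB1.tensorPow P y))).some⟩).some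
    have u2 := finrank_h0_congr k (tensor_congr ⟨Iso.refl O⟩ ⟨(tensor_one ((Scheme.Modules.pullback i).obj
      (CohB1.tensorMod (CohB1.tensorPow L x) (CohB1.tensorPow P y)))).some ≪≫
      (exists_pullback_tensorMod i _ _).choose ≪≫
      (tensor_congr (pullback_tensorPow i L x) (pullback_tensorPow i P y)).some⟩).some
    exact u1.symm.trans (e.trans u2)
  have hB₁ : PicF.IsInvertible (CohB1.tensorMod B (CohB1.tensorPow N₁ x)) :=
    isInvertible_tensorMod hB (isInvertible_tensorPow hN₁ x)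
  have hLN : Nonempty (CohB1.tensorMod LZ N₁ ≅ CohB1.tensorPow AZ p) :=
    ⟨(tensor_assoc LZ L' _).some.symm ≪≫ (tensor_congr hLL' ⟨Iso.refl _⟩).some ≪≫ (tensor_one _).some⟩
  have hPN : Nonempty (CohB1.tensorMod PZ N₂ ≅ CohB1.tensorPow AZ p) :=
    ⟨(tensor_assoc PZ P' _).some.symm ≪≫ (tensor_congr hPP' ⟨Iso.refl _⟩).some ≪≫ (tensor_one _).some⟩
  have e1 : CohB1.tensorMod (CohB1.tensorMod B (CohB1.tensorPow N₁ x)) (CohB1.tensorPow N₂ y) ≅
      CohB1.tensorPow AZ (p * (x + y)) :=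
    (tensor_assoc B _ _).some ≪≫
      (tensor_middle (CohB1.tensorPow LZ x) (CohB1.tensorPow PZ y) _ _).some ≪≫
      (tensor_congr ⟨(tensorPow_tensorMod' LZ N₁ x).some.symm ≪≫
          (nonempty_tensorPow_iso hLN.some x).some ≪≫ (tensorPow_mul' AZ p x).some⟩
        ⟨(tensorPow_tensorMod' PZ N₂ y).some.symm ≪≫
          (nonempty_tensorPow_iso hPN.some y).some ≪≫ (tensorPow_mul' AZ p y).some⟩).some ≪≫
      (tensorPow_add AZ (p * x) (p * y)).some.symm ≪≫ eqToIso (by rw [Nat.mul_add])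
  have s2 := finrank_h0_congr k (tensor_congr ⟨Iso.refl O⟩ ⟨e1⟩).some
  have s3 := hC (p * (x + y))
  have s4 : (p * (x + y) + 1) ^ r ≤ (p + 1) ^ r * (x + y + 1) ^ r := by
    rw [← mul_pow]
    exact Nat.pow_le_pow_left (by nlinarith) r
  rw [mul_assoc C]
  calc Module.finrank k (Coh.HH X (CohB1.tensorMod (Cyc.closureStructureSheaf ξ)
        (CohB1.tensorMod (CohB1.tensorPow L x) (CohB1.tensorPow P y))) 0)
      = Module.finrank k (Coh.HH Z (CohB1.tensorMod O B) 0) := h0
    _ ≤ Module.finrank k (Coh.HH Z (CohB1.tensorMod O (CohB1.tensorMod B (CohB1.tensorPow N₁ x))) 0) :=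
        hmul₁ x B hB
    _ ≤ _ := (hmul₂ y _ hB₁).trans s2.le
    _ ≤ _ := s3.trans (Nat.mul_le_mul_left C s4)

/-- Binomial polynomials with positive top coefficient grow like the top power. -/
theorem exists_lower (n : ℕ) : ∃ a : ℕ, 0 < a ∧ ∀ δ : ℕ → ℤ, 0 < δ n → ∃ t : ℕ, ∀ j : ℕ, t ≤ j →
    δ n * (j : ℤ) ^ n ≤ (a : ℤ) * ∑ i ∈ Finset.range (n + 1), ((j + i - 1).choose i : ℤ) * δ i := by
  cases n with
  | zero => exact ⟨1, one_pos, fun δ _ => ⟨0, fun j _ => by simp⟩⟩
  | succ e =>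
    refine ⟨2 * (e + 1) * e.factorial, by positivity, fun δ hδ => ?_⟩
    let S := ∑ i ∈ Finset.range (e + 1), (δ i).natAbs
    refine ⟨2 * (e + 1) * S + 1, fun j hj => ?_⟩
    obtain ⟨p, rfl⟩ : ∃ p, j = p + 1 := ⟨j - 1, by omega⟩
    let C : ℤ := ((p + e).choose e : ℤ)
    have hlow : -(C * (S : ℤ)) ≤
        ∑ i ∈ Finset.range (e + 1), ((p + 1 + i - 1).choose i : ℤ) * δ i := by
      simp only [S, Nat.cast_sum, Finset.mul_sum, ← Finset.sum_neg_distrib]
      refine Finset.sum_le_sum fun i hi => ?_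
      rw [Finset.mem_range] at hi
      have h1 : (((p + 1 + i - 1).choose i : ℕ) : ℤ) ≤ C := by
        simp only [C, Nat.cast_le]
        rw [show p + 1 + i - 1 = p + i by omega, ← Nat.choose_symm_add, ← Nat.choose_symm_add (b := e)]
        exact Nat.choose_le_choose p (by omega)
      rw [Int.natCast_natAbs]
      refine le_trans (neg_le_neg (mul_le_mul_of_nonneg_right h1 (abs_nonneg _))) ?_
      rw [← mul_neg]
      exact mul_le_mul_of_nonneg_left (neg_abs_le _) (Nat.cast_nonneg _)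
    have htop : (((p + 1 + (e + 1) - 1).choose (e + 1) : ℕ) : ℤ) * ((e : ℤ) + 1) = ((p : ℤ) + e + 1) * C := by
      rw [show p + 1 + (e + 1) - 1 = p + e + 1 by omega]
      simp only [C]
      exact_mod_cast (Nat.add_one_mul_choose_eq (p + e) e).symm
    have hpow : (((p + 1 : ℕ) : ℤ)) ^ e ≤ C * (e.factorial : ℤ) := by
      simp only [C]
      rw [← Nat.cast_pow, ← Nat.cast_mul, Nat.cast_le, mul_comm, ← Nat.ascFactorial_eq_factorial_mul_choose]
      exact Nat.pow_succ_le_ascFactorial (p + 1) e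
    have hC : 0 ≤ C := Int.natCast_nonneg _
    rw [Finset.sum_range_succ]
    set Slo := ∑ i ∈ Finset.range (e + 1), ((p + 1 + i - 1).choose i : ℤ) * δ i
    set T := (((p + 1 + (e + 1) - 1).choose (e + 1) : ℕ) : ℤ)
    have hj' : 2 * ((e : ℤ) + 1) * S + 1 ≤ (p : ℤ) + 1 := by exact_mod_cast hj
    have hmain : δ (e + 1) * ((p : ℤ) + 1) * C ≤ 2 * ((e : ℤ) + 1) * (Slo + T * δ (e + 1)) := by
      have h1 : δ (e + 1) * (2 * ((e : ℤ) + 1) * T) = δ (e + 1) * (2 * (((p : ℤ) + e + 1) * C)) := by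
        rw [← htop]; ring
      have h2 : (C * S) * (2 * ((e : ℤ) + 1)) ≤ δ (e + 1) * ((p : ℤ) + 1) * C := by
        have h3 : 1 * (C * ((p : ℤ) + 1)) ≤ δ (e + 1) * (C * ((p : ℤ) + 1)) :=
          mul_le_mul_of_nonneg_right hδ (by positivity)
        have h4 : C * (2 * ((e : ℤ) + 1) * S) ≤ C * ((p : ℤ) + 1) :=
          mul_le_mul_of_nonneg_left (by linarith) hC
        linarith
      have h5 : 0 ≤ δ (e + 1) * ((e : ℤ) * C) := mul_nonneg hδ.le (by positivity)
      nlinarith [mul_le_mul_of_nonneg_right hlow (by positivity : (0 : ℤ) ≤ 2 * ((e : ℤ) + 1))]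
    push_cast at hpow ⊢
    calc δ (e + 1) * ((p : ℤ) + 1) ^ (e + 1) = δ (e + 1) * ((p : ℤ) + 1) * ((p : ℤ) + 1) ^ e := by ring
      _ ≤ δ (e + 1) * ((p : ℤ) + 1) * (C * (e.factorial : ℤ)) :=
          mul_le_mul_of_nonneg_left hpow (by positivity)
      _ = δ (e + 1) * ((p : ℤ) + 1) * C * (e.factorial : ℤ) := by ring
      _ ≤ 2 * ((e : ℤ) + 1) * (Slo + T * δ (e + 1)) * (e.factorial : ℤ) :=
          mul_le_mul_of_nonneg_right hmain (Int.natCast_nonneg _)
      _ = _ := by ring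

/-- `h⁰` of high powers of an ample module. -/
theorem exists_ample_lower (n : ℕ) : ∃ a : ℕ, 0 < a ∧ ∀ (X : Scheme.{u})
    [X.Over (Spec (CommRingCat.of k))] [IsProper (X ↘ Spec (CommRingCat.of k))] (A B : X.Modules),
    CohB1.IsAmple A → ClSub.IsInverseOf A B → topologicalKrullDim X = (n : WithBot ℕ∞) →
    ∃ t : ℕ, ∀ j : ℕ, t ≤ j → delta k (List.replicate n B) (Coh.structureModule X) * (j : ℤ) ^ n ≤
      (a : ℤ) * (Module.finrank k (Coh.HH X (CohB1.tensorPow A j) 0) : ℤ) := by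
  obtain ⟨a, ha, hlow⟩ := exists_lower n
  refine ⟨a, ha, fun X _ _ A B hA hAB hn => ?_⟩
  have hN : IsNoetherian X := isNoetherian k
  let O := Coh.structureModule X
  have hO : Coh.IsCoh O := isCoh_of_isInvertible (EulerDeg.isInvertible_structureModule X)
  have hOs : CohB1.support O = Set.univ := Set.eq_univ_of_forall fun x h => by
    have := (RefRank.oneEquiv x).toEquiv.nontrivial_congr.1 inferInstance
    exact not_subsingleton _ h
  have hOd : topologicalKrullDim (CohB1.support O) = (n : WithBot ℕ∞) := by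
    rw [hOs, IsHomeomorph.topologicalKrullDim_eq _ (Homeomorph.Set.univ X).isHomeomorph, hn]
  obtain ⟨t, ht⟩ := hlow (fun i => delta k (List.replicate i B) O)
    (delta_pos k (List.replicate n B) (fun N hN => (List.eq_of_mem_replicate hN).symm ▸ ⟨A, hA, hAB⟩) O hO
      (by simpa using hOd))
  obtain ⟨d₀, hd₀⟩ := PnCoh.exists_subsingleton_of_isAmple (X ↘ Spec (CommRingCat.of k)) hA O hO
  refine ⟨max t d₀, fun j hj => ?_⟩
  have e : (Module.finrank k (Coh.HH X (CohB1.tensorPow A j) 0) : ℤ) =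
      Curv2.euler k X (CohB1.tensorMod (CohB1.tensorPow A j) O) := by
    rw [EulerDeg.euler_congr k (tensor_comm _ O).some,
      EulerDeg.euler_eq_sum (k := k) (N := 1) fun q hq => hd₀ j (le_of_max_le_right hj) q hq,
      ← finrank_h0_congr k (tensor_one (CohB1.tensorPow A j)).some]
    simp [O]
  rw [e, euler_pow_eq k hA.1 hAB hO n hOd.le j]
  exact ht j (le_of_max_le_left hj)

end Groth.Inter
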