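import Groth.Agent.Inter.Growth2
import Groth.Agent.Inter.Growth3
import Groth.Agent.VarietyBC.GGen

/-!
# Semiample modules: sections grow like the numerical dimension
-/

universe u

open CategoryTheory CategoryTheory.Limits AlgebraicGeometry TopologicalSpace Opposite

namespace Groth.Inter

open Groth.PicAux Groth.HilbStab Groth.PropsBasic.Ample

attribute [local instance] Groth.EulerDeg.secModule

variable (k : Type u) [Field k] {X : Scheme.{u}} [X.Over (Spec (CommRingCat.of k))]

/-- Sections vanishing at a point. -/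
def vanishAt {M : X.Modules} (hM : PicF.IsInvertible M) (y : X) : Submodule k Γ(M, (⊤ : X.Opens)) where
  carrier := {t | y ∉ gloc t}
  add_mem' {a b} ha hb h := by
    obtain ⟨i, -, hi⟩ := Ega2Proj.exists_mem_gloc_of_mem_gloc_sum hM (Finset.univ : Finset (Fin 2))
      ![a, b] (by simpa [Fin.sum_univ_two] using h)
    fin_cases i
    exacts [ha hi, hb hi]
  zero_mem' h := by
    obtain ⟨U, hy, e, c, he, hc⟩ := Ega2Proj.exists_coeffs hM (fun _ : Unit => (0 : Γ(M, (⊤ : X.Opens)))) y
    rw [Ega2Proj.mem_gloc_iff he (c := 0) (by rw [zero_smul, res_zero]) hy, map_zero] at h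
    exact not_isUnit_zero h
  smul_mem' c a ha h := by
    rw [EulerDeg.smul_sec, Ega2Proj.gloc_smul hM] at h
    exact ha h.2

variable {k}

omit [X.Over (Spec (CommRingCat.of k))] in
theorem mem_gloc_powSec {N : X.Modules} (hN : PicF.IsInvertible N) {y : X} {t : Γ(N, (⊤ : X.Opens))}
    (ht : y ∈ gloc t) : ∀ j : ℕ, ∃ u : Γ(CohB1.tensorPow N j, (⊤ : X.Opens)), y ∈ gloc u
  | 0 => ⟨oneSec X ⊤, by
      obtain ⟨U, hy, e, c, he, hc⟩ := Ega2Proj.exists_coeffs
        (EulerDeg.isInvertible_structureModule X) (fun _ : Unit => oneSec X ⊤) y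
      change y ∈ gloc (L := Coh.structureModule X) (oneSec X ⊤)
      rw [Ega2Proj.mem_gloc_iff (gen_oneSec U) (c := 1) (by rw [one_smul, res_oneSec]) hy, map_one]
      exact isUnit_one⟩
  | j + 1 => by
    obtain ⟨u, hu⟩ := mem_gloc_powSec hN ht j
    refine ⟨tmulSec u t, ?_⟩
    change y ∈ gloc (L := CohB1.tensorMod (CohB1.tensorPow N j) N) (tmulSec u t)
    rw [gloc_tmulSec (isInvertible_tensorPow hN j) hN]
    exact ⟨hu, ht⟩

variable (k) [IsProper (X ↘ Spec (CommRingCat.of k))]

theorem finite_sections {M : X.Modules} (hM : Coh.IsCoh M) : Module.Finite k Γ(M, (⊤ : X.Opens)) :=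
  have := (finCoh k hM).finite 0
  Module.Finite.equiv (EulerDeg.h0Equiv k M)

/-- Cutting an integral closed subscheme by a section of an invertible module. -/
theorem exists_cut_section {P P' : X.Modules} (hP : PicF.IsInvertible P) (hPP' : ClSub.IsInverseOf P P')
    {t : Γ(P, (⊤ : X.Opens))} {ξ : X} (hξt : ξ ∈ gloc t) {n : ℕ}
    (hξ : topologicalKrullDim (closure ({ξ} : Set X)) = (n + 1 : ℕ)) :
    ∃ Q : X.Modules, Coh.IsCoh Q ∧ CohB1.support Q ⊆ closure {ξ} ∩ (gloc t : Set X)ᶜ ∧
      topologicalKrullDim (CohB1.support Q) ≤ (n : ℕ) ∧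
      ∀ l : List X.Modules, (∀ M ∈ l, PicF.IsInvertible M) → l.length = n →
        delta k (P' :: l) (Cyc.closureStructureSheaf ξ) = delta k l Q := by
  have hN : IsNoetherian X := isNoetherian k
  have hP' : PicF.IsInvertible P' := PicAux.isInvertible_of_isInverseOf hP hPP'
  have hO := KTheory.Devissage.isCoh_closureStructureSheaf ξ
  have hOs := support_closureStructureSheaf_eq k ξ
  have := quasiSeparatedSpace_of_quasiSeparated (X ↘ Spec (CommRingCat.of k))
  obtain ⟨G, q, hq, hG, hsupp, hmono⟩ := HilbStab.exists_quotient_injective hO t inferInstance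
  have hξG : ξ ∈ CohB1.support G := hsupp ξ hξt (hOs ▸ subset_closure rfl)
  have hGY : CohB1.support G ⊆ closure {ξ} :=
    (KTheory.Devissage.support_subset_of_epi q).trans hOs.subset
  have := hO.1
  have := hG.1
  have hsmall : ∀ H : X.Modules, Coh.IsCoh H → CohB1.support H ⊆ closure {ξ} → ξ ∉ CohB1.support H →
      topologicalKrullDim (CohB1.support H) < ((n + 1 : ℕ) : WithBot ℕ∞) := fun H hH hHs hHξ =>
    lt_of_lt_of_eq (LocCohTransform.topologicalKrullDim_lt_of_ssubset hHs
      (fun h => hHξ (h (subset_closure rfl))) (CohTwo.isClosed_support _ hH) isClosed_closure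
      isIrreducible_singleton.closure (hξ ▸ WithBot.coe_lt_coe.2 (ENat.natCast_lt_top _))) hξ
  have hS : (ShortComplex.mk (kernel.ι q) q (kernel.condition q)).ShortExact :=
    { exact := ShortComplex.exact_of_f_is_kernel _ (kernelIsKernel q) }
  have hKc : Coh.IsCoh (kernel q) := QCohMod.isCoh_kernel q hO
  have hKs : ξ ∉ CohB1.support (kernel q) := fun hK => by
    have h1 : Module.length _ _ = _ + _ := length_stalk_add hS ξ
    rw [KTheory.Devissage.length_closureStructureSheaf ξ] at h1
    have hK1 : 1 ≤ Module.length (X.presheaf.stalk ξ) ((kernel q).presheaf.stalk ξ) :=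
      Order.one_le_iff_pos.2 (pos_iff_ne_zero.2 fun h => hK (Module.length_eq_zero_iff.1 h))
    have hG1 : 1 ≤ Module.length (X.presheaf.stalk ξ) (G.presheaf.stalk ξ) :=
      Order.one_le_iff_pos.2 (pos_iff_ne_zero.2 fun h => hξG (Module.length_eq_zero_iff.1 h))
    exact absurd ((add_le_add hK1 hG1).trans h1.ge) (by decide)
  have hGP : Coh.IsCoh (CohB1.tensorMod G P) :=
    QCohMod.isCoh_of_iso (tensor_comm P G).some (isCoh_twist hP hG)
  have := hGP.1
  let Q := cokernel (HilbStab.mulSec t G)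
  have hQ : Coh.IsCoh Q := QCohMod.isCoh_cokernel _ hGP
  have hQs : CohB1.support Q ⊆ closure {ξ} :=
    (KTheory.Devissage.support_subset_of_epi (cokernel.π (HilbStab.mulSec t G))).trans
      ((HilbStab.support_tensorMod_subset hP G).trans hGY)
  refine ⟨CohB1.tensorMod P' Q, isCoh_twist hP' hQ, ?_, ?_, fun l hl hlen => ?_⟩
  · exact (support_twist_subset _ _).trans
      (Set.subset_inter hQs (HilbStab.support_cokernel_mulSec_subset t G))
  · exact (LocCohTransform.topologicalKrullDim_mono (support_twist_subset _ _)).trans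
      (lt_natCast_succ_iff.1 (hsmall Q hQ hQs
        fun h => HilbStab.support_cokernel_mulSec_subset t G h hξt))
  · have hBl : ∀ M ∈ P' :: l, PicF.IsInvertible M := by simpa [hP'] using hl
    have hK0 : delta k (P' :: l) (kernel q) = 0 := delta_eq_zero k _ hBl _ hKc <| by
      rw [List.length_cons, hlen]
      exact hsmall _ hKc ((KTheory.Devissage.support_subset_of_mono (kernel.ι q)).trans hOs.subset) hKs
    have hadd := delta_add k hBl hS hKc hG
    change delta k (P' :: l) (Cyc.closureStructureSheaf ξ) = _ at hadd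
    rw [hadd, hK0, zero_add]
    obtain ⟨S', hS', ⟨e₁⟩, ⟨e₂⟩, ⟨e₃⟩⟩ :=
      exists_shortExact_twist hP' (CohTwo.cokerSeq_shortExact (HilbStab.mulSec t G))
    have hadd2 := delta_add k hl hS'
      (QCohMod.isCoh_of_iso e₁.symm (isCoh_twist hP' hG))
      (QCohMod.isCoh_of_iso e₃.symm (isCoh_twist hP' hQ))
    rw [delta_congr k l ⟨e₁⟩, delta_congr k l ⟨e₂⟩, delta_congr k l ⟨e₃⟩] at hadd2
    have hinv : Nonempty (CohB1.tensorMod P' (CohB1.tensorMod G P) ≅ G) :=
      ⟨(tensor_congr ⟨Iso.refl P'⟩ (tensor_comm G P)).some ≪≫ (tensor_assoc P' P G).some.symm ≪≫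
        (tensor_congr (PicAux.isInverseOf_symm hPP') ⟨Iso.refl G⟩).some ≪≫ (tensor_one G).some⟩
    change delta k l (CohB1.tensorMod P' (CohB1.tensorMod G P)) =
      delta k l (CohB1.tensorMod P' G) + delta k l (CohB1.tensorMod P' Q) at hadd2
    rw [delta_congr k l hinv] at hadd2
    rw [delta_cons, hadd2, add_sub_cancel_left]

/-- Sections, modulo those vanishing at `ξ`, grow with the self-intersection on the closure of `ξ`. -/
theorem choose_le_finrank_quotient {N N' : X.Modules} (hN : PicF.IsInvertible N)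
    (hNN' : ClSub.IsInverseOf N N') (hgg : Curv2.IsGloballyGenerated N) :
    ∀ (m : ℕ) (ξ : X), topologicalKrullDim (closure ({ξ} : Set X)) = (m : WithBot ℕ∞) →
      0 < delta k (List.replicate m N') (Cyc.closureStructureSheaf ξ) →
      ∀ j : ℕ, (j + m).choose m ≤ Module.finrank k
        (Γ(CohB1.tensorPow N j, (⊤ : X.Opens)) ⧸ vanishAt k (isInvertible_tensorPow hN j) ξ) := by
  have hNo : IsNoetherian X := isNoetherian k
  have hP : ∀ j, PicF.IsInvertible (CohB1.tensorPow N j) := isInvertible_tensorPow hN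
  have hfin : ∀ j, Module.Finite k Γ(CohB1.tensorPow N j, (⊤ : X.Opens)) := fun j =>
    finite_sections k (isCoh_of_isInvertible (hP j))
  have hN' : PicF.IsInvertible N' := PicAux.isInvertible_of_isInverseOf hN hNN'
  have hone : ∀ (ξ : X) (j : ℕ), 1 ≤ Module.finrank k
      (Γ(CohB1.tensorPow N j, (⊤ : X.Opens)) ⧸ vanishAt k (hP j) ξ) := fun ξ j => by
    have := hfin j
    obtain ⟨t, ht⟩ := VarietyBC.GGen.exists_mem_gloc hN hgg ξ
    obtain ⟨u, hu⟩ := mem_gloc_powSec hN ht j
    have : Nontrivial (Γ(CohB1.tensorPow N j, (⊤ : X.Opens)) ⧸ vanishAt k (hP j) ξ) :=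
      nontrivial_of_ne (Submodule.Quotient.mk u) 0 fun h => (Submodule.Quotient.mk_eq_zero _).1 h hu
    exact Module.finrank_pos
  intro m
  induction m with
  | zero => intro ξ _ _ j; simpa using hone ξ j
  | succ m ih =>
    intro ξ hξ hpos
    obtain ⟨s, hs⟩ := VarietyBC.GGen.exists_mem_gloc hN hgg ξ
    obtain ⟨Q, hQ, hQs, hQd, hQe⟩ := exists_cut_section k hN hNN' hs hξ
    have hl : ∀ M ∈ List.replicate m N', PicF.IsInvertible M :=
      fun M hM => (List.eq_of_mem_replicate hM).symm ▸ hN'
    rw [List.replicate_succ, hQe _ hl List.length_replicate] at hpos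
    obtain ⟨η, hηQ, hη, hηpos⟩ : ∃ η ∈ CohB1.support Q,
        topologicalKrullDim (closure ({η} : Set X)) = (m : WithBot ℕ∞) ∧
          0 < delta k (List.replicate m N') (Cyc.closureStructureSheaf η) := by
      classical
      by_contra hcon
      push Not at hcon
      have hcl := CohTwo.isClosed_support Q hQ
      let T := {x | x ∈ CohB1.support Q ∧ topologicalKrullDim (closure ({x} : Set X)) = (m : WithBot ℕ∞)}
      have hT : T.Finite := (DivisorLength.finite_maximal_points hcl).subset fun x hx =>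
        ⟨hx.1, fun w hw hwx => (eq_of_dim_closure hwx.mem_closure
          ((LocCohTransform.topologicalKrullDim_mono (closure_minimal (Set.singleton_subset_iff.2 hw) hcl)).trans
            hQd) hx.2.ge).symm⟩
      rw [delta_eq_sum_length k hl hQ (by simpa using hQd) hT.toFinset fun x => by
        rw [hT.mem_toFinset, List.length_replicate]; rfl] at hpos
      exact absurd hpos (not_lt.2 (Finset.sum_nonpos fun x hx => mul_nonpos_of_nonneg_of_nonpos
        (Int.natCast_nonneg _) (hcon x (hT.mem_toFinset.1 hx).1 (hT.mem_toFinset.1 hx).2)))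
    have hηξ : ξ ⤳ η := specializes_iff_mem_closure.2 (hQs hηQ).1
    have hsη : η ∉ gloc s := (hQs hηQ).2
    intro j
    induction j with
    | zero => simpa using hone ξ 0
    | succ j ihj =>
      have := hfin j
      have := hfin (j + 1)
      let V := vanishAt k (hP (j + 1)) ξ
      let W := vanishAt k (hP (j + 1)) η
      have hVW : V ≤ W := fun t ht h => ht (hηξ.mem_open (gloc t).2 h)
      have hlin : ∀ (c : k) (a : Γ(CohB1.tensorPow N j, (⊤ : X.Opens))),
          tmulSec (c • a) s = (c • tmulSec a s : Γ(CohB1.tensorPow N (j + 1), (⊤ : X.Opens))) :=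
        fun c a => tmulSec_smul_left _ a s
      let μ : Γ(CohB1.tensorPow N j, (⊤ : X.Opens)) →ₗ[k]
          Γ(CohB1.tensorPow N (j + 1), (⊤ : X.Opens)) :=
        { toFun := fun a => tmulSec a s
          map_add' := fun a b => tmulSec_add_left a b s
          map_smul' := hlin }
      have hμW : ∀ a, μ a ∈ W := fun a h => by
        change η ∈ gloc (L := CohB1.tensorMod (CohB1.tensorPow N j) N) (tmulSec a s) at h
        rw [gloc_tmulSec (hP j) hN] at h
        exact hsη h.2
      have hμV : ∀ a, μ a ∈ V ↔ a ∈ vanishAt k (hP j) ξ := fun a => by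
        change (ξ ∉ gloc (L := CohB1.tensorMod (CohB1.tensorPow N j) N) (tmulSec a s)) ↔ ξ ∉ gloc a
        rw [gloc_tmulSec (hP j) hN]
        exact ⟨fun h ha => h ⟨ha, hs⟩, fun h ha => h ha.1⟩
      let g : Γ(CohB1.tensorPow N j, (⊤ : X.Opens)) →ₗ[k] W.map V.mkQ :=
        (V.mkQ.comp μ).codRestrict _ fun a => Submodule.mem_map_of_mem (hμW a)
      have hker : LinearMap.ker g = vanishAt k (hP j) ξ := by
        ext a
        simp only [g, LinearMap.mem_ker, LinearMap.codRestrict_apply, LinearMap.comp_apply,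
          ← Subtype.coe_inj, Submodule.coe_zero, Submodule.mkQ_apply, Submodule.Quotient.mk_eq_zero]
        exact hμV a
      have h1 : Module.finrank k (Γ(CohB1.tensorPow N j, (⊤ : X.Opens)) ⧸ vanishAt k (hP j) ξ) ≤
          Module.finrank k (W.map V.mkQ) := by
        rw [← hker]
        exact LinearMap.finrank_le_finrank_of_injective
          (f := (LinearMap.ker g).liftQ g le_rfl) (LinearMap.ker_eq_bot.1 (Submodule.ker_liftQ_eq_bot _ _ _ le_rfl))
      have h2 : Module.finrank k ((Γ(CohB1.tensorPow N (j + 1), (⊤ : X.Opens)) ⧸ V) ⧸ W.map V.mkQ) +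
          Module.finrank k (W.map V.mkQ) =
          Module.finrank k (Γ(CohB1.tensorPow N (j + 1), (⊤ : X.Opens)) ⧸ V) :=
        Submodule.finrank_quotient_add_finrank _
      have h3 : Module.finrank k ((Γ(CohB1.tensorPow N (j + 1), (⊤ : X.Opens)) ⧸ V) ⧸ W.map V.mkQ) =
          Module.finrank k (Γ(CohB1.tensorPow N (j + 1), (⊤ : X.Opens)) ⧸ W) :=
        (Submodule.quotientQuotientEquivQuotient V W hVW).finrank_eq
      have h4 := ih η hη hηpos (j + 1)
      change _ ≤ Module.finrank k (Γ(CohB1.tensorPow N (j + 1), (⊤ : X.Opens)) ⧸ W) at h4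
      change _ ≤ Module.finrank k (Γ(CohB1.tensorPow N (j + 1), (⊤ : X.Opens)) ⧸ V)
      rw [show j + 1 + (m + 1) = (j + 1 + m) + 1 by omega, Nat.choose_succ_succ']
      rw [show j + (m + 1) = j + 1 + m by omega] at ihj
      omega

/-- Semiample modules are nef. -/
theorem nonneg_of_semiample {L M : X.Modules} (hL : PicF.IsInvertible L) (hLM : ClSub.IsInverseOf L M)
    (hsa : ∃ μ : ℕ, 0 < μ ∧ Curv2.IsGloballyGenerated (CohB1.tensorPow L μ)) : Nonneg k [M] := by
  have hNo : IsNoetherian X := isNoetherian k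
  obtain ⟨μ, hμ, hgg⟩ := hsa
  have hM : PicF.IsInvertible M := PicAux.isInvertible_of_isInverseOf hL hLM
  refine nonneg_of_integral k (by simpa using hM) fun y hy => ?_
  simp only [List.length_singleton] at hy
  obtain ⟨t, ht⟩ := VarietyBC.GGen.exists_mem_gloc (isInvertible_tensorPow hL μ) hgg y
  obtain ⟨Q, hQ, -, hQd, hQe⟩ := exists_cut_section k (isInvertible_tensorPow hL μ)
    (PicAux.isInverseOf_tensorPow hLM μ) ht (n := 0) hy
  have h := hQe [] (by simp) rfl
  rw [delta_pow_cons k hM (l := []) (by simp) (KTheory.Devissage.isCoh_closureStructureSheaf y)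
    ((LocCohTransform.topologicalKrullDim_mono
      (KTheory.Devissage.support_closureStructureSheaf_subset y)).trans hy.le)] at h
  exact nonneg_of_mul_nonneg_right (h ▸ delta_nonneg k (l := []) (by simp) hQ hQd)
    (Int.natCast_pos.2 hμ)

/-- Growth from a positive self-intersection. -/
theorem growth_of_semiample {L M : X.Modules} (hL : PicF.IsInvertible L) (hLM : ClSub.IsInverseOf L M)
    (hsa : ∃ μ : ℕ, 0 < μ ∧ Curv2.IsGloballyGenerated (CohB1.tensorPow L μ)) {m : ℕ} {ξ : X}
    (hξ : topologicalKrullDim (closure ({ξ} : Set X)) = (m : WithBot ℕ∞))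
    (hpos : 0 < delta k (List.replicate m M) (Cyc.closureStructureSheaf ξ)) :
    ∃ ν a : ℕ, 0 < ν ∧ 0 < a ∧ ∀ μ : ℕ, 1 ≤ μ →
      μ ^ m ≤ a * Module.finrank k (Coh.HH X (CohB1.tensorPow L (ν * μ)) 0) := by
  have hNo : IsNoetherian X := isNoetherian k
  obtain ⟨μ₀, hμ₀, hgg⟩ := hsa
  have hM : PicF.IsInvertible M := PicAux.isInvertible_of_isInverseOf hL hLM
  let N' := CohB1.tensorMod (CohB1.tensorPow M μ₀) (CohB1.tensorPow L 0)
  have hNN' : ClSub.IsInverseOf (CohB1.tensorPow L μ₀) N' :=
    ⟨(tensor_congr ⟨Iso.refl _⟩ ⟨(tensor_comm _ _).some ≪≫ (tensor_one _).some⟩).some ≪≫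
      (PicAux.isInverseOf_tensorPow hLM μ₀).some⟩
  have hc := KTheory.Devissage.isCoh_closureStructureSheaf ξ
  have hcd : topologicalKrullDim (CohB1.support (Cyc.closureStructureSheaf ξ)) ≤ ((m : ℕ) : WithBot ℕ∞) :=
    (LocCohTransform.topologicalKrullDim_mono
      (KTheory.Devissage.support_closureStructureSheaf_subset ξ)).trans hξ.le
  have hpos' : 0 < delta k (List.replicate m N') (Cyc.closureStructureSheaf ξ) := by
    have h := delta_comb_replicate k hM hL μ₀ 0 hc m [] (by simp) (by simpa using hcd)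
    simp only [List.append_nil] at h
    rw [h, Finset.sum_eq_single 0]
    · have : (0 : ℤ) < (μ₀ : ℤ) := by exact_mod_cast hμ₀
      simpa using mul_pos (pow_pos this m) hpos
    · intro j _ hj
      simp [zero_pow hj]
    · simp
  refine ⟨μ₀, m.factorial, hμ₀, m.factorial_pos, fun μ _ => ?_⟩
  have h := choose_le_finrank_quotient k (isInvertible_tensorPow hL μ₀) hNN' hgg m ξ hξ hpos' μ
  have := finite_sections k (isCoh_of_isInvertible (isInvertible_tensorPow (isInvertible_tensorPow hL μ₀) μ))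
  have h2 := h.trans (Submodule.finrank_quotient_le _)
  rw [← (EulerDeg.h0Equiv k _).finrank_eq, finrank_h0_congr k (tensorPow_mul' L μ₀ μ).some] at h2
  calc μ ^ m ≤ (μ + 1) ^ m := Nat.pow_le_pow_left (Nat.le_succ μ) m
    _ ≤ (μ + 1).ascFactorial m := Nat.pow_succ_le_ascFactorial _ _
    _ = m.factorial * (μ + m).choose m := Nat.ascFactorial_eq_factorial_mul_choose _ _
    _ ≤ _ := Nat.mul_le_mul_left _ h2

end Groth.Inter
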