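import Groth.Agent.Inter.Kleiman
import Groth.Prelude.Def_Pic13

/-!
# Nef invertible modules
-/

universe u

open CategoryTheory CategoryTheory.Limits AlgebraicGeometry TopologicalSpace

namespace Groth.Inter

open Groth.PicAux

variable (k : Type u) [Field k] {X : Scheme.{u}} [X.Over (Spec (CommRingCat.of k))]
  [IsProper (X ↘ Spec (CommRingCat.of k))]

/-- The degree on a curve mapped by a closed immersion, computed on `X`. -/
theorem curveDeg_eq {Y : Scheme.{u}} (i : Y ⟶ X) [IsClosedImmersion i] {L : X.Modules}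
    (hL : PicF.IsInvertible L) (hY : topologicalKrullDim Y ≤ ((1 : ℕ) : WithBot ℕ∞)) :
    Pic13.curveDeg k (i ≫ (X ↘ Spec (CommRingCat.of k))) ((Scheme.Modules.pullback i).obj L) =
      - delta k [L] ((Coh.push i).obj (Coh.structureModule Y)) := by
  letI : Y.Over (Spec (CommRingCat.of k)) := ⟨i ≫ (X ↘ Spec (CommRingCat.of k))⟩
  have : IsProper (Y ↘ Spec (CommRingCat.of k)) :=
    inferInstanceAs (IsProper (i ≫ (X ↘ Spec (CommRingCat.of k))))
  rw [Pic13.curveDeg]
  change FGA.eulerCharLE k Y _ 1 - FGA.eulerCharLE k Y _ 1 = _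
  rw [eulerCharLE_eq k hY, eulerCharLE_eq k hY, delta_cons, delta_nil, delta_nil,
    EulerDeg.euler_congr k (tensor_push i hL _).some, euler_push k i rfl, euler_push k i rfl,
    EulerDeg.euler_congr k ((tensor_comm _ _).some ≪≫ (tensor_one _).some)]
  ring

omit [IsProper (X ↘ Spec (CommRingCat.of k))] in
/-- The structure sheaf of a closed subscheme as a module on `X`. -/
theorem push_structure_facts {Y : Scheme.{u}} (i : Y ⟶ X) [IsClosedImmersion i] [IsLocallyNoetherian Y]
    [IsLocallyNoetherian X] :
    Coh.IsCoh ((Coh.push i).obj (Coh.structureModule Y)) ∧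
      CohB1.support ((Coh.push i).obj (Coh.structureModule Y)) = Set.range i := by
  refine ⟨CohTwo.isCoh_push i (isCoh_of_isInvertible (EulerDeg.isInvertible_structureModule Y)),
    Set.Subset.antisymm (CohTwo.support_push_subset i _) ?_⟩
  rintro _ ⟨z, rfl⟩ h
  have hne : Nontrivial ((Coh.structureModule Y).presheaf.stalk z) :=
    (RefRank.oneEquiv z).toEquiv.nontrivial_congr.1 inferInstance
  exact not_subsingleton _ (@Equiv.subsingleton _ _
    (Equiv.ofBijective _ (CohTwo.bijective_pushStalk i _ z)).symm h :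
      Subsingleton ((Coh.structureModule Y).presheaf.stalk z))

/-- `δ_M = - δ_L` in dimension one. -/
theorem delta_inverse_one {L M : X.Modules} (hL : PicF.IsInvertible L) (hLM : ClSub.IsInverseOf L M)
    {F : X.Modules} (hF : Coh.IsCoh F) (hd : topologicalKrullDim (CohB1.support F) ≤ ((1 : ℕ) : WithBot ℕ∞)) :
    delta k [M] F = - delta k [L] F := by
  rw [delta_inverse_cons k hL hLM (l := []) (by simp) hF hd, neg_neg]

/-- Nef in the sense of degrees on integral curves. -/
theorem nonneg_of_isNef {L M : X.Modules} (hL : PicF.IsInvertible L) (hLM : ClSub.IsInverseOf L M)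
    (h : ∀ (Y : Scheme.{u}) (i : Y ⟶ X) [IsClosedImmersion i], IsIntegral Y → topologicalKrullDim Y = 1 →
      0 ≤ Pic13.curveDeg k (i ≫ (X ↘ Spec (CommRingCat.of k))) ((Scheme.Modules.pullback i).obj L)) :
    Nonneg k [M] := by
  have hN : IsNoetherian X := isNoetherian k
  refine nonneg_of_integral k (by simpa using PicAux.isInvertible_of_isInverseOf hL hLM) fun y hy => ?_
  simp only [List.length_singleton] at hy
  have hd := (dim_ptIdeal_subscheme y).trans hy
  have h1 := h _ (IntMult.ptIdeal y).subschemeι (CohTwo.isIntegral_closure_subscheme rfl) hd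
  rw [curveDeg_eq k _ hL hd.le] at h1
  rw [delta_inverse_one k hL hLM (KTheory.Devissage.isCoh_closureStructureSheaf y)
    ((LocCohTransform.topologicalKrullDim_mono
      (KTheory.Devissage.support_closureStructureSheaf_subset y)).trans hy.le)]
  exact h1

theorem isNef_of_nonneg {L M : X.Modules} (hL : PicF.IsInvertible L) (hLM : ClSub.IsInverseOf L M)
    (h : Nonneg k [M]) (Y : Scheme.{u}) (i : Y ⟶ X) [IsClosedImmersion i]
    (hY : topologicalKrullDim Y = 1) :
    0 ≤ Pic13.curveDeg k (i ≫ (X ↘ Spec (CommRingCat.of k))) ((Scheme.Modules.pullback i).obj L) := by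
  have hN : IsNoetherian X := isNoetherian k
  have : IsLocallyNoetherian Y := LocallyOfFiniteType.isLocallyNoetherian i
  obtain ⟨hc, hs⟩ := push_structure_facts (X := X) i
  have hd : topologicalKrullDim (CohB1.support ((Coh.push i).obj (Coh.structureModule Y))) ≤
      ((1 : ℕ) : WithBot ℕ∞) := by
    rw [hs, ← i.isClosedEmbedding.isEmbedding.toHomeomorph.isHomeomorph.topologicalKrullDim_eq _, hY]
    rfl
  rw [curveDeg_eq k i hL (by rw [hY]; rfl), ← delta_inverse_one k hL hLM hc hd]
  exact h _ hc hd

/-- Mixed nonnegativity. -/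
theorem nonneg_mixed {A B L M : X.Modules} (hA : CohB1.IsAmple A) (hAB : ClSub.IsInverseOf A B)
    (hL : PicF.IsInvertible L) (hLM : ClSub.IsInverseOf L M) (hnef : Nonneg k [M]) (j e : ℕ) :
    Nonneg k (List.replicate j M ++ List.replicate e B) :=
  Nonneg.perm k List.perm_append_comm (nonneg_replicate_append k
    (fun _ hN => (List.eq_of_mem_replicate hN).symm ▸ PicAux.isInvertible_of_isInverseOf hL hLM)
    ⟨A, hA, hAB⟩ (kleiman k j X A L M hA hL hLM hnef) e)

/-- Nef tensor ample is ample. -/
theorem isAmple_nef_tensor_ample {A L M : X.Modules} (hA : CohB1.IsAmple A)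
    (hL : PicF.IsInvertible L) (hLM : ClSub.IsInverseOf L M) (hnef : Nonneg k [M]) (ν : ℕ) :
    CohB1.IsAmple (CohB1.tensorMod (CohB1.tensorPow L ν) A) := by
  have hN : IsNoetherian X := isNoetherian k
  obtain ⟨B, hB, hAB⟩ := exists_isInverseOf hA.1
  have hM : PicF.IsInvertible M := PicAux.isInvertible_of_isInverseOf hL hLM
  let C := CohB1.tensorMod (CohB1.tensorPow B 1) (CohB1.tensorPow M ν)
  have hinv : Nonempty (CohB1.tensorMod (CohB1.tensorMod (CohB1.tensorPow L ν) A) C ≅
      Coh.structureModule X) :=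
    ⟨(tensor_congr ⟨(tensor_comm _ _).some ≪≫
      (tensor_congr ⟨(tensor_one A).some.symm⟩ ⟨Iso.refl _⟩).some⟩ ⟨Iso.refl C⟩).some ≪≫
      (isInverseOf_comb hAB hLM 1 ν).some⟩
  refine isAmple_of_delta_pos k (isInvertible_tensorMod (isInvertible_tensorPow hL ν) hA.1) hinv
    fun ξ e he => ?_
  have hc := KTheory.Devissage.isCoh_closureStructureSheaf ξ
  have hcd : topologicalKrullDim (CohB1.support (Cyc.closureStructureSheaf ξ)) =
      ((e + 1 : ℕ) : WithBot ℕ∞) := by rw [support_closureStructureSheaf_eq k ξ, he]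
  have h := delta_comb_replicate k hB hM 1 ν hc (e + 1) [] (by simp) (by simpa using hcd.le)
  simp only [List.append_nil] at h
  rw [h]
  refine Finset.sum_pos' (fun j hj => ?_) ⟨0, by simp, ?_⟩
  · rw [Finset.mem_range] at hj
    have := nonneg_mixed k hA hAB hL hLM hnef j (e + 1 - j) _ hc
      (by simp [hcd, Nat.add_sub_cancel' (show j ≤ e + 1 by omega)])
    positivity
  · have := delta_pos k (List.replicate (e + 1) B)
      (fun N hN => (List.eq_of_mem_replicate hN).symm ▸ ⟨A, hA, hAB⟩) _ hc (by simpa using hcd)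
    simpa using this

/-- Conversely. -/
theorem nonneg_of_forall_isAmple {A L M : X.Modules} (hA : PicF.IsInvertible A)
    (hL : PicF.IsInvertible L) (hLM : ClSub.IsInverseOf L M)
    (h : ∀ ν : ℕ, 0 < ν → CohB1.IsAmple (CohB1.tensorMod (CohB1.tensorPow L ν) A)) : Nonneg k [M] := by
  have hN : IsNoetherian X := isNoetherian k
  have hM : PicF.IsInvertible M := PicAux.isInvertible_of_isInverseOf hL hLM
  refine nonneg_of_integral k (by simpa using hM) fun y hy => ?_
  simp only [List.length_singleton] at hy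
  have hc := KTheory.Devissage.isCoh_closureStructureSheaf y
  have hd := (LocCohTransform.topologicalKrullDim_mono
      (KTheory.Devissage.support_closureStructureSheaf_subset y)).trans hy.le
  rw [delta_inverse_one k hL hLM hc hd]
  by_contra hneg
  let n := (delta k [A] (Cyc.closureStructureSheaf y)).natAbs + 1
  have h1 := delta_neg_of_isAmple k (h n (Nat.succ_pos _)) y hy
  rw [delta_tensor k (isInvertible_tensorPow hL n) hA (l := []) (by simp) hc hd,
    delta_pow_cons k hL (l := []) (by simp) hc hd] at h1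
  have h2 : (n : ℤ) * 1 ≤ (n : ℤ) * delta k [L] (Cyc.closureStructureSheaf y) :=
    mul_le_mul_of_nonneg_left (by omega) (Int.natCast_nonneg _)
  simp only [n] at h1 h2
  omega

end Groth.Inter
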