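import Groth.Agent.Inter.PushAcyc
import Groth.Agent.Inter.KleimanCor
import Groth.Agent.Chow.Lemma
import Groth.Agent.Chow.VeryAmplePn
import Groth.Agent.Variety2.DimScheme

/-!
# Intersection numbers and proper surjective morphisms; Kleiman's theorem on proper schemes
-/

set_option linter.style.haveILetI false

universe u

open CategoryTheory CategoryTheory.Limits AlgebraicGeometry TopologicalSpace Opposite

namespace Groth.Inter

open Groth.PicAux Groth.CohFin

section

variable {X Y : Scheme.{u}}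

/-- Closed maps do not increase heights. -/
theorem height_apply_le (π : X ⟶ Y) [UniversallyClosed π] (x : X) :
    Order.height (π x) ≤ Order.height x := by
  refine Order.height_le_iff.2 fun l hl => ?_
  suffices ∀ l : LTSeries Y, l.last ≤ π x →
      ∃ l' : LTSeries X, l'.last ≤ x ∧ π l'.head = l.head ∧ l'.length = l.length by
    obtain ⟨l', hx, -, hlen⟩ := this l hl
    exact hlen ▸ Order.length_le_height hx
  intro l
  induction l using RelSeries.inductionOn with
  | singleton y =>
    intro hy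
    obtain ⟨a, ha, rfl⟩ := π.isClosedMap.specializingMap (Scheme.le_iff_specializes.1 hy)
    exact ⟨RelSeries.singleton _ a, Scheme.le_iff_specializes.2 ha, rfl, rfl⟩
  | cons p y hy ih =>
    intro hlast
    rw [RelSeries.last_cons] at hlast
    obtain ⟨l', hl', hhead, hlen⟩ := ih hlast
    have hsp : π l'.head ⤳ y := by rw [hhead]; exact le_of_lt hy
    obtain ⟨a, ha, rfl⟩ := π.isClosedMap.specializingMap hsp
    have hlt : a < l'.head := by
      refine lt_iff_le_not_ge.mpr ⟨ha, fun h' => (show π a < p.head from hy).ne ?_⟩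
      rw [← hhead, (Specializes.antisymm h' ha).eq]
    exact ⟨l'.cons a hlt, by rwa [RelSeries.last_cons],
      (congrArg π (RelSeries.head_cons ..)).trans (RelSeries.head_cons ..).symm,
      by rw [RelSeries.cons_length, RelSeries.cons_length, hlen]⟩

/-- Direct images are supported in the image of the support. -/
theorem support_push_subset' (π : X ⟶ Y) [UniversallyClosed π] (G : X.Modules)
    (hG : IsClosed (CohB1.support G)) :
    CohB1.support ((Coh.push π).obj G) ⊆ π '' CohB1.support G := by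
  intro y hy
  by_contra hyn
  refine hy (subsingleton_of_forall_eq 0 fun t => ?_)
  obtain ⟨U, hU, s, rfl⟩ := TopCat.Presheaf.exists_germ_eq ((Coh.push π).obj G).presheaf t
  let V : Y.Opens := U ⊓ ⟨(π '' CohB1.support G)ᶜ, (π.isClosedMap _ hG).isOpen_compl⟩
  have h : QCohMod.res ((Coh.push π).obj G) (inf_le_left : V ≤ U) s = 0 := by
    refine TopCat.Presheaf.section_ext
      (⟨G.presheaf, G.isSheaf⟩ : TopCat.Sheaf AddCommGrpCat.{u} X) (π ⁻¹ᵁ V) _ _ fun x hx => ?_
    exact @Subsingleton.elim _ (not_not.1 fun h : x ∈ CohB1.support G => hx.2 ⟨x, h, rfl⟩) _ _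
  rw [← TopCat.Presheaf.germ_res_apply ((Coh.push π).obj G).presheaf
    (homOfLE (inf_le_left : V ≤ U)) y ⟨hU, hyn⟩ s]
  exact (congrArg _ h).trans (map_zero _)

theorem dim_support_push_le (π : X ⟶ Y) [UniversallyClosed π] (G : X.Modules) (hG : IsClosed (CohB1.support G))
    (hP : IsClosed (CohB1.support ((Coh.push π).obj G))) :
    topologicalKrullDim (CohB1.support ((Coh.push π).obj G)) ≤ topologicalKrullDim (CohB1.support G) := by
  rw [Variety2.Dim.dim_closed hG, Variety2.Dim.dim_closed hP]
  refine iSup₂_le fun y hy => ?_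
  obtain ⟨x, hx, rfl⟩ := support_push_subset' π G hG hy
  exact (WithBot.coe_le_coe.2 (height_apply_le π x)).trans
    (le_iSup₂ (f := fun z (_ : z ∈ CohB1.support G) => ((Order.height z : ℕ∞) : WithBot ℕ∞)) x hx)

/-- Over an open where the morphism is an isomorphism, the support is not lost. -/
theorem mem_support_push_of_isIso (π : X ⟶ Y) (U : Y.Opens) [IsIso (π ∣_ U)] (G : X.Modules) {x : X}
    (hxU : π x ∈ U) (hx : x ∈ CohB1.support G) : π x ∈ CohB1.support ((Coh.push π).obj G) := by
  intro hy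
  refine hx (subsingleton_of_forall_eq 0 fun t => ?_)
  obtain ⟨W₀, hW₀, s, rfl⟩ := TopCat.Presheaf.exists_germ_eq G.presheaf t
  let W : Y.Opens := U.ι ''ᵁ (inv (π ∣_ U) ⁻¹ᵁ ((π ⁻¹ᵁ U).ι ⁻¹ᵁ W₀))
  have hWU : W ≤ U := U.ι_image_le _
  have hback : ∀ (z : X) (hz : π z ∈ U), inv (π ∣_ U) ⟨π z, hz⟩ = (⟨z, hz⟩ : (π ⁻¹ᵁ U).toScheme) := by
    intro z hz
    have h1 : inv (π ∣_ U) ((π ∣_ U) ⟨z, hz⟩) = (⟨z, hz⟩ : (π ⁻¹ᵁ U).toScheme) := by
      rw [← Scheme.Hom.comp_apply, IsIso.hom_inv_id]
      rfl
    rwa [show (π ∣_ U) ⟨z, hz⟩ = ⟨π z, hz⟩ from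
      Subtype.ext (morphismRestrict_base_coe π U ⟨z, hz⟩)] at h1
  have hle : π ⁻¹ᵁ W ≤ W₀ := fun z hz => by
    obtain ⟨w, hw, hwz⟩ := hz
    have hzU : π z ∈ U := hWU ⟨w, hw, hwz⟩
    obtain rfl : w = ⟨π z, hzU⟩ := Subtype.ext hwz
    have hw' : (π ⁻¹ᵁ U).ι (inv (π ∣_ U) ⟨π z, hzU⟩) ∈ W₀ := hw
    rw [hback z hzU] at hw'
    exact hw'
  have hxW : π x ∈ W := ⟨⟨π x, hxU⟩, by
    change (π ⁻¹ᵁ U).ι (inv (π ∣_ U) ⟨π x, hxU⟩) ∈ W₀
    rw [hback x hxU]
    exact hW₀, rfl⟩
  let s' : Γ((Coh.push π).obj G, W) := G.presheaf.map (homOfLE hle).op s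
  obtain ⟨V, hV, i₁, i₂, he⟩ := TopCat.Presheaf.germ_eq ((Coh.push π).obj G).presheaf (π x) hxW hxW
    s' 0 (hy.elim _ _)
  rw [map_zero] at he
  have he' := congrArg (G.presheaf.germ (π ⁻¹ᵁ V) x hV) he
  rw [← TopCat.Presheaf.germ_res_apply G.presheaf (homOfLE hle) x hxW s]
  rw [← TopCat.Presheaf.germ_res_apply G.presheaf (homOfLE ((Opens.map π.base).map i₁).le) x hV]
  exact he'.trans (map_zero _)

/-- Proper direct images of coherent modules are coherent. -/
theorem isCoh_push_proper (π : X ⟶ Y) [IsProper π] [IsLocallyNoetherian Y] {G : X.Modules}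
    (hG : Coh.IsCoh G) : Coh.IsCoh ((Coh.push π).obj G) :=
  QCohMod.isCoh_of_iso ((Scheme.Modules.pushforward π).rightDerivedZeroIsoSelf.app G)
    (isCoh_rightDerived_of_proper projFinite π 0 G hG)

end

variable (k : Type u) [Field k] {X : Scheme.{u}} [X.Over (Spec (CommRingCat.of k))]
  [IsProper (X ↘ Spec (CommRingCat.of k))]

/-- Twists do not change the symbol in the critical dimension. -/
theorem delta_twist_critical {a : X.Modules} (ha : PicF.IsInvertible a) {l : List X.Modules}
    (hl : ∀ M ∈ l, PicF.IsInvertible M) {F : X.Modules} (hF : Coh.IsCoh F)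
    (hd : topologicalKrullDim (CohB1.support F) ≤ (l.length : ℕ)) :
    delta k l (CohB1.tensorMod a F) = delta k l F := by
  rw [delta_twist, delta_eq_zero k (a :: l) (by simpa [ha] using hl) F hF (by
    rw [List.length_cons]
    exact lt_natCast_succ_iff.2 hd), sub_zero]

/-- Nefness is inherited by pullbacks, for a source with an ample invertible module. -/
theorem nonneg_pullback {X' : Scheme.{u}} [X'.Over (Spec (CommRingCat.of k))] (π : X' ⟶ X) [IsProper π]
    (hπ : π ≫ (X ↘ Spec (CommRingCat.of k)) = X' ↘ Spec (CommRingCat.of k)) {A : X'.Modules}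
    (hA : CohB1.IsAmple A) {l : List X.Modules} (hl : ∀ M ∈ l, PicF.IsInvertible M) (h : Nonneg k l) :
    Nonneg k (l.map (Scheme.Modules.pullback π).obj) := by
  have hN : IsNoetherian X := isNoetherian k
  have : IsProper (X' ↘ Spec (CommRingCat.of k)) := hπ ▸ inferInstance
  intro G hG hd
  have hl' : ∀ M ∈ l.map (Scheme.Modules.pullback π).obj, PicF.IsInvertible M := by
    simp only [List.mem_map]
    rintro _ ⟨M, hM, rfl⟩
    exact PicAux.isInvertible_pullback π (hl M hM)
  obtain ⟨j, hj⟩ := exists_delta_pullback_eq k π hπ hA l hl G hG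
  have hAi := PicAux.isInvertible_tensorPow hA.1 j
  have hT := isCoh_twist hAi hG
  have hN' : IsNoetherian X' := isNoetherian k
  rw [← delta_twist_critical k hAi hl' hG hd, hj j le_rfl]
  refine h _ (isCoh_push_proper π hT) ((dim_support_push_le π _ (CohTwo.isClosed_support _ hT)
    (CohTwo.isClosed_support _ (isCoh_push_proper π hT))).trans ?_)
  exact (LocCohTransform.topologicalKrullDim_mono (support_twist_subset _ _)).trans (by simpa using hd)

/-- Kleiman's theorem on a proper scheme. -/
theorem kleiman_proper {L M : X.Modules} (hL : PicF.IsInvertible L) (hLM : ClSub.IsInverseOf L M)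
    (hnef : Nonneg k [M]) (d : ℕ) : Nonneg k (List.replicate d M) := by
  have hN : IsNoetherian X := isNoetherian k
  have hM : PicF.IsInvertible M := PicAux.isInvertible_of_isInverseOf hL hLM
  have hrM : ∀ N ∈ List.replicate d M, PicF.IsInvertible N :=
    fun N hN' => (List.eq_of_mem_replicate hN').symm ▸ hM
  refine nonneg_of_integral k hrM fun ξ hξ => ?_
  rw [List.length_replicate] at hξ
  let i := (IntMult.ptIdeal ξ).subschemeι
  let Z := (IntMult.ptIdeal ξ).subscheme
  letI : Z.Over (Spec (CommRingCat.of k)) := ⟨i ≫ (X ↘ Spec (CommRingCat.of k))⟩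
  have : IsProper (Z ↘ Spec (CommRingCat.of k)) :=
    inferInstanceAs (IsProper (i ≫ (X ↘ Spec (CommRingCat.of k))))
  have : IsIntegral Z := CohTwo.isIntegral_closure_subscheme rfl
  have hZN : IsNoetherian Z := isNoetherian k
  let f : Z ⟶ Spec (CommRingCat.of k) := Z ↘ Spec (CommRingCat.of k)
  have hrange : Set.range i = closure ({ξ} : Set X) :=
    Groth.PropsBasic2.range_vanishingIdeal_subschemeι ⟨closure {ξ}, isClosed_closure⟩
  obtain ⟨N, Z', μ, j, hj, hje, hμ, hsurj, ⟨U, hU, hU', hiso⟩, hred, hirr⟩ :=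
    Groth.Chow.exists_chow f NoetherianSpace.finite_irreducibleComponents
  letI : Z'.Over (Spec (CommRingCat.of k)) := ⟨μ ≫ f⟩
  have : IsProper (Z' ↘ Spec (CommRingCat.of k)) := inferInstanceAs (IsProper (μ ≫ f))
  have : IrreducibleSpace Z' := hirr inferInstance
  let ρ : Z' ⟶ X := μ ≫ i
  have hρ : ρ ≫ (X ↘ Spec (CommRingCat.of k)) = Z' ↘ Spec (CommRingCat.of k) := Category.assoc _ _ _
  have : QuasiCompact (μ ≫ f) := inferInstance
  have hA : CohB1.IsAmple ((Scheme.Modules.pullback j).obj (Twist.twistOver N (Spec (CommRingCat.of k)) 1)) :=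
    Chow.isAmple_of_immersion (μ ≫ f) _ N j (Iso.refl _)
  set A := (Scheme.Modules.pullback j).obj (Twist.twistOver N (Spec (CommRingCat.of k)) 1)
  have hZN' : IsNoetherian Z' := isNoetherian k
  -- the generic point
  let η := genericPoint Z'
  have hηU : μ η ∈ U :=
    (genericPoint_spec Z').mem_open_set_iff (μ ⁻¹ᵁ U).2 |>.2 (by simpa using hU'.nonempty)
  have hμη : μ η = genericPoint Z := by
    refine ((genericPoint_spec Z').image μ.continuous).eq ?_
    rw [IsGenericPoint, Set.image_univ, μ.surjective.range_eq, closure_univ]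
    exact genericPoint_spec Z
  have hρη : ρ η = ξ := by
    rw [show ρ η = i (μ η) from Scheme.Hom.comp_apply μ i η, hμη]
    exact CohTwo.apply_genericPoint_eq i hrange
  have hdimZ' : topologicalKrullDim Z' = (d : WithBot ℕ∞) := by
    have hne : ((μ ⁻¹ᵁ U : Z'.Opens) : Set Z').Nonempty := ⟨η, hηU⟩
    rw [← Variety2.Dim.dim_opens (μ ≫ f) (μ ⁻¹ᵁ U) hne,
      (μ ∣_ U).homeomorph.isHomeomorph.topologicalKrullDim_eq,
      Variety2.Dim.dim_opens f U ⟨μ η, hηU⟩, dim_ptIdeal_subscheme, hξ]
  -- nefness upstairs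
  have hl : ∀ N ∈ [M], PicF.IsInvertible N := by simpa using hM
  have hnef' : Nonneg k [(Scheme.Modules.pullback ρ).obj M] :=
    nonneg_pullback k ρ hρ hA hl hnef
  have hL' := PicAux.isInvertible_pullback ρ hL
  have hLM' : ClSub.IsInverseOf ((Scheme.Modules.pullback ρ).obj L) ((Scheme.Modules.pullback ρ).obj M) :=
    ⟨(exists_pullback_tensorMod ρ L M).choose.symm ≪≫ (Scheme.Modules.pullback ρ).mapIso hLM.some ≪≫
      (pullback_structure_iso ρ).some⟩
  have hO : Coh.IsCoh (Coh.structureModule Z') :=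
    isCoh_of_isInvertible (EulerDeg.isInvertible_structureModule Z')
  obtain ⟨e, he⟩ := exists_delta_pullback_eq k ρ hρ hA (List.replicate d M) hrM _ hO
  have hAi := PicAux.isInvertible_tensorPow hA.1 e
  let T := CohB1.tensorMod (CohB1.tensorPow A e) (Coh.structureModule Z')
  have hT : Coh.IsCoh T := isCoh_twist hAi hO
  have hpos : 0 ≤ delta k ((List.replicate d M).map (Scheme.Modules.pullback ρ).obj) T := by
    rw [List.map_replicate]
    refine kleiman k d Z' A _ _ hA hL' hLM' hnef' T hT ?_
    rw [List.length_replicate]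
    exact ((topologicalKrullDim_subspace_le Z' _).trans hdimZ'.le)
  rw [he e le_rfl] at hpos
  have hP : Coh.IsCoh ((Coh.push ρ).obj T) := isCoh_push_proper ρ hT
  have hPsub : CohB1.support ((Coh.push ρ).obj T) ⊆ closure {ξ} := fun x hx => by
    obtain ⟨z, -, rfl⟩ := support_push_subset' ρ T (CohTwo.isClosed_support _ hT) hx
    exact hrange.le ⟨μ z, (Scheme.Hom.comp_apply μ i z).symm⟩
  have hξP : ξ ∈ CohB1.support ((Coh.push ρ).obj T) := by
    have h1 : η ∈ CohB1.support T := by
      obtain ⟨B, hB, hAB⟩ := exists_isInverseOf hA.1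
      have e' : Nonempty (CohB1.tensorMod (CohB1.tensorPow B e) T ≅ Coh.structureModule Z') :=
        ⟨(tensor_assoc _ _ _).some.symm ≪≫
          (tensor_congr (isInverseOf_symm (isInverseOf_tensorPow hAB e)) ⟨Iso.refl _⟩).some ≪≫
          (tensor_one _).some⟩
      exact support_twist_subset (CohB1.tensorPow B e) T ((QCohMod.support_eq_of_iso e'.some).ge fun h => by
        have : Nontrivial ((Coh.structureModule Z').presheaf.stalk η) :=
          (RefRank.oneEquiv η).toEquiv.nontrivial_congr.1 inferInstance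
        exact not_subsingleton _ h)
    have h2 : μ η ∈ CohB1.support ((Coh.push μ).obj T) := mem_support_push_of_isIso μ U T hηU h1
    intro h
    refine h2 (@Equiv.subsingleton _ _ (Equiv.ofBijective _
      (CohTwo.bijective_pushStalk i ((Coh.push μ).obj T) (μ η))).symm ?_)
    rw [← hρη] at h
    exact h
  have hd : topologicalKrullDim (CohB1.support ((Coh.push ρ).obj T)) ≤ ((d : ℕ) : WithBot ℕ∞) :=
    (LocCohTransform.topologicalKrullDim_mono hPsub).trans hξ.le
  have hsum := delta_eq_sum_length k hrM hP (by rwa [List.length_replicate]) {ξ} fun x => by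
    rw [Finset.mem_singleton, List.length_replicate]
    refine ⟨fun hx => ⟨hx ▸ hξP, hx ▸ hξ⟩, fun hx => ?_⟩
    exact eq_of_dim_closure (hPsub hx.1) hξ.le hx.2.ge
  rw [Finset.sum_singleton] at hsum
  rw [hsum] at hpos
  refine nonneg_of_mul_nonneg_right hpos ?_
  refine Int.natCast_pos.2 (Nat.pos_of_ne_zero fun h0 => ?_)
  rcases ENat.toNat_eq_zero.1 h0 with h | h
  · exact hξP (Module.length_eq_zero_iff.1 h)
  · refine KTheory.Devissage.length_stalk_ne_top hP ξ (fun z hz hzξ => ?_) h
    exact (eq_of_dim_closure (specializes_iff_mem_closure.1 hzξ)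
      ((LocCohTransform.topologicalKrullDim_mono (closure_minimal
        (Set.singleton_subset_iff.2 (hPsub hz)) isClosed_closure)).trans hξ.le) hξ.ge).symm

/-- Nefness, phrased with the reduced curves as closed subschemes. -/
theorem nonneg_of_forall {L M : X.Modules} (hL : PicF.IsInvertible L) (hLM : ClSub.IsInverseOf L M)
    (h : ∀ C : X.IdealSheafData, IsIntegral C.subscheme →
      topologicalKrullDim (C.support : Set X) = 1 →
        0 ≤ Curv2.euler k X (CohB1.tensorMod (ClSub.quotMod C) L) - Curv2.euler k X (ClSub.quotMod C)) :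
    Nonneg k [M] := by
  have hN : IsNoetherian X := isNoetherian k
  refine nonneg_of_integral k (by simpa using PicAux.isInvertible_of_isInverseOf hL hLM) fun y hy => ?_
  simp only [List.length_singleton] at hy
  have := h (IntMult.ptIdeal y) (CohTwo.isIntegral_closure_subscheme rfl)
    ((dim_support_ptIdeal y).trans (hy.trans (by rfl)))
  rw [delta_inverse_one k hL hLM (KTheory.Devissage.isCoh_closureStructureSheaf y)
    ((LocCohTransform.topologicalKrullDim_mono
      (KTheory.Devissage.support_closureStructureSheaf_subset y)).trans hy.le),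
    delta_cons, delta_nil, delta_nil, EulerDeg.euler_congr k (tensor_comm L _).some]
  change 0 ≤ Curv2.euler k X (CohB1.tensorMod (Cyc.closureStructureSheaf y) L) -
    Curv2.euler k X (Cyc.closureStructureSheaf y) at this
  omega

/-- Nonnegativity gives nefness, for arbitrary curves in `X`. -/
theorem forall_of_nonneg {L M : X.Modules} (hL : PicF.IsInvertible L) (hLM : ClSub.IsInverseOf L M)
    (h : Nonneg k [M]) (C : X.IdealSheafData) (hC : topologicalKrullDim (C.support : Set X) = 1) :
    0 ≤ Curv2.euler k X (CohB1.tensorMod (ClSub.quotMod C) L) - Curv2.euler k X (ClSub.quotMod C) := by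
  obtain ⟨hc, hs⟩ := support_quotMod k C
  have hd : topologicalKrullDim (CohB1.support (ClSub.quotMod C)) ≤ ((1 : ℕ) : WithBot ℕ∞) := by
    rw [hs, hC]; rfl
  have h1 := h _ hc hd
  rw [delta_inverse_one k hL hLM hc hd, delta_cons, delta_nil, delta_nil,
    EulerDeg.euler_congr k (tensor_comm L _).some] at h1
  omega

end Groth.Inter
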