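import Groth.Agent.Inter.Delta
import Groth.Agent.Inter.Devissage
import Groth.Agent.Inter.Push

/-!
# Numerical equivalence

Iterated differences in the critical dimension depend only on the degrees on integral curves.
-/

universe u

open CategoryTheory CategoryTheory.Limits AlgebraicGeometry TopologicalSpace

namespace Groth.Inter

variable (k : Type u) [Field k] {X : Scheme.{u}} [X.Over (Spec (CommRingCat.of k))]

/-- `M` and `M'` have the same degree on every integral curve. -/
def CurveEq (M M' : X.Modules) : Prop :=
  ∀ y : X, topologicalKrullDim (closure ({y} : Set X)) = 1 →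
    Curv2.euler k X (CohB1.tensorMod M (Cyc.closureStructureSheaf y)) =
      Curv2.euler k X (CohB1.tensorMod M' (Cyc.closureStructureSheaf y))

variable [IsProper (X ↘ Spec (CommRingCat.of k))]

lemma lt_one_of_ne {a : WithBot ℕ∞} (h : a ≤ ((1 : ℕ) : WithBot ℕ∞)) (h1 : a ≠ 1) :
    a < ((1 : ℕ) : WithBot ℕ∞) :=
  lt_of_le_of_ne h (by simpa using h1)

theorem delta_one_eq {M M' : X.Modules} (hM : PicF.IsInvertible M) (hM' : PicF.IsInvertible M')
    (h : CurveEq k M M') {F : X.Modules} (hF : Coh.IsCoh F)
    (hdim : topologicalKrullDim (CohB1.support F) ≤ ((1 : ℕ) : WithBot ℕ∞)) :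
    delta k [M] F = delta k [M'] F := by
  have hN : IsNoetherian X := isNoetherian k
  rw [← sub_eq_zero]
  refine additive_eq_zero (fun G => delta k [M] G - delta k [M'] G) (fun S hS c₁ _ c₃ => ?_)
    (CohTwo.isClosed_support F hF) (fun y hy => ?_) hF subset_rfl
  · rw [delta_add k (by simpa using hM) hS c₁ c₃, delta_add k (by simpa using hM') hS c₁ c₃]
    ring
  · have hc := KTheory.Devissage.isCoh_closureStructureSheaf y
    have hd : topologicalKrullDim (closure ({y} : Set X)) ≤ ((1 : ℕ) : WithBot ℕ∞) :=
      (LocCohTransform.topologicalKrullDim_mono hy).trans hdim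
    by_cases h1 : topologicalKrullDim (closure ({y} : Set X)) = 1
    · simp only [delta_cons, delta_nil]
      rw [h y h1, sub_self]
    · have hlt : topologicalKrullDim (CohB1.support (Cyc.closureStructureSheaf y)) <
          ((1 : ℕ) : WithBot ℕ∞) := lt_of_le_of_lt (LocCohTransform.topologicalKrullDim_mono
        (KTheory.Devissage.support_closureStructureSheaf_subset y)) (lt_one_of_ne hd h1)
      rw [delta_eq_zero k [M] (by simpa using hM) _ hc hlt,
        delta_eq_zero k [M'] (by simpa using hM') _ hc hlt, sub_zero]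

/-- Changing the tail of a list. -/
theorem delta_cons_eq_of {l l' : List X.Modules} (hl : ∀ N ∈ l, PicF.IsInvertible N)
    (hl' : ∀ N ∈ l', PicF.IsInvertible N) {n : ℕ}
    (H : ∀ G : X.Modules, Coh.IsCoh G → topologicalKrullDim (CohB1.support G) ≤ (n : ℕ) →
      delta k l G = delta k l' G)
    {M : X.Modules} (hM : PicF.IsInvertible M) {F : X.Modules} (hF : Coh.IsCoh F)
    (hdim : topologicalKrullDim (CohB1.support F) ≤ ((n + 1 : ℕ) : WithBot ℕ∞)) :
    delta k (M :: l) F = delta k (M :: l') F := by
  have hN : IsNoetherian X := isNoetherian k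
  rw [← sub_eq_zero]
  have hMl : ∀ N ∈ M :: l, PicF.IsInvertible N := by simpa [hM] using hl
  have hMl' : ∀ N ∈ M :: l', PicF.IsInvertible N := by simpa [hM] using hl'
  refine additive_eq_zero (fun G => delta k (M :: l) G - delta k (M :: l') G)
    (fun S hS c₁ _ c₃ => ?_) (CohTwo.isClosed_support F hF) (fun y hy => ?_) hF subset_rfl
  · rw [delta_add k hMl hS c₁ c₃, delta_add k hMl' hS c₁ c₃]
    ring
  · obtain ⟨Q₁, Q₂, c₁, c₂, d₁, -, d₂, -, h⟩ := exists_delta_eq_sub k hM
      (Y := ⟨closure {y}, isClosed_closure⟩) rfl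
      ((LocCohTransform.topologicalKrullDim_mono hy).trans hdim)
      (KTheory.Devissage.isCoh_closureStructureSheaf y)
      (KTheory.Devissage.support_closureStructureSheaf_subset y)
    rw [h l hl, h l' hl', H Q₁ c₁ (lt_natCast_succ_iff.1 d₁), H Q₂ c₂ (lt_natCast_succ_iff.1 d₂),
      sub_self]

/-- Iterated differences in the critical dimension depend only on degrees on curves. -/
theorem delta_eq_of_curveEq : ∀ (r : ℕ) (l l' : List X.Modules), l.length = r →
    List.Forall₂ (fun a b => PicF.IsInvertible a ∧ PicF.IsInvertible b ∧ CurveEq k a b) l l' →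
    ∀ F : X.Modules, Coh.IsCoh F → topologicalKrullDim (CohB1.support F) ≤ (r : ℕ) →
      delta k l F = delta k l' F := by
  intro r
  induction r with
  | zero =>
    intro l l' hl h F _ _
    obtain rfl := List.length_eq_zero_iff.1 hl
    cases h
    rfl
  | succ r ih =>
    intro l l' hl h F hF hdim
    cases h with
    | nil => simp at hl
    | @cons a a' l l' ha h =>
      have hlen : l.length = r := by simpa using hl
      have hmem : ∀ {l l' : List X.Modules}, List.Forall₂
          (fun a b => PicF.IsInvertible a ∧ PicF.IsInvertible b ∧ CurveEq k a b) l l' →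
          (∀ N ∈ l, PicF.IsInvertible N) ∧ ∀ N ∈ l', PicF.IsInvertible N := fun h => by
        induction h with
        | nil => simp
        | cons hab _ ih => simp only [List.mem_cons, forall_eq_or_imp]; exact ⟨⟨hab.1, ih.1⟩, hab.2.1, ih.2⟩
      cases h with
      | nil =>
        obtain rfl : r = 0 := by simpa using hlen.symm
        exact delta_one_eq k ha.1 ha.2.1 ha.2.2 hF hdim
      | @cons b b' t t' hb ht =>
        obtain ⟨ht₁, ht₂⟩ := hmem ht
        have step : ∀ {c : X.Modules} {s s' : List X.Modules}, PicF.IsInvertible c → s.length = r →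
            List.Forall₂ (fun a b => PicF.IsInvertible a ∧ PicF.IsInvertible b ∧ CurveEq k a b) s s' →
            delta k (c :: s) F = delta k (c :: s') F := fun hc hs hss =>
          delta_cons_eq_of k (hmem hss).1 (hmem hss).2 (ih _ _ hs hss) hc hF hdim
        have hlen' : t'.length = t.length := ht.length_eq.symm
        rw [step ha.1 hlen (.cons hb ht), delta_perm k (List.Perm.swap b' a t') F,
          step hb.2.1 (s := a :: t') (s' := a' :: t') (by simp [← hlen, hlen'])
            (.cons ha (List.forall₂_same.2 fun x hx => ⟨ht₂ x hx, ht₂ x hx, fun _ _ => rfl⟩))]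
        exact delta_perm k (List.Perm.swap a' b' t') F

/-- The closed subscheme at a point has the dimension of the closure. -/
theorem dim_ptIdeal_subscheme (y : X) :
    topologicalKrullDim (IntMult.ptIdeal y).subscheme = topologicalKrullDim (closure ({y} : Set X)) := by
  let i := (IntMult.ptIdeal y).subschemeι
  have h : Set.range i = closure ({y} : Set X) :=
    Groth.PropsBasic2.range_vanishingIdeal_subschemeι ⟨closure {y}, isClosed_closure⟩
  let e := i.isClosedEmbedding.toIsEmbedding.toHomeomorph
  rw [IsHomeomorph.topologicalKrullDim_eq _ e.isHomeomorph, h]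

omit [IsProper (X ↘ Spec (CommRingCat.of k))] in
/-- `χ(M ⊗ O_{\bar y})` is computed on the closed subscheme. -/
theorem euler_tensor_closureStructureSheaf (y : X) {M : X.Modules} (hM : PicF.IsInvertible M) :
    letI : (IntMult.ptIdeal y).subscheme.Over (Spec (CommRingCat.of k)) :=
      ⟨(IntMult.ptIdeal y).subschemeι ≫ (X ↘ Spec (CommRingCat.of k))⟩
    Curv2.euler k X (CohB1.tensorMod M (Cyc.closureStructureSheaf y)) =
      Curv2.euler k (IntMult.ptIdeal y).subscheme
        ((Scheme.Modules.pullback (IntMult.ptIdeal y).subschemeι).obj M) := by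
  letI : (IntMult.ptIdeal y).subscheme.Over (Spec (CommRingCat.of k)) :=
    ⟨(IntMult.ptIdeal y).subschemeι ≫ (X ↘ Spec (CommRingCat.of k))⟩
  refine Eq.trans (EulerDeg.euler_congr k (tensor_push (IntMult.ptIdeal y).subschemeι hM _).some)
    ((euler_push k _ rfl _).trans (EulerDeg.euler_congr k (SecTwist.unitorR _)))

end Groth.Inter
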