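import Groth.Agent.Inter.StalkQuot
import Groth.Agent.Inter.NumEquiv
import Groth.Agent.RefRank.Stalk
import Groth.Agent.EulerDeg.Supported
import Groth.Agent.SchemeMorphisms.AssAlg.LengthIneq
import Groth.Agent.KTheory.Devissage

/-!
# Intersection of Cartier divisors in a finite set

If `l` effective Cartier divisors meet `Supp F` in finitely many points, at which `F` has depth at
least `l.length`, then `Δ_l χ(F) = h⁰(F|_{∩ l})`.
-/

universe u

open CategoryTheory CategoryTheory.Limits AlgebraicGeometry TopologicalSpace Opposite MonoidalCategory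
open Groth.DerivedCoh.KFlat
open scoped Pointwise

namespace Groth.Inter

section Algebra

variable {R : Type u} [CommRing R] [IsLocalRing R] [IsNoetherianRing R] {M : Type u} [AddCommGroup M]
  [Module R M] [Module.Finite R M]

/-- An element cutting down the dimension below the depth is regular. -/
theorem isSMulRegular_of_supportDim_lt_depth {g : R} {n : ℕ}
    (hd : Module.supportDim R (QuotSMulTop g M) ≤ (n : ℕ))
    (hdep : ((n + 1 : ℕ) : ℕ∞) ≤ LocCoh.depth R M) : IsSMulRegular M g := by
  by_contra hne
  obtain ⟨p, hp, hgp⟩ : ∃ p ∈ associatedPrimes R M, g ∈ p := by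
    have hg : g ∈ ({r : R | IsSMulRegular M r}ᶜ : Set R) := hne
    rw [← biUnion_associatedPrimes_eq_compl_regular R M] at hg
    simpa using hg
  let P : PrimeSpectrum R := ⟨p, hp.isPrime⟩
  have hmem : P ∈ Module.support R (QuotSMulTop g M) := by
    rw [Module.support_quotSMulTop]
    refine ⟨?_, by simpa [P] using hgp⟩
    obtain ⟨-, m, hm⟩ := isAssociatedPrime_iff.1 hp
    exact Module.mem_support_iff_exists_annihilator.2 ⟨m, fun r hr => by
      change r ∈ p
      rw [hm, Submodule.mem_colon_singleton, Submodule.mem_bot]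
      exact (Submodule.mem_annihilator_span_singleton m r).1 hr⟩
  have hann : Module.annihilator R (QuotSMulTop g M) ≤ p :=
    Module.mem_support_iff_of_finite.1 hmem
  have h1 : ringKrullDim (R ⧸ p) ≤ Module.supportDim R (QuotSMulTop g M) := by
    rw [Module.supportDim_eq_ringKrullDim_quotient_annihilator]
    exact ringKrullDim_le_of_surjective (Ideal.Quotient.factor hann)
      (Ideal.Quotient.factor_surjective hann)
  have h2 := ((WithBot.coe_le_coe.2 hdep).trans (LocCohBase.depth_le_ringKrullDim_quotient hp)).trans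
    (h1.trans hd)
  exact absurd (Nat.cast_le.1 (WithBot.coe_le_coe.1 h2)) (by omega)

theorem depth_quotSMulTop_of_le {g : R} (hg : g ∈ IsLocalRing.maximalIdeal R)
    (hreg : IsSMulRegular M g) {n : ℕ}
    (hdep : ((n + 1 : ℕ) : ℕ∞) ≤ LocCoh.depth R M) :
    (n : ℕ∞) ≤ LocCoh.depth R (QuotSMulTop g M) := by
  cases subsingleton_or_nontrivial M with
  | inl h =>
    have : Subsingleton (QuotSMulTop g M) := (Submodule.mkQ_surjective _).subsingleton
    rw [LocCoh.depth, LocCohBase.idealDepth_eq_top_of_smul_top_eq_top (Subsingleton.elim _ _)]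
    exact le_top
  | inr h =>
    rw [LocCoh.depth, ← LocCohBase.idealDepth_quotSMulTop_add_one _ M
      (LocCohBase.smul_maximalIdeal_ne_top M (IsLocalRing.maximalIdeal.isMaximal R).ne_top) hg hreg,
      Nat.cast_succ] at hdep
    exact (ENat.add_le_add_iff_right (by simp)).1 hdep

end Algebra

variable {X : Scheme.{u}}

/-- The common zero scheme of a list of ideals. -/
noncomputable def sumIdeal (l : List X.IdealSheafData) : X.IdealSheafData := l.foldr (· ⊔ ·) ⊥

lemma exists_stalkIdeal_eq_span {D : X.IdealSheafData} (hD : BlowUp.IsEffCartierIdeal D) (x : X) :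
    ∃ a, stalkIdeal D x = Ideal.span {a} := by
  obtain ⟨W, hxW, g, -, hg⟩ := hD x
  exact ⟨_, by rw [stalkIdeal_eq_map D W hxW, hg, Ideal.map_span, Set.image_singleton]⟩

/-- The stalk of the restriction to a divisor. -/
noncomputable def stalkQuotSMulTopEquiv (F : X.Modules) {D : X.IdealSheafData} {x : X}
    {a : X.presheaf.stalk x} (ha : stalkIdeal D x = Ideal.span {a}) :
    (CohB1.tensorMod F (ClSub.quotMod D)).presheaf.stalk x ≃ₗ[X.presheaf.stalk x]
      QuotSMulTop a (F.presheaf.stalk x) :=
  stalkQuotEquiv F D x ≪≫ₗ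
    Submodule.quotEquivOfEq _ _ (by rw [ha, Submodule.ideal_span_singleton_smul])

/-- Restricting twice. -/
noncomputable def stalkQuotQuotEquiv (F : X.Modules) (D J : X.IdealSheafData) (x : X) :
    (CohB1.tensorMod (CohB1.tensorMod F (ClSub.quotMod D)) (ClSub.quotMod J)).presheaf.stalk x
      ≃ₗ[X.presheaf.stalk x]
      (CohB1.tensorMod F (ClSub.quotMod (D ⊔ J))).presheaf.stalk x := by
  let M := F.presheaf.stalk x
  let A : Submodule (X.presheaf.stalk x) M := stalkIdeal D x • ⊤
  let B : Submodule (X.presheaf.stalk x) M := stalkIdeal J x • ⊤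
  refine stalkQuotEquiv _ J x ≪≫ₗ ?_ ≪≫ₗ (stalkQuotEquiv F (D ⊔ J) x).symm
  refine Submodule.Quotient.equiv _ ((A ⊔ B).map A.mkQ) (stalkQuotEquiv F D x) ?_ ≪≫ₗ
    Submodule.quotientQuotientEquivQuotient A (A ⊔ B) le_sup_left ≪≫ₗ
    Submodule.quotEquivOfEq _ _ ?_
  · rw [Submodule.map_smul'', Submodule.map_top, LinearEquiv.range, Submodule.map_sup,
      Submodule.mkQ_map_self, bot_sup_eq, Submodule.map_smul'', Submodule.map_top,
      Submodule.range_mkQ]
  · rw [stalkIdeal_sup, Submodule.sup_smul]

variable (k : Type u) [Field k] [X.Over (Spec (CommRingCat.of k))]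
  [IsProper (X ↘ Spec (CommRingCat.of k))]

include k in
lemma isClosed_singleton_of_finite {S : Set X} (hS : IsClosed S) (hfin : S.Finite) :
    ∀ x ∈ S, IsClosed ({x} : Set X) := by
  intro x hx
  have : JacobsonSpace X := LocallyOfFiniteType.jacobsonSpace (X ↘ Spec (CommRingCat.of k))
  have hT : IsClosed (S ∩ closedPoints X) := by
    rw [← Set.biUnion_of_singleton (S ∩ closedPoints X)]
    exact (hfin.inter_of_left _).isClosed_biUnion fun y hy => hy.2
  have := closure_inter_closedPoints hS
  rw [hT.closure_eq] at this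
  exact (this.ge hx).2

/-- Modules with finite supports and isomorphic stalks have the same Euler characteristic. -/
theorem euler_eq_of_stalk_equiv {A B : X.Modules} (hA : Coh.IsCoh A)
    (hfin : (CohB1.support A).Finite)
    (e : ∀ x, A.presheaf.stalk x ≃ₗ[X.presheaf.stalk x] B.presheaf.stalk x) :
    Curv2.euler k X A = Curv2.euler k X B := by
  have := isNoetherian k (X := X)
  have hpts := isClosed_singleton_of_finite k (CohTwo.isClosed_support A hA) hfin
  have hs : CohB1.support B = CohB1.support A := by
    ext x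
    exact (e x).symm.toEquiv.subsingleton_congr.not
  have hptsB : EulerDeg.SupportedAtClosed B := fun x hx => hpts x (hs.subset hx)
  rw [EulerDeg.euler_eq_h0 k (M := A) hpts, EulerDeg.euler_eq_h0 k (M := B) hptsB]
  congr 1
  let S := hfin.toFinset
  have hptsS : ∀ x ∈ S, IsClosed ({x} : Set X) := fun x hx => hpts x (hfin.mem_toFinset.1 hx)
  have hA' : ∀ x ∉ S, Subsingleton (A.presheaf.stalk x) := fun x hx =>
    not_not.1 fun h => hx (hfin.mem_toFinset.2 h)
  let eA := DegMono.hhEquivPi k A S hptsS hA'
  let eB := DegMono.hhEquivPi k B S hptsS fun x hx =>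
    (e x).symm.toEquiv.subsingleton_congr.2 (hA' x hx)
  let := fun x : X => DegMono.stalkModule k A x
  let := fun x : X => DegMono.stalkModule k B x
  let ek : ∀ x : X, A.presheaf.stalk x ≃ₗ[k] B.presheaf.stalk x := fun x =>
    { (e x) with map_smul' := fun c v => (e x).map_smul (DegMono.kres k x c) v }
  exact (eA ≪≫ₗ LinearEquiv.piCongrRight (fun x : S => ek x) ≪≫ₗ eB.symm).finrank_eq

/-- `(F ⊗ O_D)` differs from the difference along `D` by a module supported where the equation of
`D` is a zero divisor. -/
theorem exists_delta_idealMod_cons {F : X.Modules} (hF : Coh.IsCoh F) {D : X.IdealSheafData}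
    (hD : BlowUp.IsEffCartierIdeal D) :
    ∃ T : X.Modules, Coh.IsCoh T ∧
      (∀ x, (∀ a, stalkIdeal D x = Ideal.span {a} → IsSMulRegular (F.presheaf.stalk x) a) →
        x ∉ CohB1.support T) ∧
      ∀ l : List X.Modules, (∀ M ∈ l, PicF.IsInvertible M) →
        delta k (ClSub.idealMod D :: l) F =
          delta k l (CohB1.tensorMod F (ClSub.quotMod D)) - delta k l T := by
  have := isNoetherian k (X := X)
  let S₀ := ShortComplex.mk (ClSub.idealModι D) (ClSub.toSubscheme D)
    (kernel.condition (ClSub.toSubscheme D))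
  let S := S₀.map ((DCoh.tensorBi (X := X)).obj F)
  have h₁ : Coh.IsCoh S.X₁ :=
    QCohMod.isCoh_of_iso (tensor_comm _ F).some (isCoh_twist (PicAux.isInvertible_idealMod hD) hF)
  have h₂ : Coh.IsCoh S.X₂ := QCohMod.isCoh_of_iso (SecTwist.unitorR F).symm hF
  have h₃ : Coh.IsCoh S.X₃ := isCoh_tensor_quotMod hF D
  have hS₀ := PicAux.shortExact_idealMod D
  have hepi : Epi S.g := by
    have : Epi S₀.g := hS₀.epi_g
    exact inferInstanceAs (Epi (((DCoh.tensorBi (X := X)).obj F).map S₀.g))
  have hex : S.Exact := (hS₀.exact.map_of_epi_of_preservesCokernel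
    ((DCoh.tensorBi (X := X)).obj F) hS₀.epi_g inferInstance)
  have := h₁.1
  have := h₂.1
  have := h₃.1
  let q : S.X₁ ⟶ kernel S.g := kernel.lift S.g S.f S.zero
  have hq : Epi q := (ShortComplex.exact_iff_epi_kernel_lift S).1 hex
  have hK : Coh.IsCoh (kernel S.g) := QCohMod.isCoh_kernel S.g h₂ (N := S.X₃)
  have := hK.1
  let T := kernel q
  have hT : Coh.IsCoh T := QCohMod.isCoh_kernel q h₁
  refine ⟨T, hT, fun x hreg hx => hx ?_, fun l hl => ?_⟩
  · -- the stalk of the kernel
    have hι : Function.Injective ((stk x).map (kernel.ι q)).hom :=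
      (ModuleCat.mono_iff_injective _).1 inferInstance
    have hS₁ : (S₀.map (stk x)).ShortExact := (shortExact_iff_stk S₀).1 hS₀ x
    obtain ⟨W, hxW, -, k₀, hgen, -, hW⟩ := PicAux.exists_gen_idealMod hD x ⊤ trivial
    let ε : (ClSub.idealMod D).presheaf.stalk x := (ClSub.idealMod D).presheaf.germ W.1 x hxW k₀
    let g : X.presheaf.stalk x := X.presheaf.germ W.1 x hxW (OmegaSh.idealSect D W.1 k₀)
    have hreg' := hreg g (by
      rw [stalkIdeal_eq_map D W hxW, hW, Ideal.map_span, Set.image_singleton])
    have hinj : Function.Injective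
        (((S₀.map (stk x)).f).hom.lTensor ((stk x).obj F)) :=
      injective_lTensor_idealModι (k₀ := k₀) hgen fun m hm => hreg'.right_eq_zero_of_smul hm
    have hf : Function.Injective ((stk x).map S.f).hom := by
      change Function.Injective (((DCoh.tensorBi (X := X)).obj F ⋙ stk x).map S₀.f).hom
      rw [← NatIso.naturality_2 (tensorStkIso F x) S₀.f, ModuleCat.hom_comp, ModuleCat.hom_comp,
        LinearMap.coe_comp, LinearMap.coe_comp]
      exact (((tensorStkIso F x).app S₀.X₂).symm.toLinearEquiv.injective.comp hinj).comp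
        ((tensorStkIso F x).app S₀.X₁).toLinearEquiv.injective
    refine subsingleton_of_forall_eq (α := (stk x).obj T) 0 fun t => hι (hf ?_)
    have h0 : kernel.ι q ≫ S.f = 0 := by
      rw [← kernel.lift_ι S.g S.f S.zero, kernel.condition_assoc, zero_comp]
    rw [map_zero, map_zero]
    exact congr(($(congrArg ((stk x).map) h0 |>.trans ((stk x).map_zero _ _)) |>.hom)
      t) |> fun e => by simpa using e
  · have e₁ := delta_add k hl (S := ShortComplex.mk (kernel.ι q) q (kernel.condition q))
      { exact := ShortComplex.exact_of_f_is_kernel _ (kernelIsKernel q) } hT hK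
    have e₂ := delta_add k hl (S := ShortComplex.mk (kernel.ι S.g) S.g (kernel.condition S.g))
      { exact := ShortComplex.exact_of_f_is_kernel _ (kernelIsKernel S.g) } hK h₃
    change delta k l (CohB1.tensorMod F (Coh.structureModule X)) = _ at e₂
    change delta k l (CohB1.tensorMod F (ClSub.idealMod D)) = _ at e₁
    rw [delta_congr k l ⟨SecTwist.unitorR F⟩] at e₂
    rw [delta_congr k l (tensor_comm F (ClSub.idealMod D))] at e₁
    simp only at e₁ e₂
    rw [delta_cons, e₁, e₂]
    change _ = delta k l S.X₃ - _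
    ring

lemma mem_support_sumIdeal_cons (D : X.IdealSheafData) (l : List X.IdealSheafData) :
    ((sumIdeal (D :: l)).support : Set X) = (D.support : Set X) ∩ (sumIdeal l).support := by
  ext x
  simp only [Set.mem_inter_iff, SetLike.mem_coe, ← stalkIdeal_ne_top_iff]
  change stalkIdeal (D ⊔ sumIdeal l) x ≠ ⊤ ↔ _
  rw [stalkIdeal_sup]
  exact ⟨fun h => ⟨fun h' => h (by rw [h', top_sup_eq]), fun h' => h (by rw [h', sup_top_eq])⟩,
    fun h h' => (IsLocalRing.maximalIdeal.isMaximal _).ne_top
      (top_le_iff.1 (h'.ge.trans (sup_le (IsLocalRing.le_maximalIdeal h.1)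
        (IsLocalRing.le_maximalIdeal h.2))))⟩

include k in
/-- Modules meeting `l` divisors in finitely many points have dimension `≤ l.length` there. -/
theorem supportDim_stalk_le : ∀ (l : List X.IdealSheafData),
    (∀ D ∈ l, BlowUp.IsEffCartierIdeal D) → ∀ F : X.Modules, Coh.IsCoh F →
      (CohB1.support F ∩ ((sumIdeal l).support : Set X)).Finite →
      ∀ x ∈ CohB1.support F ∩ ((sumIdeal l).support : Set X),
        Module.supportDim (X.presheaf.stalk x) (F.presheaf.stalk x) ≤ (l.length : ℕ) := by
  have := isNoetherian k (X := X)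
  intro l
  induction l with
  | nil =>
    intro _ F hF hfin x hx
    have := hF.1
    have := QCohMod.finite_stalk F hF.2 x
    have hsupp : ((sumIdeal ([] : List X.IdealSheafData)).support : Set X) = Set.univ := by
      simp [sumIdeal]
    rw [hsupp, Set.inter_univ] at hfin hx
    have hpts := isClosed_singleton_of_finite k (CohTwo.isClosed_support F hF) hfin
    refine (AssAlgAux.supportDim_le_zero_of_isFiniteLength
      (Module.length_ne_top_iff.1 (KTheory.Devissage.length_stalk_ne_top hF x fun z hz hzx => ?_))).trans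
      (by simp)
    exact ((hpts z hz).closure_eq.subset hzx.mem_closure).symm
  | cons D l ih =>
    intro hl F hF hfin x hx
    have := hF.1
    have := QCohMod.finite_stalk F hF.2 x
    obtain ⟨a, ha⟩ := exists_stalkIdeal_eq_span (hl D (by simp)) x
    have hF' := isCoh_tensor_quotMod hF D
    have hset : CohB1.support (CohB1.tensorMod F (ClSub.quotMod D)) ∩ (sumIdeal l).support =
        CohB1.support F ∩ ((sumIdeal (D :: l)).support : Set X) := by
      rw [support_tensor_quotMod hF D, mem_support_sumIdeal_cons, Set.inter_assoc]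
    have h := ih (fun D' hD' => hl D' (by simp [hD'])) _ hF' (hset ▸ hfin) x (hset ▸ hx)
    rw [Module.supportDim_eq_of_equiv (stalkQuotSMulTopEquiv F ha)] at h
    have hxD : x ∈ D.support := (mem_support_sumIdeal_cons D l ▸ hx.2).1
    have ham : a ∈ IsLocalRing.maximalIdeal (X.presheaf.stalk x) :=
      IsLocalRing.le_maximalIdeal ((stalkIdeal_ne_top_iff D x).2 hxD)
        (ha ▸ Ideal.mem_span_singleton_self a)
    refine (Module.supportDim_le_supportDim_quotSMulTop_succ ham).trans ?_
    push_cast [List.length_cons]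
    gcongr

/-- Effective Cartier divisors meeting a module properly in finitely many points. -/
theorem delta_idealMods_eq_euler : ∀ (l : List X.IdealSheafData),
    (∀ D ∈ l, BlowUp.IsEffCartierIdeal D) → ∀ F : X.Modules, Coh.IsCoh F →
      (CohB1.support F ∩ ((sumIdeal l).support : Set X)).Finite →
      (∀ x ∈ CohB1.support F ∩ ((sumIdeal l).support : Set X),
        (l.length : ℕ∞) ≤ LocCoh.depth (X.presheaf.stalk x) (F.presheaf.stalk x)) →
      delta k (l.map ClSub.idealMod) F =
        Curv2.euler k X (CohB1.tensorMod F (ClSub.quotMod (sumIdeal l))) := by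
  have := isNoetherian k (X := X)
  intro l
  induction l with
  | nil =>
    intro _ F hF hfin _
    have hsupp : ((sumIdeal ([] : List X.IdealSheafData)).support : Set X) = Set.univ := by
      simp [sumIdeal]
    rw [hsupp, Set.inter_univ] at hfin
    refine euler_eq_of_stalk_equiv k hF hfin fun x => LinearEquiv.symm ?_
    exact stalkQuotEquiv F ⊥ x ≪≫ₗ Submodule.quotEquivOfEqBot _ (by simp [stalkIdeal_bot])
  | cons D l ih =>
    intro hl F hF hfin hdep
    have hD : BlowUp.IsEffCartierIdeal D := hl D (by simp)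
    have hl' : ∀ D' ∈ l, BlowUp.IsEffCartierIdeal D' := fun D' hD' => hl D' (by simp [hD'])
    obtain ⟨T, hT, hTsupp, hdelta⟩ := exists_delta_idealMod_cons k hF hD
    rw [List.map_cons, hdelta _ (by
      simp only [List.mem_map, forall_exists_index, and_imp, forall_apply_eq_imp_iff₂]
      exact fun D' hD' => PicAux.isInvertible_idealMod (hl' D' hD'))]
    have hFD := isCoh_tensor_quotMod hF D
    have hset : CohB1.support (CohB1.tensorMod F (ClSub.quotMod D)) ∩ (sumIdeal l).support =
        CohB1.support F ∩ ((sumIdeal (D :: l)).support : Set X) := by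
      rw [support_tensor_quotMod hF D, mem_support_sumIdeal_cons, Set.inter_assoc]
    have hgood : ∀ x ∈ CohB1.support F ∩ ((sumIdeal (D :: l)).support : Set X), ∀ a,
        stalkIdeal D x = Ideal.span {a} → IsSMulRegular (F.presheaf.stalk x) a := by
      intro x hx a ha
      have := hF.1
      have := QCohMod.finite_stalk F hF.2 x
      refine isSMulRegular_of_supportDim_lt_depth ?_ (hdep x hx)
      have h := supportDim_stalk_le k l hl' _ hFD (hset ▸ hfin) x (hset ▸ hx)
      rwa [Module.supportDim_eq_of_equiv (stalkQuotSMulTopEquiv F ha)] at h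
    have hTempty : CohB1.support T ∩ ((sumIdeal l).support : Set X) = ∅ := by
      refine Set.eq_empty_iff_forall_notMem.2 fun x hx => hTsupp x (fun a ha => ?_) hx.1
      by_cases hxD : x ∈ (D.support : Set X)
      · by_cases hxF : x ∈ CohB1.support F
        · exact hgood x ⟨hxF, mem_support_sumIdeal_cons D l ▸ ⟨hxD, hx.2⟩⟩ a ha
        · have : Subsingleton (F.presheaf.stalk x) := not_not.1 hxF
          exact fun y z _ => Subsingleton.elim y z
      · have : stalkIdeal D x = ⊤ := not_not.1 fun h => hxD ((stalkIdeal_ne_top_iff D x).1 h)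
        exact (Ideal.span_singleton_eq_top.1 (ha.symm.trans this)).isSMulRegular _
    have hTfin : (CohB1.support T ∩ ((sumIdeal l).support : Set X)).Finite := by simp [hTempty]
    rw [ih hl' _ hFD (hset ▸ hfin) ?_, ih hl' _ hT hTfin (by simp [hTempty]),
      euler_eq_zero_of_support k (F := CohB1.tensorMod T _) (by
        rw [support_tensor_quotMod hT, hTempty]), sub_zero]
    · refine euler_eq_of_stalk_equiv k (isCoh_tensor_quotMod hFD _) ?_
        fun x => stalkQuotQuotEquiv F D (sumIdeal l) x
      rwa [support_tensor_quotMod hFD, hset]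
    · intro x hx
      rw [hset] at hx
      have := hF.1
      have := QCohMod.finite_stalk F hF.2 x
      obtain ⟨a, ha⟩ := exists_stalkIdeal_eq_span hD x
      have hxD : x ∈ D.support := (mem_support_sumIdeal_cons D l ▸ hx.2).1
      have ham : a ∈ IsLocalRing.maximalIdeal (X.presheaf.stalk x) :=
        IsLocalRing.le_maximalIdeal ((stalkIdeal_ne_top_iff D x).2 hxD)
          (ha ▸ Ideal.mem_span_singleton_self a)
      rw [LocCoh.depth, LocCohBase.idealDepth_congr (stalkQuotSMulTopEquiv F ha)]
      exact depth_quotSMulTop_of_le ham (hgood x hx a ha) (hdep x hx)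

omit [X.Over (Spec (CommRingCat.of k))] [IsProper (X ↘ Spec (CommRingCat.of k))] in
lemma sumIdeal_ofFn {r : ℕ} (I : Fin r → X.IdealSheafData) : sumIdeal (List.ofFn I) = ⨆ j, I j := by
  induction r with
  | zero => exact le_antisymm bot_le (iSup_le fun j => j.elim0)
  | succ r ih =>
    rw [List.ofFn_succ]
    change I 0 ⊔ sumIdeal (List.ofFn fun i => I i.succ) = _
    rw [ih]
    exact le_antisymm (sup_le (le_iSup I 0) (iSup_le fun i => le_iSup I i.succ))
      (iSup_le fun j => Fin.cases le_sup_left (fun i => le_sup_of_le_right (le_iSup (fun i : Fin r => I i.succ) i)) j)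

/-- `intNum` of effective Cartier divisors meeting a module properly in finitely many points. -/
theorem intNum_idealMods_eq_finrank {d : ℕ} (hd : topologicalKrullDim X ≤ d) {r : ℕ}
    (I : Fin r → X.IdealSheafData) (hI : ∀ j, FGA.IsEffCartier (I j)) {F : X.Modules} (hF : Coh.IsCoh F)
    (hfin : ((⨆ j, I j).support ∩ CohB1.support F : Set X).Finite)
    (hdep : ∀ x ∈ ((⨆ j, I j).support ∩ CohB1.support F : Set X),
      (r : ℕ∞) ≤ LocCoh.depth (X.presheaf.stalk x) (F.presheaf.stalk x)) :
    FGA.intNum k X d (fun j => ClSub.idealMod (I j)) F =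
      Module.finrank k (Coh.HH X (CohB1.tensorMod F (ClSub.quotMod (⨆ j, I j))) 0) := by
  have := isNoetherian k (X := X)
  rw [intNum_eq k hd, ← Function.comp_def, ← List.map_ofFn,
    delta_idealMods_eq_euler k (List.ofFn I) (fun D hD => by obtain ⟨j, rfl⟩ := List.mem_ofFn.1 hD; exact hI j) F hF
      (by rw [sumIdeal_ofFn, Set.inter_comm]; exact hfin)
      (by rw [sumIdeal_ofFn, Set.inter_comm, List.length_ofFn]; exact hdep), sumIdeal_ofFn]
  have hfin' : (CohB1.support (CohB1.tensorMod F (ClSub.quotMod (⨆ j, I j)))).Finite := by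
    rwa [support_tensor_quotMod hF, Set.inter_comm]
  exact EulerDeg.euler_eq_h0 k (isClosed_singleton_of_finite k
    (CohTwo.isClosed_support _ (isCoh_tensor_quotMod hF _)) hfin')

include k in
/-- Closed points of a scheme of pure dimension `n` have local rings of dimension at least `n`. -/
theorem le_ringKrullDim_stalk {n : ℕ}
   
    (hdim : ∀ Z ∈ irreducibleComponents (X : Type u), topologicalKrullDim Z = (n : ℕ)) {x : X}
    (hx : IsClosed ({x} : Set X)) :
    ((n : ℕ) : WithBot ℕ∞) ≤ ringKrullDim (X.presheaf.stalk x) := by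
  obtain ⟨Z, hZ, hxZ⟩ : ∃ Z ∈ irreducibleComponents (X : Type u), x ∈ Z :=
    ⟨irreducibleComponent x, irreducibleComponent_mem_irreducibleComponents x,
      mem_irreducibleComponent⟩
  obtain ⟨η, hη⟩ := QuasiSober.sober hZ.1 (isClosed_of_mem_irreducibleComponents Z hZ)
  let ι := (IntMult.ptIdeal η).subschemeι
  have hint : IsIntegral (IntMult.ptIdeal η).subscheme :=
    CohTwo.isIntegral_closure_subscheme (ξ := η) rfl
  have hr : Set.range ι = closure ({η} : Set X) :=
    Groth.PropsBasic2.range_vanishingIdeal_subschemeι ⟨closure {η}, isClosed_closure⟩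
  obtain ⟨z, rfl⟩ : x ∈ Set.range ι := by
    rw [hr]
    exact hη.def.ge hxZ
  have hz : IsClosed ({z} : Set (IntMult.ptIdeal η).subscheme) := by
    rw [← ι.isClosedEmbedding.injective.preimage_image {z}, Set.image_singleton]
    exact hx.preimage ι.continuous
  have h0 : Order.height z = 0 := by
    have h1 := Variety2.Dim.dim_closure_singleton z
    rw [hz.closure_eq] at h1
    exact le_antisymm (WithBot.coe_le_coe.1 (h1.ge.trans (topologicalKrullDim_zero_of_discreteTopology _))) bot_le
  have hd := Variety2.Dim.ringKrullDim_stalk_add_height (ι ≫ (X ↘ Spec (CommRingCat.of k))) z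
  rw [h0, dim_ptIdeal_subscheme η, hη.def, hdim Z hZ] at hd
  rw [← hd]
  simpa using ringKrullDim_le_of_surjective (ι.stalkMap z).hom (ι.stalkMap_surjective z)

/-- Two divisors on a Cohen–Macaulay surface. -/
theorem intNum_pair_eq_finrank (hdim : ∀ Z ∈ irreducibleComponents (X : Type u), topologicalKrullDim Z = 2)
    (hd : topologicalKrullDim X ≤ (2 : ℕ))
    (hCM : ∀ x : X, LocCoh.IsCohenMacaulayLocalRing (X.presheaf.stalk x))
    (IC ID : X.IdealSheafData) (hC : FGA.IsEffCartier IC) (hD : FGA.IsEffCartier ID)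
    (hfin : ((IC ⊔ ID).support : Set X).Finite) :
    FGA.intNum k X 2 ![ClSub.idealMod IC, ClSub.idealMod ID] (Coh.structureModule X) =
      (Module.finrank k (Coh.HH X (ClSub.quotMod (IC ⊔ ID)) 0) : ℤ) := by
  have := isNoetherian k (X := X)
  have hsup : (⨆ j, ![IC, ID] j) = IC ⊔ ID := by
    rw [← sumIdeal_ofFn]; simp [sumIdeal, List.ofFn_succ]
  have h := intNum_idealMods_eq_finrank k hd ![IC, ID] (fun j => by fin_cases j <;> assumption)
    (F := Coh.structureModule X) QCohMod.isCoh_unit (by rw [hsup]; exact hfin.subset Set.inter_subset_left)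
    (fun x hx => ?_)
  · rw [hsup] at h
    rw [show ![ClSub.idealMod IC, ClSub.idealMod ID] = fun j => ClSub.idealMod (![IC, ID] j) by
      funext j; fin_cases j <;> rfl, h]
    rw [EulerDeg.finrank_congr (k := k) (tensor_one (ClSub.quotMod (IC ⊔ ID))).some 0]
  · rw [hsup] at hx
    have hc : IsClosed ({x} : Set X) :=
      isClosed_singleton_of_finite k (IC ⊔ ID).support.isClosed hfin x hx.1
    have := hCM x
    rw [LocCoh.depth, ← LocCohBase.idealDepth_congr (RefRank.oneEquiv x)]
    have h2 := le_ringKrullDim_stalk k (n := 2) (by simpa using hdim) hc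
    rw [← Module.supportDim_self_eq_ringKrullDim,
      LocCoh.IsCohenMacaulayLocalRing.supportDim_eq_depth] at h2
    exact WithBot.coe_le_coe.1 h2

end Groth.Inter
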