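import Groth.Agent.Inter.Length
import Groth.Agent.Inter.Push
import Groth.Agent.Inter.NumEquiv
import Groth.Agent.HilbStab.Degree
import Groth.Agent.EulerDeg.FiniteSupport

/-!
# Positivity of intersection numbers of ample modules
-/

universe u

open CategoryTheory CategoryTheory.Limits AlgebraicGeometry TopologicalSpace
open Groth.PropsBasic.Ample

namespace Groth.Inter

variable (k : Type u) [Field k] {X : Scheme.{u}} [X.Over (Spec (CommRingCat.of k))]
  [IsProper (X ↘ Spec (CommRingCat.of k))]

/-- A tensor inverse of an ample module. -/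
def IsAmpleInv (M : X.Modules) : Prop :=
  ∃ L : X.Modules, CohB1.IsAmple L ∧ ClSub.IsInverseOf L M

omit [X.Over (Spec (CommRingCat.of k))] [IsProper (X ↘ Spec (CommRingCat.of k))] in
lemma IsAmpleInv.isInvertible {M : X.Modules} (h : IsAmpleInv M) : PicF.IsInvertible M :=
  PicAux.isInvertible_of_isInverseOf h.choose_spec.1.1 h.choose_spec.2

/-- The Euler characteristic of a closed point is positive. -/
theorem euler_point_pos (y : X) (h0 : topologicalKrullDim (closure ({y} : Set X)) ≤ (0 : ℕ)) :
    0 < Curv2.euler k X (Cyc.closureStructureSheaf y) := by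
  have := isNoetherian k (X := X)
  let Z := (IntMult.ptIdeal y).subscheme
  let ι := (IntMult.ptIdeal y).subschemeι
  letI : Z.Over (Spec (CommRingCat.of k)) := ⟨ι ≫ (X ↘ Spec (CommRingCat.of k))⟩
  haveI : IsProper (Z ↘ Spec (CommRingCat.of k)) :=
    inferInstanceAs (IsProper (ι ≫ (X ↘ Spec (CommRingCat.of k))))
  have hdZ : topologicalKrullDim Z ≤ ((0 : ℕ) : WithBot ℕ∞) :=
    (dim_ptIdeal_subscheme y).trans_le h0
  have hint : IsIntegral Z := CohTwo.isIntegral_closure_subscheme (ξ := y) rfl
  rw [Cyc.closureStructureSheaf, euler_push k ι rfl, ← eulerCharLE_eq k hdZ, FGA.eulerCharLE,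
    Finset.sum_range_one, pow_zero, one_mul]
  have := isNoetherian k (X := Z)
  have hfin : Module.Finite k (Coh.HH Z (Coh.structureModule Z) 0) :=
    (finCoh k QCohMod.isCoh_unit).finite 0
  have hnt : Nontrivial Γ(Coh.structureModule Z, (⊤ : Z.Opens)) :=
    inferInstanceAs (Nontrivial Γ(Z, ⊤))
  have : Nontrivial (Coh.HH Z (Coh.structureModule Z) 0) :=
    (EulerDeg.h0Equiv k (Coh.structureModule Z)).toEquiv.nontrivial
  exact_mod_cast Module.finrank_pos (R := k) (M := Coh.HH Z (Coh.structureModule Z) 0)

/-- Powers in a critical dimension. -/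
theorem delta_pow_cons {M : X.Modules} (hM : PicF.IsInvertible M) {l : List X.Modules}
    (hl : ∀ N ∈ l, PicF.IsInvertible N) {F : X.Modules} (hF : Coh.IsCoh F)
    (hdim : topologicalKrullDim (CohB1.support F) ≤ (l.length + 1 : ℕ)) :
    ∀ n : ℕ, delta k (CohB1.tensorPow M n :: l) F = n * delta k (M :: l) F := by
  intro n
  induction n with
  | zero =>
    rw [Nat.cast_zero, zero_mul, delta_cons, sub_eq_zero]
    exact delta_congr k l ⟨(tensor_one F).some.symm⟩
  | succ n ih =>
    change delta k (CohB1.tensorMod (CohB1.tensorPow M n) M :: l) F = _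
    rw [delta_tensor k (PicAux.isInvertible_tensorPow hM n) hM hl hF hdim, ih]
    push_cast
    ring

omit [IsProper (X ↘ Spec (CommRingCat.of k))] in
/-- A closed set of dimension `r` contains a point whose closure has dimension `r`. -/
theorem exists_dim_closure_eq {S : Set X} (hS : IsClosed S) {r : ℕ}
    (hr : topologicalKrullDim S = (r : ℕ)) :
    ∃ ξ ∈ S, topologicalKrullDim (closure ({ξ} : Set X)) = (r : ℕ) := by
  have key : ∃ ξ, HilbStab.ChainAt S ξ r := by
    cases r with
    | zero =>
      by_contra hne
      push Not at hne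
      have : S = ∅ := Set.eq_empty_iff_forall_notMem.2 hne
      subst this
      have : IsEmpty (IrreducibleCloseds (∅ : Set X)) :=
        ⟨fun T => T.isIrreducible.nonempty.elim fun z _ => z.2⟩
      rw [topologicalKrullDim, Order.krullDim_eq_bot] at hr
      exact absurd hr (by simp)
    | succ n =>
      by_contra hne
      push Not at hne
      have := HilbStab.topologicalKrullDim_le_of_not_chainAt hS hne
      rw [hr] at this
      exact absurd this (not_le.2 (lt_natCast_succ_iff.2 le_rfl))
  obtain ⟨ξ, hξ⟩ := key
  refine ⟨ξ, hξ.mem, le_antisymm ?_ ?_⟩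
  · exact (LocCohTransform.topologicalKrullDim_mono
      (closure_minimal (Set.singleton_subset_iff.2 hξ.mem) hS)).trans hr.le
  · exact HilbStab.le_topologicalKrullDim_of_chainAt isClosed_closure
      (hξ.mono fun z hz _ => hz.mem_closure)

omit [IsProper (X ↘ Spec (CommRingCat.of k))] in
lemma support_twist_eq {L : X.Modules} (hL : PicF.IsInvertible L) (F : X.Modules) :
    CohB1.support (CohB1.tensorMod L F) = CohB1.support F := by
  refine Set.Subset.antisymm (support_twist_subset L F) fun x hx h => hx ?_
  obtain ⟨e⟩ := exists_stalk_equiv_twist hL F x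
  exact @Equiv.subsingleton _ _ e.toEquiv h

/-- Intersection numbers of ample modules with a module of that dimension are positive. -/
theorem delta_pos : ∀ (l : List X.Modules), (∀ M ∈ l, IsAmpleInv M) →
    ∀ F : X.Modules, Coh.IsCoh F → topologicalKrullDim (CohB1.support F) = (l.length : ℕ) →
      0 < delta k l F := by
  classical
  have hN : IsNoetherian X := isNoetherian k
  intro l
  induction l with
  | nil =>
    intro _ F hF hdim
    have hcl := CohTwo.isClosed_support F hF
    have hmem : ∀ x, x ∈ CohB1.support F →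
        topologicalKrullDim (closure ({x} : Set X)) ≤ (0 : ℕ) := fun x hx =>
      (LocCohTransform.topologicalKrullDim_mono
        (closure_minimal (Set.singleton_subset_iff.2 hx) hcl)).trans hdim.le
    have hfin : (CohB1.support F).Finite := (DivisorLength.finite_maximal_points hcl).subset
      fun x hx => ⟨hx, fun w hw hwx => (eq_of_dim_closure hwx.mem_closure (hmem w hw)
        (HilbStab.le_topologicalKrullDim_of_chainAt isClosed_closure
          (show HilbStab.ChainAt _ x 0 from subset_closure rfl))).symm⟩
    obtain ⟨ξ₀, hξ₀, hξ₀d⟩ := exists_dim_closure_eq hcl hdim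
    rw [delta_eq_sum_length k (l := []) (by simp) hF hdim.le hfin.toFinset fun x =>
      ⟨fun hx => ⟨hfin.mem_toFinset.1 hx, le_antisymm (hmem x (hfin.mem_toFinset.1 hx))
        (HilbStab.le_topologicalKrullDim_of_chainAt isClosed_closure
          (show HilbStab.ChainAt _ x 0 from subset_closure rfl))⟩,
        fun hx => hfin.mem_toFinset.2 hx.1⟩]
    refine Finset.sum_pos (fun x hx => mul_pos ?_ (euler_point_pos k x (hmem x (hfin.mem_toFinset.1 hx))))
      ⟨ξ₀, hfin.mem_toFinset.2 hξ₀⟩
    have hx' := hfin.mem_toFinset.1 hx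
    rw [Int.natCast_pos, Nat.pos_iff_ne_zero, ne_eq, ENat.toNat_eq_zero, not_or]
    refine ⟨fun h => hx' (Module.length_eq_zero_iff.1 h),
      KTheory.Devissage.length_stalk_ne_top hF x fun z hz hzx => (eq_of_dim_closure hzx.mem_closure
        (hmem z hz) (HilbStab.le_topologicalKrullDim_of_chainAt isClosed_closure
          (show HilbStab.ChainAt _ x 0 from subset_closure rfl))).symm⟩
  | cons M l ih =>
    intro hl F hF hdim
    obtain ⟨L, hL, hLM⟩ := hl M (by simp)
    have hM : PicF.IsInvertible M := (hl M (by simp)).isInvertible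
    have hl' : ∀ N ∈ l, IsAmpleInv N := fun N hN => hl N (by simp [hN])
    have hli : ∀ N ∈ l, PicF.IsInvertible N := fun N hN => (hl' N hN).isInvertible
    have hMli : ∀ N ∈ M :: l, PicF.IsInvertible N := fun N hN => (hl N hN).isInvertible
    have hcl := CohTwo.isClosed_support F hF
    -- the integral case
    have key : ∀ ξ : X, topologicalKrullDim (closure ({ξ} : Set X)) = (l.length + 1 : ℕ) →
        0 < delta k (M :: l) (Cyc.closureStructureSheaf ξ) := by
      intro ξ hξ
      have hO := KTheory.Devissage.isCoh_closureStructureSheaf ξ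
      have hOs := KTheory.Devissage.support_closureStructureSheaf_subset ξ
      have hξO : ξ ∈ CohB1.support (Cyc.closureStructureSheaf ξ) := fun h => by
        have h1 := KTheory.Devissage.length_closureStructureSheaf ξ
        rw [Module.length_eq_zero_iff.2 h] at h1
        exact zero_ne_one h1
      obtain ⟨N, t, hξt, -, -⟩ := exists_affine_gloc_finite hL {ξ} (Set.finite_singleton ξ) ⊤
        (fun _ _ => trivial)
      have := quasiSeparatedSpace_of_quasiSeparated (X ↘ Spec (CommRingCat.of k))
      obtain ⟨G, q, hq, hG, hsupp, hmono⟩ := HilbStab.exists_quotient_injective hO t inferInstance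
      have hξG : ξ ∈ CohB1.support G := hsupp ξ (hξt rfl) hξO
      have hGY : CohB1.support G ⊆ closure {ξ} :=
        (KTheory.Devissage.support_subset_of_epi q).trans hOs
      have hGeq : CohB1.support G = closure {ξ} := Set.Subset.antisymm hGY
        (closure_minimal (Set.singleton_subset_iff.2 hξG) (CohTwo.isClosed_support G hG))
      have := hO.1
      have := hG.1
      have hKc : Coh.IsCoh (kernel q) := QCohMod.isCoh_kernel q hO
      have hKs : ξ ∉ CohB1.support (kernel q) := fun hK => by
        have hS : (ShortComplex.mk (kernel.ι q) q (kernel.condition q)).ShortExact :=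
          { exact := ShortComplex.exact_of_f_is_kernel _ (kernelIsKernel q) }
        have h1 : Module.length _ _ = _ + _ := length_stalk_add hS ξ
        rw [KTheory.Devissage.length_closureStructureSheaf ξ] at h1
        have hK1 : 1 ≤ Module.length (X.presheaf.stalk ξ) ((kernel q).presheaf.stalk ξ) :=
          Order.one_le_iff_pos.2 (pos_iff_ne_zero.2 fun h => hK (Module.length_eq_zero_iff.1 h))
        have hG1 : 1 ≤ Module.length (X.presheaf.stalk ξ) (G.presheaf.stalk ξ) :=
          Order.one_le_iff_pos.2 (pos_iff_ne_zero.2 fun h => hξG (Module.length_eq_zero_iff.1 h))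
        exact absurd ((add_le_add hK1 hG1).trans h1.ge) (by decide)
      have hK0 : delta k (M :: l) (kernel q) = 0 := delta_eq_zero k _ hMli _ hKc <| by
        refine lt_of_lt_of_eq (LocCohTransform.topologicalKrullDim_lt_of_ssubset
          ((KTheory.Devissage.support_subset_of_mono (kernel.ι q)).trans hOs)
          (fun h => hKs (h (subset_closure rfl))) (CohTwo.isClosed_support _ hKc) isClosed_closure
          isIrreducible_singleton.closure ?_) (hξ.trans (by simp))
        exact hξ ▸ WithBot.coe_lt_coe.2 (ENat.natCast_lt_top _)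
      have hS : (ShortComplex.mk (kernel.ι q) q (kernel.condition q)).ShortExact :=
        { exact := ShortComplex.exact_of_f_is_kernel _ (kernelIsKernel q) }
      have hadd := delta_add k hMli hS hKc hG
      change delta k (M :: l) (Cyc.closureStructureSheaf ξ) = _ at hadd
      rw [hadd, hK0, zero_add]
      -- cut by the section
      let P := CohB1.tensorPow L (N + 1)
      let P' := CohB1.tensorPow M (N + 1)
      have hP : PicF.IsInvertible P := PicAux.isInvertible_tensorPow hL.1 _
      have hP' : PicF.IsInvertible P' := PicAux.isInvertible_tensorPow hM _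
      have hGP : Coh.IsCoh (CohB1.tensorMod G P) :=
        QCohMod.isCoh_of_iso (tensor_comm P G).some (isCoh_twist hP hG)
      have := hGP.1
      let Q := cokernel (HilbStab.mulSec t G)
      have hQ : Coh.IsCoh Q := QCohMod.isCoh_cokernel _ hGP
      have hG0 : ¬ IsZero G := fun h =>
        ((QCohMod.isZero_iff_support_eq_empty G).1 h).subset hξG
      obtain ⟨PG, hPG⟩ := HilbStab.exists_isHilbPoly k X hL hG
      obtain ⟨PC, hPC⟩ := HilbStab.exists_isHilbPoly k X hL hQ
      obtain ⟨PK, hPK⟩ := HilbStab.exists_isHilbPoly k X hL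
        (QCohMod.isCoh_kernel (HilbStab.mulSec t G) hG)
      have e := HilbStab.hilbPoly_four_term k hL (HilbStab.mulSec t G) hG hGP hPG
        (HilbStab.isHilbPoly_shift k hL hPG (N + 1)) hPK hPC
      rw [HilbStab.eq_zero_of_isZero k (isZero_kernel_of_mono _) hPK, sub_zero] at e
      have hdG := HilbStab.natDegree_eq_dim k hL hG hG0 hPG
      rw [hGeq, hξ] at hdG
      have hdG' : PG.natDegree = l.length + 1 := by exact_mod_cast hdG.symm
      have hPC0 : PC ≠ 0 := fun h => by
        rw [h, sub_eq_zero] at e
        have := HilbStab.natDegree_eq_zero_of_taylor_eq (by exact_mod_cast Nat.succ_ne_zero N) e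
        omega
      have hQ0 : ¬ IsZero Q := fun h => hPC0 (HilbStab.eq_zero_of_isZero k h hPC)
      have hdQ : topologicalKrullDim (CohB1.support Q) = (l.length : ℕ) := by
        rw [HilbStab.natDegree_eq_dim k hL hQ hQ0 hPC]
        have h1 := HilbStab.natDegree_lt_of_taylor_sub_ne_zero (e ▸ hPC0)
        have h2 := HilbStab.natDegree_le_of_taylor_sub
          (e := ((N + 1 : ℕ) : ℚ)) (by exact_mod_cast Nat.succ_ne_zero N) (d := PC.natDegree)
          (P := PG) (by rw [e])
        rw [e] at h1
        exact_mod_cast (show PC.natDegree = l.length by omega)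
      obtain ⟨S', hS', ⟨e₁⟩, ⟨e₂⟩, ⟨e₃⟩⟩ :=
        exists_shortExact_twist hP' (CohTwo.cokerSeq_shortExact (HilbStab.mulSec t G))
      have hadd2 := delta_add k hli hS'
        (QCohMod.isCoh_of_iso e₁.symm (isCoh_twist hP' hG))
        (QCohMod.isCoh_of_iso e₃.symm (isCoh_twist hP' hQ))
      rw [delta_congr k l ⟨e₁⟩, delta_congr k l ⟨e₂⟩, delta_congr k l ⟨e₃⟩] at hadd2
      have hinv : Nonempty (CohB1.tensorMod P' (CohB1.tensorMod G P) ≅ G) :=
        ⟨(tensor_congr ⟨Iso.refl P'⟩ (tensor_comm G P)).some ≪≫ (tensor_assoc P' P G).some.symm ≪≫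
          (tensor_congr (PicAux.isInverseOf_symm (PicAux.isInverseOf_tensorPow hLM (N + 1)))
            ⟨Iso.refl G⟩).some ≪≫ (tensor_one G).some⟩
      change delta k l (CohB1.tensorMod P' (CohB1.tensorMod G P)) =
        delta k l (CohB1.tensorMod P' G) + delta k l (CohB1.tensorMod P' Q) at hadd2
      rw [delta_congr k l hinv] at hadd2
      have hpow := delta_pow_cons k hM hli hG
        (by rw [hGeq, hξ]) (N + 1)
      rw [delta_cons, hadd2, add_sub_cancel_left] at hpow
      have hpos : 0 < delta k l (CohB1.tensorMod P' Q) :=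
        ih hl' _ (isCoh_twist hP' hQ) (by rw [support_twist_eq hP', hdQ])
      rw [hpow] at hpos
      exact pos_of_mul_pos_right hpos (by positivity)
    -- reduce to the integral case
    have hle : ∀ x, x ∈ CohB1.support F →
        topologicalKrullDim (closure ({x} : Set X)) ≤ ((M :: l).length : ℕ) := fun x hx =>
      (LocCohTransform.topologicalKrullDim_mono
        (closure_minimal (Set.singleton_subset_iff.2 hx) hcl)).trans hdim.le
    let T := {x | x ∈ CohB1.support F ∧
      topologicalKrullDim (closure ({x} : Set X)) = ((M :: l).length : ℕ)}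
    have hT : T.Finite := (DivisorLength.finite_maximal_points hcl).subset fun x hx =>
      ⟨hx.1, fun w hw hwx => (eq_of_dim_closure hwx.mem_closure (hle w hw) hx.2.ge).symm⟩
    obtain ⟨ξ₀, hξ₀, hξ₀d⟩ := exists_dim_closure_eq hcl hdim
    rw [delta_eq_sum_length k hMli hF hdim.le hT.toFinset fun x => hT.mem_toFinset]
    refine Finset.sum_pos (fun x hx => mul_pos ?_ (key x (by simpa using (hT.mem_toFinset.1 hx).2)))
      ⟨ξ₀, hT.mem_toFinset.2 ⟨hξ₀, hξ₀d⟩⟩
    have hx' := hT.mem_toFinset.1 hx
    rw [Int.natCast_pos, Nat.pos_iff_ne_zero, ne_eq, ENat.toNat_eq_zero, not_or]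
    exact ⟨fun h => hx'.1 (Module.length_eq_zero_iff.1 h),
      KTheory.Devissage.length_stalk_ne_top hF x fun z hz hzx =>
        (eq_of_dim_closure hzx.mem_closure (hle z hz) hx'.2.ge).symm⟩

/-- Intersection numbers of ample modules are nonnegative. -/
theorem delta_nonneg {l : List X.Modules} (hl : ∀ M ∈ l, IsAmpleInv M) {F : X.Modules}
    (hF : Coh.IsCoh F) (hdim : topologicalKrullDim (CohB1.support F) ≤ (l.length : ℕ)) :
    0 ≤ delta k l F := by
  obtain h | h := hdim.lt_or_eq
  · exact (delta_eq_zero k l (fun N hN => (hl N hN).isInvertible) F hF h).ge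
  · exact (delta_pos k l hl F hF h).le

end Groth.Inter
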