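import Groth.Agent.Inter.Snapper
import Groth.Agent.RefRank.Stalk
import Groth.Agent.Inter.Positive
import Groth.Agent.EulerDeg.LineBundle
import Groth.Agent.Variety2.Reg.Support
import Groth.Agent.PnCoh.AmpleVanishing
import Mathlib.AlgebraicGeometry.Morphisms.Proper

/-!
# Intersection theory on an integral proper surface

For `(N²) > 0` and `(N·A) ≥ 0`, `A` ample, powers of `N` have sections: if `J` is least with
`h⁰(N^n ⊗ A^J) ≠ 0`, then `h²(N^n ⊗ A^{J-1}) ≤ h²(A^{-1})`, as `H²` is right exact on a surface, so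
`χ(N^n ⊗ A^{J-1})` would be bounded above.  The Hodge index inequality follows.
-/

universe u

open CategoryTheory CategoryTheory.Limits AlgebraicGeometry TopologicalSpace

namespace Groth.Inter

open Groth.PicAux

variable {X : Scheme.{u}}

/-- A section of `L ⊗ P` gives a nonzero map from an inverse of `P` to `L`. -/
theorem exists_hom_of_twist [IsIntegral X] {L P P' : X.Modules} (hP' : PicF.IsInvertible P')
    (hPP' : ClSub.IsInverseOf P P') (hL : PicF.IsInvertible L)
    {M : X.Modules} (hM : PicF.IsInvertible M) {φ : M ⟶ CohB1.tensorMod L P} (hφ : φ ≠ 0) :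
    ∃ ψ : CohB1.tensorMod M P' ⟶ L, ψ ≠ 0 := by
  have hLP : PicF.IsInvertible (CohB1.tensorMod L P) :=
    isInvertible_tensorMod hL (isInvertible_of_isInverseOf hP' (isInverseOf_symm hPP'))
  have := EulerDeg.mono_of_ne_zero hM hLP hφ
  have hS := shortExact_tensorRightMod hP' (CohTwo.cokerSeq_shortExact φ)
  have hmono : Mono ((DCoh.tensorRightMod P').map φ) := hS.mono_f
  let e : CohB1.tensorMod (CohB1.tensorMod L P) P' ≅ L :=
    (tensor_assoc L P P').some ≪≫ (tensor_congr ⟨Iso.refl L⟩ hPP').some ≪≫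
      (tensor_comm L _).some ≪≫ (tensor_one L).some
  refine ⟨(DCoh.tensorRightMod P').map φ ≫ e.hom, fun h0 => ?_⟩
  have h1 : (DCoh.tensorRightMod P').map φ = 0 := (cancel_mono e.hom).1 (h0.trans zero_comp.symm)
  have hz : IsZero (CohB1.tensorMod M P') := (IsZero.iff_id_eq_zero _).2
    ((cancel_mono ((DCoh.tensorRightMod P').map φ)).1
      ((Category.id_comp _).trans (h1.trans zero_comp.symm)))
  obtain ⟨e'⟩ := exists_stalk_equiv (isInvertible_tensorMod hM hP') (genericPoint X)
  exact @not_nontrivial _ (@Equiv.subsingleton _ _ e'.toEquiv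
    (not_not.1 fun h => ((QCohMod.isZero_iff_support_eq_empty _).1 hz).subset h)) inferInstance

variable (k : Type u) [Field k] [X.Over (Spec (CommRingCat.of k))]

include k in
/-- Nonvanishing of `H⁰` is the existence of a nonzero map from `O`. -/
theorem nontrivial_h0_iff (L : X.Modules) :
    Nontrivial (Coh.HH X L 0) ↔ ∃ φ : Coh.structureModule X ⟶ L, φ ≠ 0 := by
  refine (EulerDeg.h0Equiv k L).toEquiv.nontrivial_congr.trans ?_
  constructor
  · intro h
    obtain ⟨s, hs⟩ := exists_ne (0 : Γ(L, (⊤ : X.Opens)))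
    refine ⟨homOfSection s, fun h0 => hs ?_⟩
    rw [← homOfSection_one s, h0]
    rfl
  · rintro ⟨φ, hφ⟩
    exact ⟨φ.app ⊤ (oneSec X ⊤), 0, fun h => hφ (hom_structure_ext (h.trans rfl))⟩

lemma finrank_h0_eq_zero {L : X.Modules} (h : ¬ Nontrivial (Coh.HH X L 0)) :
    Module.finrank k (Coh.HH X L 0) = 0 :=
  have := not_nontrivial_iff_subsingleton.1 h
  Module.finrank_zero_of_subsingleton

variable [IsProper (X ↘ Spec (CommRingCat.of k))]

lemma euler_eq_three (hdim : topologicalKrullDim X ≤ (2 : ℕ)) (F : X.Modules) :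
    Curv2.euler k X F = Module.finrank k (Coh.HH X F 0) - Module.finrank k (Coh.HH X F 1) +
      Module.finrank k (Coh.HH X F 2) := by
  rw [← eulerCharLE_eq k hdim, FGA.eulerCharLE]
  simp [Finset.sum_range_succ, sub_eq_add_neg]

section Pairing

variable (hdim : topologicalKrullDim X ≤ (2 : ℕ))

/-- The pairing on the whole surface. -/
noncomputable def pair (A B : X.Modules) : ℤ := delta k [A, B] (Coh.structureModule X)

omit [IsProper (X ↘ Spec (CommRingCat.of k))] in
lemma pair_comm (A B : X.Modules) : pair k A B = pair k B A :=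
  delta_perm k (List.Perm.swap B A []) _

include hdim

omit [IsProper (X ↘ Spec (CommRingCat.of k))] in
lemma dim_support_le (F : X.Modules) : topologicalKrullDim (CohB1.support F) ≤ (2 : ℕ) :=
  ((LocCohTransform.topologicalKrullDim_mono (Set.subset_univ _)).trans_eq
    (IsHomeomorph.topologicalKrullDim_eq _ (Homeomorph.Set.univ X).isHomeomorph)).trans hdim

theorem intNum_eq_pair (A B : X.Modules) :
    FGA.intNum k X 2 ![A, B] (Coh.structureModule X) = pair k A B := by
  rw [intNum_eq k hdim]
  simp [pair, List.ofFn_succ]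

theorem pair_tensor {A A' B : X.Modules} (hA : PicF.IsInvertible A) (hA' : PicF.IsInvertible A')
    (hB : PicF.IsInvertible B) : pair k (CohB1.tensorMod A A') B = pair k A B + pair k A' B :=
  have := isNoetherian k (X := X)
  delta_tensor k hA hA' (by simpa using hB) QCohMod.isCoh_unit (dim_support_le hdim _)

omit hdim [IsProper (X ↘ Spec (CommRingCat.of k))] in
theorem pair_one {B : X.Modules} : pair k (Coh.structureModule X) B = 0 := by
  rw [pair, delta_cons, sub_eq_zero]
  exact delta_congr k _ ⟨(tensor_one _).some.symm⟩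

omit hdim [IsProper (X ↘ Spec (CommRingCat.of k))] in
theorem pair_congr {A A' : X.Modules} (h : Nonempty (A ≅ A')) (B : X.Modules) :
    pair k A B = pair k A' B :=
  delta_congr_list k (List.Forall₂.cons h (List.Forall₂.cons ⟨Iso.refl B⟩ List.Forall₂.nil)) _

theorem pair_inverse {A A' B : X.Modules} (hA : PicF.IsInvertible A)
    (hAA' : ClSub.IsInverseOf A A') (hB : PicF.IsInvertible B) : pair k A' B = - pair k A B := by
  have h := pair_tensor k hdim hA (isInvertible_of_isInverseOf hA hAA') hB
  rw [pair_congr k hAA', pair_one k] at h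
  linarith

theorem pair_inverse_inverse {A A' B B' : X.Modules} (hA : PicF.IsInvertible A)
    (hAA' : ClSub.IsInverseOf A A') (hB : PicF.IsInvertible B) (hBB' : ClSub.IsInverseOf B B') :
    pair k A' B' = pair k A B := by
  have hA' := isInvertible_of_isInverseOf hA hAA'
  rw [pair_comm k A', pair_inverse k hdim hB hBB' hA', pair_comm k B,
    pair_inverse k hdim hA hAA' hB, neg_neg]

theorem pair_pow {A B : X.Modules} (hA : PicF.IsInvertible A) (hB : PicF.IsInvertible B) (n : ℕ) :
    pair k (CohB1.tensorPow A n) B = n * pair k A B :=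
  have := isNoetherian k (X := X)
  delta_pow_cons k hA (by simpa using hB) QCohMod.isCoh_unit (dim_support_le hdim _) n

/-- Integral combinations. -/
theorem exists_comb {A B : X.Modules} (hA : PicF.IsInvertible A) (hB : PicF.IsInvertible B) (u v : ℤ) :
    ∃ N : X.Modules, PicF.IsInvertible N ∧ ∀ C : X.Modules, PicF.IsInvertible C →
      pair k N C = u * pair k A C + v * pair k B C := by
  have key : ∀ {A : X.Modules}, PicF.IsInvertible A → ∀ u : ℤ, ∃ N : X.Modules, PicF.IsInvertible N ∧
      ∀ C : X.Modules, PicF.IsInvertible C → pair k N C = u * pair k A C := by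
    intro A hA u
    obtain ⟨n, rfl | rfl⟩ := u.eq_nat_or_neg
    · exact ⟨_, isInvertible_tensorPow hA n, fun C hC => pair_pow k hdim hA hC n⟩
    · obtain ⟨A', -, hAA'⟩ := exists_isInverseOf hA
      have hA' := isInvertible_of_isInverseOf hA hAA'
      refine ⟨_, isInvertible_tensorPow hA' n, fun C hC => ?_⟩
      rw [pair_pow k hdim hA' hC, pair_inverse k hdim hA hAA' hC]
      ring
  obtain ⟨P, hP, hP'⟩ := key hA u
  obtain ⟨Q, hQ, hQ'⟩ := key hB v
  exact ⟨_, isInvertible_tensorMod hP hQ, fun C hC => by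
    rw [pair_tensor k hdim hP hQ hC, hP' C hC, hQ' C hC]⟩

/-- The quadratic polynomial `χ(N^n ⊗ A^j)`. -/
theorem euler_pow_pow {N A : X.Modules} (hN : PicF.IsInvertible N) (hA : PicF.IsInvertible A)
    (n j : ℕ) :
    Curv2.euler k X (CohB1.tensorMod (CohB1.tensorPow N n) (CohB1.tensorPow A j)) =
      Curv2.euler k X (Coh.structureModule X) - n * delta k [N] (Coh.structureModule X)
        - j * delta k [A] (Coh.structureModule X) + (n.choose 2 : ℤ) * pair k N N
        + (j.choose 2 : ℤ) * pair k A A + (n * j : ℕ) * pair k N A := by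
  have := isNoetherian k (X := X)
  have trunc : ∀ (L : X.Modules), PicF.IsInvertible L → ∀ (l : List X.Modules),
      (∀ M ∈ l, PicF.IsInvertible M) → ∀ (F : X.Modules), Coh.IsCoh F → ∀ m : ℕ,
      delta k l (CohB1.tensorMod (CohB1.tensorPow L m) F) =
        ∑ i ∈ Finset.range 3, (m.choose i : ℤ) * (-1) ^ i * delta k (List.replicate i L ++ l) F := by
    intro L hL l hl F hF m
    rw [delta_pow k L m l F]
    have hbig : ∀ i, 3 ≤ i → delta k (List.replicate i L ++ l) F = 0 := fun i hi =>
      delta_eq_zero k _ (fun M hM => by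
        rcases List.mem_append.1 hM with h | h
        · rw [List.eq_of_mem_replicate h]; exact hL
        · exact hl M h) F hF
        (lt_of_le_of_lt (dim_support_le hdim F) (by simp; exact_mod_cast (by omega : 2 < i + l.length)))
    rw [Finset.sum_subset (Finset.range_mono (le_max_left (m + 1) 3)) (fun i _ hi => by
        rw [Nat.choose_eq_zero_of_lt (by simpa using hi)]; simp),
      ← Finset.sum_subset (Finset.range_mono (le_max_right (m + 1) 3)) (fun i _ hi => by
        rw [hbig i (by simpa using hi), mul_zero])]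
  have hAj : Coh.IsCoh (CohB1.tensorPow A j) := isCoh_of_isInvertible (isInvertible_tensorPow hA j)
  have e : ∀ l : List X.Modules, delta k l (CohB1.tensorPow A j) =
      delta k l (CohB1.tensorMod (CohB1.tensorPow A j) (Coh.structureModule X)) := fun l =>
    delta_congr k l ⟨((tensor_comm _ _).some ≪≫ (tensor_one _).some).symm⟩
  have h0 := trunc N hN [] (by simp) _ hAj n
  rw [delta_nil] at h0
  rw [h0]
  simp only [e]
  have hz : ∀ B C D : X.Modules, PicF.IsInvertible B → PicF.IsInvertible C → PicF.IsInvertible D →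
      delta k [B, C, D] (Coh.structureModule X) = 0 := fun B C D hB hC hD =>
    delta_eq_zero k _ (by simp [hB, hC, hD]) _ QCohMod.isCoh_unit
      (lt_of_le_of_lt (dim_support_le hdim _) (by norm_num))
  have hz4 : ∀ B C D E : X.Modules, PicF.IsInvertible B → PicF.IsInvertible C → PicF.IsInvertible D →
      PicF.IsInvertible E → delta k [B, C, D, E] (Coh.structureModule X) = 0 := fun B C D E hB hC hD hE =>
    delta_eq_zero k _ (by simp [hB, hC, hD, hE]) _ QCohMod.isCoh_unit
      (lt_of_le_of_lt (dim_support_le hdim _) (by norm_num))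
  rw [Finset.sum_range_succ, Finset.sum_range_succ, Finset.sum_range_one]
  simp only [List.replicate, List.append_nil, List.cons_append, List.nil_append]
  rw [trunc A hA [] (by simp) _ QCohMod.isCoh_unit j, trunc A hA [N] (by simpa using hN) _
    QCohMod.isCoh_unit j, trunc A hA [N, N] (by simpa using hN) _ QCohMod.isCoh_unit j]
  simp only [Finset.sum_range_succ, Finset.sum_range_one, List.replicate, List.append_nil,
    List.cons_append, List.nil_append, Nat.choose_zero_right, Nat.choose_one_right, delta_nil]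
  rw [hz A A N hA hA hN, hz A N N hA hN hN, hz4 A A N N hA hA hN hN]
  rw [show delta k [A, N] (Coh.structureModule X) = pair k N A from pair_comm k A N]
  simp only [pair]
  push_cast
  ring

end Pairing

variable [IsIntegral X] (hdim : topologicalKrullDim X = 2)

include hdim

/-- On a surface `h²` decreases along nonzero maps of invertible modules. -/
theorem finrank_h2_le {M L : X.Modules} (hM : PicF.IsInvertible M) (hL : PicF.IsInvertible L)
    {φ : M ⟶ L} (hφ : φ ≠ 0) :
    Module.finrank k (Coh.HH X L 2) ≤ Module.finrank k (Coh.HH X M 2) := by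
  have := isNoetherian k (X := X)
  have := EulerDeg.mono_of_ne_zero hM hL hφ
  have := (isCoh_of_isInvertible hM).1
  have hQ : Coh.IsCoh (cokernel φ) := QCohMod.isCoh_cokernel φ (isCoh_of_isInvertible hL)
  have hlt : topologicalKrullDim (CohB1.support (cokernel φ)) < ((2 : ℕ) : WithBot ℕ∞) := by
    have hu : topologicalKrullDim (Set.univ : Set X) = ((2 : ℕ) : WithBot ℕ∞) :=
      (IsHomeomorph.topologicalKrullDim_eq _ (Homeomorph.Set.univ X).isHomeomorph).trans hdim
    rw [← hu]
    refine LocCohTransform.topologicalKrullDim_lt_of_ssubset (Set.subset_univ _) (fun h => ?_)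
      (CohTwo.isClosed_support _ hQ) isClosed_univ ?_ ?_
    · exact CohTwo.notMem_support_cokernel φ (genericPoint X)
        (EulerDeg.surjective_stalk_genericPoint hM hL hφ) (h trivial)
    · exact IrreducibleSpace.isIrreducible_univ X
    · rw [hu]; exact WithBot.coe_lt_coe.2 (ENat.natCast_lt_top _)
  have hsub : Subsingleton (Coh.HH X (cokernel φ) 2) :=
    Variety2.Reg.subsingleton_HH_of_support_one _ (CohTwo.isClosed_support _ hQ)
      (by simpa using lt_natCast_succ_iff.1 hlt) subset_rfl le_rfl
  have hsurj : Function.Surjective (EulerDeg.hMap k φ 2) := fun y =>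
    (EulerDeg.exact_mid k (CohTwo.cokerSeq_shortExact φ) 2 y).1 (Subsingleton.elim _ _)
  have := (finCoh k (isCoh_of_isInvertible hM)).finite 2
  have h := LinearMap.finrank_range_le (EulerDeg.hMap k φ 2)
  rwa [LinearMap.range_eq_top.2 hsurj, finrank_top] at h

/-- `χ(L) ≤ h⁰(L) + h²(M)` when `M` maps nontrivially to `L`. -/
theorem euler_le {M L : X.Modules} (hM : PicF.IsInvertible M) (hL : PicF.IsInvertible L)
    {φ : M ⟶ L} (hφ : φ ≠ 0) :
    Curv2.euler k X L ≤ Module.finrank k (Coh.HH X L 0) + Module.finrank k (Coh.HH X M 2) := by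
  have h := finrank_h2_le k hdim hM hL hφ
  rw [euler_eq_three k hdim.le]
  omega

/-- `h⁰(N^n) ≥ χ(N^n) - h²(O)` once `N^n` has sections. -/
theorem euler_le_of_nontrivial {L : X.Modules} (hL : PicF.IsInvertible L)
    (h : Nontrivial (Coh.HH X L 0)) :
    Curv2.euler k X L ≤ Module.finrank k (Coh.HH X L 0) +
      Module.finrank k (Coh.HH X (Coh.structureModule X) 2) := by
  obtain ⟨φ, hφ⟩ := (nontrivial_h0_iff k L).1 h
  exact euler_le k hdim (EulerDeg.isInvertible_structureModule X) hL hφ

variable {A : X.Modules} (hA : CohB1.IsAmple A)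

include hA

/-- `(A²) > 0`. -/
theorem pair_self_pos : 0 < pair k A A := by
  have := isNoetherian k (X := X)
  obtain ⟨A', -, hAA'⟩ := exists_isInverseOf hA.1
  have h : IsAmpleInv A' := ⟨A, hA, hAA'⟩
  rw [← pair_inverse_inverse k hdim.le hA.1 hAA' hA.1 hAA']
  refine delta_pos k [A', A'] (by simpa using h) _ QCohMod.isCoh_unit ?_
  have hsupp : CohB1.support (Coh.structureModule X) = Set.univ := Set.eq_univ_of_forall fun x h => by
    have := (RefRank.oneEquiv x).toEquiv.nontrivial_congr.1 inferInstance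
    exact not_subsingleton _ h
  rw [hsupp]
  exact (IsHomeomorph.topologicalKrullDim_eq _ (Homeomorph.Set.univ X).isHomeomorph).trans hdim

include k in
/-- High ample twists have sections. -/
theorem exists_nontrivial_twist {N : X.Modules} (hN : PicF.IsInvertible N) (n : ℕ) :
    ∃ j : ℕ, Nontrivial (Coh.HH X (CohB1.tensorMod (CohB1.tensorPow N n) (CohB1.tensorPow A j)) 0) := by
  obtain ⟨d₀, hd⟩ := PnCoh.exists_subsingleton_of_isAmple (X ↘ Spec (CommRingCat.of k)) hA
    (CohB1.tensorPow N n) (isCoh_of_isInvertible (isInvertible_tensorPow hN n))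
  have hQ := pair_self_pos k hdim hA
  set c := Curv2.euler k X (Coh.structureModule X) - n * delta k [N] (Coh.structureModule X)
    + (n.choose 2 : ℤ) * pair k N N
  set b := (n : ℤ) * pair k N A - delta k [A] (Coh.structureModule X)
  refine ⟨2 * (c.natAbs + b.natAbs) + d₀ + 3, ?_⟩
  set j := 2 * (c.natAbs + b.natAbs) + d₀ + 3 with hj
  have he := euler_pow_pow k hdim.le hN hA.1 n j
  have h1 := hd j (by omega) 1 Nat.one_pos
  have h2 := hd j (by omega) 2 (by norm_num)
  rw [euler_eq_three k hdim.le, Module.finrank_zero_of_subsingleton (R := k)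
    (M := Coh.HH X _ 1), Module.finrank_zero_of_subsingleton (R := k) (M := Coh.HH X _ 2)] at he
  have hpos : (0 : ℤ) < c + j * b + (j.choose 2 : ℤ) * pair k A A := by
    have hch : (2 : ℤ) * (j.choose 2 : ℤ) = (j : ℤ) * (j - 1) := by
      have h := Nat.choose_two_right j
      have h' : 2 * j.choose 2 = j * (j - 1) := by
        rw [h, Nat.mul_div_cancel' (Nat.even_mul_pred_self j).two_dvd]
      zify [show 1 ≤ j by omega] at h'
      exact h'
    have hjz : (j : ℤ) = 2 * (|c| + |b|) + d₀ + 3 := by rw [hj]; push_cast; rfl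
    have hc := neg_abs_le c
    have hb : (j : ℤ) * (-|b|) ≤ j * b := mul_le_mul_of_nonneg_left (neg_abs_le b) (by positivity)
    have hQ' : (j.choose 2 : ℤ) ≤ (j.choose 2 : ℤ) * pair k A A := le_mul_of_one_le_right
      (by positivity) (by omega)
    nlinarith [abs_nonneg c, abs_nonneg b]
  by_contra hn
  rw [finrank_h0_eq_zero k hn] at he
  simp only [c, b] at hpos
  push_cast at he
  nlinarith

/-- A class of positive square and nonnegative degree has sections in all high powers. -/
theorem exists_sections {N : X.Modules} (hN : PicF.IsInvertible N) (hNN : 0 < pair k N N)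
    (hNA : 0 ≤ pair k N A) :
    ∃ n₀ : ℕ, ∀ n : ℕ, n₀ ≤ n → Nontrivial (Coh.HH X (CohB1.tensorPow N n) 0) := by
  obtain ⟨A', -, hAA'⟩ := exists_isInverseOf hA.1
  have hA' := isInvertible_of_isInverseOf hA.1 hAA'
  set K := (Module.finrank k (Coh.HH X A' 2) : ℤ)
  set c := Curv2.euler k X (Coh.structureModule X)
  set a := delta k [N] (Coh.structureModule X)
  set b := delta k [A] (Coh.structureModule X)
  have hQ := pair_self_pos k hdim hA
  set B := 2 * K + 2 * |c| + (pair k A A + 2 * b) ^ 2
  refine ⟨(2 * |a| + |B| + 2).toNat, fun n hn => ?_⟩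
  by_contra hne
  classical
  have hex := exists_nontrivial_twist k hdim hA hN n
  obtain ⟨i, hi⟩ : ∃ i, Nat.find hex = i + 1 := by
    refine Nat.exists_eq_succ_of_ne_zero fun h0 => hne ?_
    have h := Nat.find_spec hex
    rw [h0] at h
    exact (EulerDeg.hEquiv k ((tensor_comm _ _).some ≪≫ (tensor_one _).some) 0).toEquiv.nontrivial_congr.1 h
  have hspec := Nat.find_spec hex
  have hmin := Nat.find_min hex (show i < Nat.find hex by omega)
  rw [hi] at hspec
  obtain ⟨φ, hφ⟩ := (nontrivial_h0_iff k _).1 hspec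
  let L := CohB1.tensorMod (CohB1.tensorPow N n) (CohB1.tensorPow A i)
  have hL : PicF.IsInvertible L :=
    isInvertible_tensorMod (isInvertible_tensorPow hN n) (isInvertible_tensorPow hA.1 i)
  let e : CohB1.tensorMod (CohB1.tensorPow N n) (CohB1.tensorPow A (i + 1)) ≅ CohB1.tensorMod L A :=
    (tensor_assoc _ _ A).some.symm
  obtain ⟨ψ, hψ⟩ := exists_hom_of_twist hA' hAA' hL (EulerDeg.isInvertible_structureModule X)
    (φ := φ ≫ e.hom) (fun h => hφ (by rw [← cancel_mono e.hom, h, zero_comp]))
  have hle := euler_le k hdim (isInvertible_tensorMod (EulerDeg.isInvertible_structureModule X) hA')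
    hL hψ
  rw [finrank_h0_eq_zero k hmin, EulerDeg.finrank_congr (k := k) (tensor_one A').some 2,
    euler_pow_pow k hdim.le hN hA.1 n i] at hle
  have hch : ∀ m : ℕ, (2 : ℤ) * (m.choose 2 : ℤ) = (m : ℤ) * (m - 1) := fun m => by
    rcases m with _ | m
    · simp
    have h := Nat.choose_two_right (m + 1)
    have h' : 2 * (m + 1).choose 2 = (m + 1) * m := by
      rw [h, Nat.mul_div_cancel' (by simpa using (Nat.even_mul_pred_self (m + 1)).two_dvd)]
      simp
    zify at h'
    push_cast
    linarith
  have hn' : 2 * |a| + |B| + 2 ≤ (n : ℤ) := by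
    have := Int.self_le_toNat (2 * |a| + |B| + 2)
    omega
  have h3 : 0 ≤ ((n * i : ℕ) : ℤ) * pair k N A := by positivity
  have hci := hch i
  have hcn := hch n
  push_cast at hle h3
  -- the terms in `i` are bounded below
  have h4 : -(pair k A A + 2 * b) ^ 2 ≤ (i : ℤ) * (i - 1) * pair k A A - 2 * i * b := by
    nlinarith [sq_nonneg (2 * (i : ℤ) * pair k A A - pair k A A - 2 * b),
      sq_nonneg (pair k A A + 2 * b)]
  have h5 : (n : ℤ) * (n - 1) - 2 * n * a ≤ B := by
    have h6 : (n : ℤ) * (n - 1) ≤ (n : ℤ) * (n - 1) * pair k N N :=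
      le_mul_of_one_le_right (by nlinarith [abs_nonneg a, abs_nonneg B]) (by omega)
    have := neg_abs_le c
    simp only [B, K]
    nlinarith
  have h7 : (n : ℤ) * a ≤ n * |a| := mul_le_mul_of_nonneg_left (le_abs_self a) (by positivity)
  nlinarith [abs_nonneg a, abs_nonneg B, le_abs_self B]

/-- A module with a section has nonnegative degree. -/
theorem pair_nonneg_of_nontrivial {L : X.Modules} (hL : PicF.IsInvertible L)
    (h : Nontrivial (Coh.HH X L 0)) : 0 ≤ pair k L A := by
  have := isNoetherian k (X := X)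
  obtain ⟨A', -, hAA'⟩ := exists_isInverseOf hA.1
  have hA' : IsAmpleInv A' := ⟨A, hA, hAA'⟩
  obtain ⟨φ, hφ⟩ := (nontrivial_h0_iff k L).1 h
  have := EulerDeg.mono_of_ne_zero (EulerDeg.isInvertible_structureModule X) hL hφ
  have hQ : Coh.IsCoh (cokernel φ) := QCohMod.isCoh_cokernel φ (isCoh_of_isInvertible hL)
  have hlt : topologicalKrullDim (CohB1.support (cokernel φ)) ≤ (1 : ℕ) := by
    refine lt_natCast_succ_iff.1 (lt_of_lt_of_eq (LocCohTransform.topologicalKrullDim_lt_of_ssubset
      (Set.subset_univ _) (fun h => ?_) (CohTwo.isClosed_support _ hQ) isClosed_univ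
      (IrreducibleSpace.isIrreducible_univ X) ?_) ?_)
    · exact CohTwo.notMem_support_cokernel φ (genericPoint X)
        (EulerDeg.surjective_stalk_genericPoint (EulerDeg.isInvertible_structureModule X) hL hφ)
        (h trivial)
    · rw [IsHomeomorph.topologicalKrullDim_eq _ (Homeomorph.Set.univ X).isHomeomorph, hdim]
      exact WithBot.coe_lt_coe.2 (ENat.natCast_lt_top _)
    · rw [IsHomeomorph.topologicalKrullDim_eq _ (Homeomorph.Set.univ X).isHomeomorph, hdim]
      rfl
  have hnn := delta_nonneg k (l := [A']) (by simpa using hA') hQ hlt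
  have hadd := delta_add k (l := [A']) (by simpa using hA'.isInvertible)
    (CohTwo.cokerSeq_shortExact φ) QCohMod.isCoh_unit hQ
  have e : pair k L A' = delta k [A'] (Coh.structureModule X) - delta k [A'] L := by
    rw [pair, delta_cons, delta_congr k _ (G := L) ⟨(tensor_comm _ _).some ≪≫ (tensor_one _).some⟩]
  rw [pair_comm, pair_inverse k hdim.le hA.1 hAA' hL, pair_comm] at e
  change delta k [A'] L = delta k [A'] _ + delta k [A'] _ at hadd
  linarith

/-- A class of positive square has nonzero degree. -/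
theorem pair_ne_zero {N : X.Modules} (hN : PicF.IsInvertible N) (hNN : 0 < pair k N N) :
    pair k N A ≠ 0 := by
  intro h0
  obtain ⟨N', -, hNN'⟩ := exists_isInverseOf hN
  have hN' := isInvertible_of_isInverseOf hN hNN'
  obtain ⟨n₀, hn₀⟩ := exists_sections k hdim hA hN hNN h0.ge
  obtain ⟨n₁, hn₁⟩ := exists_sections k hdim hA hN'
    (by rwa [pair_inverse_inverse k hdim.le hN hNN' hN hNN'])
    (by rw [pair_inverse k hdim.le hN hNN' hA.1, h0, neg_zero])
  set n := n₀ + n₁ + 1 with hn
  have hinv := isInverseOf_tensorPow hNN' n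
  have hP := isInvertible_tensorPow hN n
  have hP' := isInvertible_tensorPow hN' n
  obtain ⟨φ, hφ⟩ := (nontrivial_h0_iff k _).1 (hn₀ n (by omega))
  obtain ⟨ψ, hψ⟩ := (nontrivial_h0_iff k _).1 (hn₁ n (by omega))
  have hO := EulerDeg.isInvertible_structureModule X
  let e₁ : CohB1.tensorPow N n ≅ CohB1.tensorMod (Coh.structureModule X) (CohB1.tensorPow N n) :=
    (tensor_one _).some.symm
  obtain ⟨χ, hχ⟩ := exists_hom_of_twist hP' hinv hO hO (φ := φ ≫ e₁.hom)
    (fun h => hφ (by rw [← cancel_mono e₁.hom, h, zero_comp]))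
  let χ' : CohB1.tensorPow N' n ⟶ Coh.structureModule X := (tensor_one _).some.inv ≫ χ
  have hχ' : χ' ≠ 0 := fun h => hχ ((cancel_epi (tensor_one _).some.inv).1 (h.trans comp_zero.symm))
  have := EulerDeg.mono_of_ne_zero hO hP' hψ
  have := EulerDeg.mono_of_ne_zero hP' hO hχ'
  have hfield := isField_of_universallyClosed k (X ↘ Spec (CommRingCat.of k))
  have hiso : IsIso (ψ ≫ χ') := by
    rw [isIso_hom_structure_iff]
    set s := (ψ ≫ χ').app ⊤ (oneSec X ⊤)
    have hs : toFun s ≠ 0 := fun h => by
      have h0 : ψ ≫ χ' = 0 := hom_structure_ext (by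
        change s = 0
        rw [eq_toFun_smul_oneSec s, h, zero_smul])
      exact hψ (by rw [← cancel_mono χ', h0, zero_comp])
    obtain ⟨t, ht⟩ := hfield.mul_inv_cancel hs
    intro V hV
    have hu : IsUnit (resX X hV (toFun s)) := (IsUnit.of_mul_eq_one t ht).map _
    refine ⟨fun x y hxy => ?_, fun y => ⟨toFun y * ↑hu.unit⁻¹, ?_⟩⟩
    · exact hu.mul_right_cancel hxy
    · change toFun y * ↑hu.unit⁻¹ * resX X hV (toFun s) = toFun y
      rw [mul_assoc, IsUnit.val_inv_mul, mul_one]
  have : Epi χ' := epi_of_epi ψ χ'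
  have : IsIso χ' := isIso_of_mono_of_epi χ'
  have e := pair_congr k ⟨asIso χ'⟩ N
  rw [pair_one k, pair_pow k hdim.le hN' hN, pair_inverse k hdim.le hN hNN' hN] at e
  rcases mul_eq_zero.1 e with h | h
  · omega
  · omega

/-- Quadratic growth of sections. -/
theorem exists_growth {N : X.Modules} (hN : PicF.IsInvertible N) (hNN : 0 < pair k N N)
    (hNA : 0 ≤ pair k N A) :
    ∃ c : ℚ, 0 < c ∧ ∃ m₀ : ℕ, ∀ m : ℕ, m₀ ≤ m →
      c * (m : ℚ) ^ 2 < (Module.finrank k (Coh.HH X (CohB1.tensorPow N m) 0) : ℚ) := by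
  obtain ⟨n₀, hn₀⟩ := exists_sections k hdim hA hN hNN hNA
  set χ₀ := Curv2.euler k X (Coh.structureModule X)
  set a := delta k [N] (Coh.structureModule X)
  set q := (Module.finrank k (Coh.HH X (Coh.structureModule X) 2) : ℤ)
  refine ⟨1 / 4, by norm_num, n₀ + (4 * (a.natAbs + χ₀.natAbs + q.natAbs) + 8), fun m hm => ?_⟩
  have h := euler_le_of_nontrivial k hdim (isInvertible_tensorPow hN m) (hn₀ m (by omega))
  have he := euler_pow_pow k hdim.le hN hA.1 m 0
  have e : Nonempty (CohB1.tensorMod (CohB1.tensorPow N m) (CohB1.tensorPow A 0) ≅ CohB1.tensorPow N m) :=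
    ⟨(tensor_comm _ _).some ≪≫ (tensor_one _).some⟩
  rw [EulerDeg.euler_congr k e.some] at he
  simp only [Nat.choose_zero_succ, Nat.cast_zero, zero_mul, mul_zero, sub_zero, add_zero] at he
  rw [he] at h
  have hch : (2 : ℤ) * (m.choose 2 : ℤ) = (m : ℤ) * (m - 1) := by
    have h' : 2 * m.choose 2 = m * (m - 1) := by
      rw [Nat.choose_two_right, Nat.mul_div_cancel' (Nat.even_mul_pred_self m).two_dvd]
    zify [show 1 ≤ m by omega] at h'
    exact h'
  have hP : (m.choose 2 : ℤ) ≤ (m.choose 2 : ℤ) * pair k N N := le_mul_of_one_le_right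
    (by positivity) (by omega)
  have hma : (m : ℤ) * a ≤ m * |a| := mul_le_mul_of_nonneg_left (le_abs_self a) (by positivity)
  have hm' : 4 * (|a| + |χ₀| + |q|) + 8 ≤ (m : ℤ) := by simp only [← Int.natCast_natAbs]; omega
  set f := (Module.finrank k (Coh.HH X (CohB1.tensorPow N m) 0) : ℤ) with hf
  have key : (m : ℤ) ^ 2 < 4 * f := by
    have := neg_abs_le χ₀
    have := le_abs_self q
    nlinarith [mul_le_mul_of_nonneg_left hm' (Nat.cast_nonneg m : (0 : ℤ) ≤ m), abs_nonneg a,
      abs_nonneg χ₀, abs_nonneg q]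
  rw [hf] at key
  have key' : (m : ℚ) ^ 2 < 4 * (Module.finrank k (Coh.HH X (CohB1.tensorPow N m) 0) : ℚ) := by
    exact_mod_cast key
  linarith

/-- The Hodge index inequality. -/
theorem mul_le_sq {D : X.Modules} (hD : PicF.IsInvertible D) :
    pair k D D * pair k A A ≤ pair k D A ^ 2 := by
  have hQ := pair_self_pos k hdim hA
  obtain ⟨N, hN, hpN⟩ := exists_comb k hdim.le hD hA.1 (pair k A A) (-pair k D A)
  have h0 : pair k N A = 0 := by rw [hpN A hA.1]; ring
  by_contra hlt
  refine pair_ne_zero k hdim hA hN ?_ h0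
  rw [hpN N hN, pair_comm k D N, pair_comm k A N, h0, hpN D hD, pair_comm k A D]
  nlinarith

/-- The orthogonal of a class of positive square is negative semidefinite. -/
theorem pair_self_nonpos {L M : X.Modules} (hL : PicF.IsInvertible L) (hM : PicF.IsInvertible M)
    (hLL : 0 < pair k L L) (hLM : pair k L M = 0) : pair k M M ≤ 0 := by
  have hne := pair_ne_zero k hdim hA hL hLL
  obtain ⟨N, hN, hpN⟩ := exists_comb k hdim.le hM hL (pair k L A) (-pair k M A)
  have h0 : pair k N A = 0 := by rw [hpN A hA.1]; ring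
  by_contra hlt
  refine pair_ne_zero k hdim hA hN ?_ h0
  rw [hpN N hN, pair_comm k M N, pair_comm k L N, hpN M hM, hpN L hL, pair_comm k M L, hLM]
  have := mul_pos (sq_pos_of_ne_zero hne) (not_le.1 hlt)
  nlinarith [mul_nonneg (sq_nonneg (pair k M A)) hLL.le]

end Groth.Inter
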