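import Groth.Agent.Inter.PushFormula

/-!
# Numerical equivalence and pullback
-/

universe u

open CategoryTheory CategoryTheory.Limits AlgebraicGeometry TopologicalSpace

namespace Groth.Inter

open Groth.PicAux

variable (k : Type u) [Field k] {X : Scheme.{u}} [X.Over (Spec (CommRingCat.of k))]
  [IsProper (X ↘ Spec (CommRingCat.of k))]

/-- Equal degrees on integral curves give equal symbols in dimension one. -/
theorem curveEq_of_curveDeg {L N : X.Modules} (hL : PicF.IsInvertible L) (hN : PicF.IsInvertible N)
    (h : ∀ (Y : Scheme.{u}) (ι : Y ⟶ X) [IsClosedImmersion ι], IsIntegral Y → topologicalKrullDim Y = 1 →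
      Pic13.curveDeg k (ι ≫ (X ↘ Spec (CommRingCat.of k))) ((Scheme.Modules.pullback ι).obj L) =
        Pic13.curveDeg k (ι ≫ (X ↘ Spec (CommRingCat.of k))) ((Scheme.Modules.pullback ι).obj N)) :
    CurveEq k L N := fun y hy => by
  have hd := (dim_ptIdeal_subscheme y).trans hy
  have h1 := h _ (IntMult.ptIdeal y).subschemeι (CohTwo.isIntegral_closure_subscheme rfl) hd
  rw [curveDeg_eq k _ hL hd.le, curveDeg_eq k _ hN hd.le] at h1
  change -delta k [L] (Cyc.closureStructureSheaf y) = -delta k [N] (Cyc.closureStructureSheaf y) at h1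
  simp only [delta_cons, delta_nil] at h1
  omega

/-- Equal symbols in dimension one give equal degrees on curves. -/
theorem curveDeg_of_curveEq {L N : X.Modules} (hL : PicF.IsInvertible L) (hN : PicF.IsInvertible N)
    (h : CurveEq k L N) (Y : Scheme.{u}) (i : Y ⟶ X) [IsClosedImmersion i]
    (hY : topologicalKrullDim Y = 1) :
    Pic13.curveDeg k (i ≫ (X ↘ Spec (CommRingCat.of k))) ((Scheme.Modules.pullback i).obj L) =
      Pic13.curveDeg k (i ≫ (X ↘ Spec (CommRingCat.of k))) ((Scheme.Modules.pullback i).obj N) := by
  have hX : IsNoetherian X := isNoetherian k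
  have : IsLocallyNoetherian Y := LocallyOfFiniteType.isLocallyNoetherian i
  obtain ⟨hc, hs⟩ := push_structure_facts (X := X) i
  have hd : topologicalKrullDim (CohB1.support ((Coh.push i).obj (Coh.structureModule Y))) ≤
      ((1 : ℕ) : WithBot ℕ∞) := by
    rw [hs, ← i.isClosedEmbedding.isEmbedding.toHomeomorph.isHomeomorph.topologicalKrullDim_eq _, hY]
    rfl
  rw [curveDeg_eq k i hL (by rw [hY]; rfl), curveDeg_eq k i hN (by rw [hY]; rfl),
    delta_one_eq k hL hN h hc hd]

variable {X' : Scheme.{u}} [X'.Over (Spec (CommRingCat.of k))]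
  [IsProper (X' ↘ Spec (CommRingCat.of k))]

/-- Curve equivalence pulls back. -/
theorem curveEq_pullback (π : X' ⟶ X)
    (hπ : π ≫ (X ↘ Spec (CommRingCat.of k)) = X' ↘ Spec (CommRingCat.of k)) {L N : X.Modules}
    (hL : PicF.IsInvertible L) (hN : PicF.IsInvertible N) (h : CurveEq k L N) :
    CurveEq k ((Scheme.Modules.pullback π).obj L) ((Scheme.Modules.pullback π).obj N) := fun y hy => by
  have hX : IsNoetherian X := isNoetherian k
  have hX' : IsNoetherian X' := isNoetherian k
  have : IsProper π := by
    have : IsProper (π ≫ (X ↘ Spec (CommRingCat.of k))) := hπ ▸ inferInstance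
    exact IsProper.of_comp π (X ↘ Spec (CommRingCat.of k))
  have hc := KTheory.Devissage.isCoh_closureStructureSheaf y
  have hd : topologicalKrullDim (CohB1.support (Cyc.closureStructureSheaf y)) ≤ ((1 : ℕ) : WithBot ℕ∞) :=
    (LocCohTransform.topologicalKrullDim_mono
      (KTheory.Devissage.support_closureStructureSheaf_subset y)).trans (hy.le.trans (by rfl))
  have e₁ := delta_pullback_eq k π hπ (l := [L]) (by simpa using hL) hc (by simpa using hd)
  have e₂ := delta_pullback_eq k π hπ (l := [N]) (by simpa using hN) hc (by simpa using hd)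
  have hP := isCoh_push_proper π hc
  rw [delta_one_eq k hL hN h hP ((dim_support_push_le π _ (CohTwo.isClosed_support _ hc)
    (CohTwo.isClosed_support _ hP)).trans hd), ← e₂] at e₁
  simp only [List.map_cons, List.map_nil, delta_cons, delta_nil] at e₁
  omega

/-- Curve equivalence descends along surjective morphisms. -/
theorem curveEq_of_surjective (π : X' ⟶ X)
    (hπ : π ≫ (X ↘ Spec (CommRingCat.of k)) = X' ↘ Spec (CommRingCat.of k)) [Surjective π]
    {L N : X.Modules} (hL : PicF.IsInvertible L) (hN : PicF.IsInvertible N)
    (h : CurveEq k ((Scheme.Modules.pullback π).obj L) ((Scheme.Modules.pullback π).obj N)) :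
    CurveEq k L N := by
  have hX : IsNoetherian X := isNoetherian k
  have hX' : IsNoetherian X' := isNoetherian k
  obtain ⟨L', hL', hLL'⟩ := exists_isInverseOf hL
  obtain ⟨N', hN', hNN'⟩ := exists_isInverseOf hN
  have key : ∀ {A B B' : X.Modules}, PicF.IsInvertible A → PicF.IsInvertible B → PicF.IsInvertible B' →
      ClSub.IsInverseOf B B' →
      CurveEq k ((Scheme.Modules.pullback π).obj A) ((Scheme.Modules.pullback π).obj B) →
      ∀ y : X, topologicalKrullDim (closure ({y} : Set X)) = 1 →
        delta k [B] (Cyc.closureStructureSheaf y) ≤ delta k [A] (Cyc.closureStructureSheaf y) := by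
    intro A B B' hA hB hB' hBB' hAB
    have hM := isInvertible_tensorMod hA hB'
    have hnn : Nonneg k [CohB1.tensorMod A B'] := by
      refine nonneg_of_surjective k π hπ hM fun G hG hd => le_of_eq ?_
      rw [delta_congr_list k (List.Forall₂.cons ⟨(exists_pullback_tensorMod π A B').choose⟩ .nil) G,
        delta_tensor k (isInvertible_pullback π hA) (isInvertible_pullback π hB') (l := []) (by simp) hG
          (by simpa using hd),
        delta_one_eq k (isInvertible_pullback π hA) (isInvertible_pullback π hB) hAB hG (by simpa using hd),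
        delta_inverse_one k (isInvertible_pullback π hB)
          ⟨(exists_pullback_tensorMod π B B').choose.symm ≪≫ (Scheme.Modules.pullback π).mapIso hBB'.some ≪≫
            (pullback_structure_iso π).some⟩ hG (by simpa using hd), add_neg_cancel]
    intro y hy
    have hd : topologicalKrullDim (CohB1.support (Cyc.closureStructureSheaf y)) ≤ ((1 : ℕ) : WithBot ℕ∞) :=
      (LocCohTransform.topologicalKrullDim_mono
        (KTheory.Devissage.support_closureStructureSheaf_subset y)).trans (hy.le.trans (by rfl))
    have h1 := hnn _ (KTheory.Devissage.isCoh_closureStructureSheaf y) (by simpa using hd)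
    rw [delta_tensor k hA hB' (l := []) (by simp) (KTheory.Devissage.isCoh_closureStructureSheaf y)
      (by simpa using hd), delta_inverse_one k hB hBB' (KTheory.Devissage.isCoh_closureStructureSheaf y) hd] at h1
    omega
  intro y hy
  have h1 := key hL hN hN' hNN' h y hy
  have h2 := key hN hL hL' hLL' (fun z hz => (h z hz).symm) y hy
  simp only [delta_cons, delta_nil] at h1 h2
  omega

end Groth.Inter
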