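import Groth.Agent.Inter.Growth3

/-!
# Bigness
-/

universe u

open CategoryTheory CategoryTheory.Limits AlgebraicGeometry TopologicalSpace Opposite

namespace Groth.Inter

open Groth.PicAux Groth.HilbStab Groth.PropsBasic.Ample

variable (k : Type u) [Field k] {X : Scheme.{u}} [X.Over (Spec (CommRingCat.of k))]
  [IsProper (X ↘ Spec (CommRingCat.of k))] [IsIntegral X]

/-- A power of `L` receives an ample invertible module. -/
def HasAmpleSub (L : X.Modules) : Prop :=
  ∃ (ν : ℕ) (A : X.Modules) (φ : A ⟶ CohB1.tensorPow L ν), 0 < ν ∧ CohB1.IsAmple A ∧ Mono φ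

omit [X.Over (Spec (CommRingCat.of k))] [IsProper (X ↘ Spec (CommRingCat.of k))] in
theorem exists_mono_of_section {G P P' : X.Modules} (hG : PicF.IsInvertible G) (hP : PicF.IsInvertible P)
    (hPP' : ClSub.IsInverseOf P P') {s : Γ(CohB1.tensorMod G P', (⊤ : X.Opens))} (hs : s ≠ 0) :
    ∃ φ : P ⟶ G, Mono φ := by
  have hP' := PicAux.isInvertible_of_isInverseOf hP hPP'
  have := mono_mulSec_of_ne_zero (isInvertible_tensorMod hG hP') hs hP
  exact ⟨mulSec s P ≫ ((tensor_left_comm P G P').some ≪≫ (tensor_congr ⟨Iso.refl G⟩ hPP').some ≪≫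
    (tensor_comm G _).some ≪≫ (tensor_one G).some).hom, mono_comp _ _⟩

include k in
theorem hasAmpleSub_of_dim_zero (h0 : topologicalKrullDim X ≤ ((0 : ℕ) : WithBot ℕ∞)) {L : X.Modules}
    (hL : PicF.IsInvertible L) : HasAmpleSub L := by
  obtain ⟨M, -, hLM⟩ := exists_isInverseOf hL
  refine ⟨1, L, (tensor_one L).some.inv, one_pos, isAmple_of_delta_pos k hL hLM fun ξ d hd => ?_,
    inferInstance⟩
  have := ((topologicalKrullDim_subspace_le X (closure ({ξ} : Set X))).trans h0)
  rw [hd] at this
  exact absurd (show d + 1 ≤ 0 by exact_mod_cast this) (Nat.not_succ_le_zero d)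

/-- One step along an ample divisor. -/
theorem exists_divisor {H : X.Modules} (hH : CohB1.IsAmple H) {e : ℕ}
    (hd : topologicalKrullDim X ≤ ((e + 1 : ℕ) : WithBot ℕ∞)) :
    ∃ (P P' Q : X.Modules), CohB1.IsAmple P ∧ ClSub.IsInverseOf P P' ∧ Coh.IsCoh Q ∧
      topologicalKrullDim (CohB1.support Q) ≤ (e : ℕ) ∧
      ∀ T : X.Modules, PicF.IsInvertible T →
        Module.finrank k (Coh.HH X T 0) ≤ Module.finrank k (Coh.HH X (CohB1.tensorMod T P') 0) +
          Module.finrank k (Coh.HH X (CohB1.tensorMod Q T) 0) := by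
  have hN : IsNoetherian X := isNoetherian k
  obtain ⟨p, t, hgt, -, -⟩ := exists_affine_gloc_finite hH {genericPoint X} (Set.finite_singleton _) ⊤
    (fun _ _ => trivial)
  let P := CohB1.tensorPow H (p + 1)
  have hPa : CohB1.IsAmple P := haveI := hH.2.1
    (Ega2Proj.isAmple_tensorPow_iff hH.1 (p + 1) p.succ_pos).1 hH
  obtain ⟨P', hP', hPP'⟩ := exists_isInverseOf hPa.1
  let O := Coh.structureModule X
  have hO : PicF.IsInvertible O := EulerDeg.isInvertible_structureModule X
  have hOc : Coh.IsCoh O := isCoh_of_isInvertible hO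
  have ht : t ≠ 0 := by
    intro h
    have hb := mulSec_stalk_bijective t O (hgt rfl)
    have hz : mulSec t O = 0 := by
      ext V a
      change (mulSec t O).app V a = 0
      rw [mulSec_app, h, res_zero]
      exact tmulSec_zero_right a
    rw [hz, Functor.map_zero] at hb
    have : Nontrivial (O.presheaf.stalk (genericPoint X)) :=
      (RefRank.oneEquiv (genericPoint X)).toEquiv.nontrivial_congr.1 inferInstance
    obtain ⟨a, ha⟩ := exists_ne (0 : O.presheaf.stalk (genericPoint X))
    exact ha (hb.1 rfl)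
  let f := mulSec t O
  have : Mono f := mono_mulSec_of_ne_zero hPa.1 ht hO
  have hOP : Coh.IsCoh (CohB1.tensorMod O P) :=
    RefRank.isCoh_tensorMod hOc (isCoh_of_isInvertible hPa.1)
  have := hOc.1
  have := hOP.1
  have hC : Coh.IsCoh (cokernel f) := QCohMod.isCoh_cokernel f hOP
  refine ⟨P, P', CohB1.tensorMod (cokernel f) P', hPa, hPP',
    RefRank.isCoh_tensorMod hC (isCoh_of_isInvertible hP'), ?_, fun T hT => ?_⟩
  · refine (LocCohTransform.topologicalKrullDim_mono (HilbStab.support_tensorMod_subset hP' _)).trans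
      (lt_natCast_succ_iff.1 (lt_of_lt_of_le (LocCohTransform.topologicalKrullDim_lt_of_ssubset
        (Set.subset_univ _) (fun h => support_cokernel_mulSec_subset t O (h trivial) (hgt rfl))
        (CohTwo.isClosed_support _ hC) isClosed_univ (IrreducibleSpace.isIrreducible_univ X) ?_) ?_))
    · rw [IsHomeomorph.topologicalKrullDim_eq _ (Homeomorph.Set.univ X).isHomeomorph]
      exact lt_of_le_of_lt hd (WithBot.coe_lt_coe.2 (ENat.natCast_lt_top _))
    · rw [IsHomeomorph.topologicalKrullDim_eq _ (Homeomorph.Set.univ X).isHomeomorph]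
      exact hd
  · have hU : PicF.IsInvertible (CohB1.tensorMod P' T) := isInvertible_tensorMod hP' hT
    have hle := finrank_h0_le_add k (shortExact_tensorRightMod hU (CohTwo.cokerSeq_shortExact f))
      (RefRank.isCoh_tensorMod hOc (isCoh_of_isInvertible hU))
      (RefRank.isCoh_tensorMod hOP (isCoh_of_isInvertible hU))
      (RefRank.isCoh_tensorMod hC (isCoh_of_isInvertible hU))
    change Module.finrank k (Coh.HH X (CohB1.tensorMod (CohB1.tensorMod O P) (CohB1.tensorMod P' T)) 0) ≤
      Module.finrank k (Coh.HH X (CohB1.tensorMod O (CohB1.tensorMod P' T)) 0) +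
        Module.finrank k (Coh.HH X (CohB1.tensorMod (cokernel f) (CohB1.tensorMod P' T)) 0) at hle
    rw [finrank_h0_congr k ((tensor_congr (tensor_one P) ⟨Iso.refl _⟩).some ≪≫
        (tensor_assoc P P' T).some.symm ≪≫ (tensor_congr hPP' ⟨Iso.refl T⟩).some ≪≫ (tensor_one T).some),
      finrank_h0_congr k ((tensor_one _).some ≪≫ (tensor_comm P' T).some),
      finrank_h0_congr k (tensor_assoc (cokernel f) P' T).some.symm] at hle
    exact hle

/-- Maximal growth implies bigness. -/
theorem hasAmpleSub_of_growth {n : ℕ} (hn : topologicalKrullDim X = (n : WithBot ℕ∞)) {H L : X.Modules}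
    (hH : CohB1.IsAmple H) (hL : PicF.IsInvertible L)
    (hg : ∃ ν a : ℕ, 0 < ν ∧ 0 < a ∧ ∀ μ : ℕ, 1 ≤ μ →
        μ ^ n ≤ a * Module.finrank k (Coh.HH X (CohB1.tensorPow L (ν * μ)) 0)) : HasAmpleSub L := by
  cases n with
  | zero => exact hasAmpleSub_of_dim_zero k hn.le hL
  | succ e =>
    obtain ⟨ν, a, hν, ha, h⟩ := hg
    obtain ⟨P, P', Q, hP, hPP', hQ, hQd, hle⟩ := exists_divisor k hH hn.le
    obtain ⟨C, hC⟩ := bnd_of_dim k hH hL e hQ hQd
    let μ := a * C * (2 * ν) ^ e + 1
    have hμ : 0 < ν * μ := Nat.mul_pos hν (Nat.succ_pos _)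
    have hpos : 0 < Module.finrank k (Coh.HH X (CohB1.tensorMod (CohB1.tensorPow L (ν * μ)) P') 0) := by
      by_contra h0
      have h1 := (hle _ (isInvertible_tensorPow hL (ν * μ))).trans
        (Nat.add_le_add (Nat.le_of_not_lt h0) (hC (ν * μ)))
      rw [Nat.zero_add] at h1
      have h2 : (ν * μ + 1) ^ e ≤ (2 * ν) ^ e * μ ^ e := by
        rw [← mul_pow]
        exact Nat.pow_le_pow_left (by rw [mul_assoc]; omega) e
      have h3 : μ * μ ^ e ≤ (a * C * (2 * ν) ^ e) * μ ^ e := by
        rw [← pow_succ']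
        calc μ ^ (e + 1) ≤ a * (C * (ν * μ + 1) ^ e) :=
              (h μ (Nat.le_add_left 1 _)).trans (Nat.mul_le_mul_left a h1)
          _ ≤ a * (C * ((2 * ν) ^ e * μ ^ e)) := Nat.mul_le_mul_left a (Nat.mul_le_mul_left C h2)
          _ = _ := by ring
      exact absurd (Nat.le_of_mul_le_mul_right h3 (pow_pos (Nat.succ_pos _) e)) (Nat.not_succ_le_self _)
    obtain ⟨s, hs⟩ := exists_ne_zero_of_finrank_pos k hpos
    obtain ⟨φ, hφ⟩ := exists_mono_of_section (isInvertible_tensorPow hL (ν * μ)) hP.1 hPP' hs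
    exact ⟨ν * μ, P, φ, hμ, hP, hφ⟩

/-- Powers of a monomorphism. -/
theorem exists_mono_pow {A G : X.Modules} (hA : PicF.IsInvertible A) (hG : PicF.IsInvertible G)
    (φ : A ⟶ G) [Mono φ] : ∀ j : ℕ, ∃ ψ : CohB1.tensorPow A j ⟶ CohB1.tensorPow G j, Mono ψ
  | 0 => ⟨𝟙 (Coh.structureModule X), @IsIso.mono_of_iso _ _ _ _ (𝟙 (Coh.structureModule X)) inferInstance⟩
  | j + 1 => by
    obtain ⟨ψ, hψ⟩ := exists_mono_pow hA hG φ j
    have m1 : Mono ((DCoh.tensorRightMod A).map ψ) :=
      (shortExact_tensorRightMod hA (@CohTwo.cokerSeq_shortExact _ _ _ ψ hψ)).mono_f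
    have m2 : Mono ((DCoh.tensorRightMod (CohB1.tensorPow G j)).map φ) :=
      (shortExact_tensorRightMod (isInvertible_tensorPow hG j) (CohTwo.cokerSeq_shortExact φ)).mono_f
    let g := (DCoh.tensorRightMod A).map ψ
    let g' := (DCoh.tensorRightMod (CohB1.tensorPow G j)).map φ
    exact ⟨g ≫ (tensor_comm (CohB1.tensorPow G j) A).some.hom ≫ g' ≫
      (tensor_comm G (CohB1.tensorPow G j)).some.hom,
      @mono_comp _ _ _ _ _ g m1 _ (@mono_comp _ _ _ _ _ _ inferInstance _
        (@mono_comp _ _ _ _ _ g' m2 _ inferInstance))⟩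

/-- Bigness implies maximal growth. -/
theorem growth_of_hasAmpleSub {n : ℕ} (hn : topologicalKrullDim X = (n : WithBot ℕ∞)) {L : X.Modules}
    (hL : PicF.IsInvertible L) (hb : HasAmpleSub L) :
    ∃ ν a : ℕ, 0 < ν ∧ 0 < a ∧ ∀ μ : ℕ, 1 ≤ μ →
      μ ^ n ≤ a * Module.finrank k (Coh.HH X (CohB1.tensorPow L (ν * μ)) 0) := by
  obtain ⟨ν₀, A, φ, hν₀, hA, hφ⟩ := hb
  have hN : IsNoetherian X := isNoetherian k
  obtain ⟨B, -, hAB⟩ := exists_isInverseOf hA.1
  obtain ⟨a, ha, hlow⟩ := exists_ample_lower k n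
  obtain ⟨t, ht⟩ := hlow X A B hA hAB hn
  refine ⟨ν₀ * (t + 1), a, Nat.mul_pos hν₀ t.succ_pos, ha, fun μ hμ => ?_⟩
  obtain ⟨ψ, hψ⟩ := exists_mono_pow hA.1 (isInvertible_tensorPow hL ν₀) φ ((t + 1) * μ)
  have hc : Coh.IsCoh (CohB1.tensorPow (CohB1.tensorPow L ν₀) ((t + 1) * μ)) :=
    isCoh_of_isInvertible (isInvertible_tensorPow (isInvertible_tensorPow hL ν₀) _)
  have h1 := @finrank_h0_le_of_mono k _ X _ _ _ _ ψ hψ hc
  rw [finrank_h0_congr k (tensorPow_mul' L ν₀ _).some, ← Nat.mul_assoc] at h1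
  have hj : t ≤ (t + 1) * μ := le_trans (Nat.le_succ t) (Nat.le_mul_of_pos_right _ hμ)
  have hpos : 0 < delta k (List.replicate n B) (Coh.structureModule X) := by
    refine delta_pos k _ (fun N hN => (List.eq_of_mem_replicate hN).symm ▸ ⟨A, hA, hAB⟩) _
      (isCoh_of_isInvertible (EulerDeg.isInvertible_structureModule X)) ?_
    have hs : CohB1.support (Coh.structureModule X) = Set.univ := Set.eq_univ_of_forall fun x h => by
      have := (RefRank.oneEquiv x).toEquiv.nontrivial_congr.1 inferInstance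
      exact not_subsingleton _ h
    rw [hs, IsHomeomorph.topologicalKrullDim_eq _ (Homeomorph.Set.univ X).isHomeomorph, hn,
      List.length_replicate]
  have h2 : ((μ ^ n : ℕ) : ℤ) ≤ delta k (List.replicate n B) (Coh.structureModule X) *
      ((((t + 1) * μ : ℕ)) : ℤ) ^ n := by
    rw [Nat.cast_pow]
    refine le_trans ?_ (le_mul_of_one_le_left (by positivity) hpos)
    gcongr
    exact Nat.le_mul_of_pos_left μ t.succ_pos
  have h3 := h2.trans (ht _ hj)
  exact le_trans (by exact_mod_cast h3) (Nat.mul_le_mul_left a h1)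

/-- A nef module with positive top self-intersection is big. -/
theorem hasAmpleSub_of_pos {n : ℕ} (hn : topologicalKrullDim X = (n : WithBot ℕ∞)) {H L M : X.Modules}
    (hH : CohB1.IsAmple H) (hL : PicF.IsInvertible L) (hLM : ClSub.IsInverseOf L M)
    (hnef : Nonneg k [M]) (hpos : 0 < delta k (List.replicate n M) (Coh.structureModule X)) :
    HasAmpleSub L := by
  cases n with
  | zero => exact hasAmpleSub_of_dim_zero k hn.le hL
  | succ e =>
    have hN : IsNoetherian X := isNoetherian k
    obtain ⟨P, P', Q, hP, hPP', hQ, hQd, hle⟩ := exists_divisor k hH hn.le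
    obtain ⟨C, hC⟩ := bndFam_of_dim k hH hL hP.1 e hQ hQd
    obtain ⟨c, hc, hlow⟩ := exists_ample_lower k (e + 1)
    let a := c * (2 * 3 ^ e * C) + 1
    let O := Coh.structureModule X
    have hOc : Coh.IsCoh O := isCoh_of_isInvertible (EulerDeg.isInvertible_structureModule X)
    have hOd : topologicalKrullDim (CohB1.support O) ≤ ((e + 1 : ℕ) : WithBot ℕ∞) :=
      ((LocCohTransform.topologicalKrullDim_mono (Set.subset_univ _)).trans
        (IsHomeomorph.topologicalKrullDim_eq _ (Homeomorph.Set.univ X).isHomeomorph).le).trans hn.le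
    have hM : PicF.IsInvertible M := PicAux.isInvertible_of_isInverseOf hL hLM
    have hP' := PicAux.isInvertible_of_isInverseOf hP.1 hPP'
    let F := CohB1.tensorMod (CohB1.tensorPow L a) P
    have hF : CohB1.IsAmple F := isAmple_nef_tensor_ample k hP hL hLM hnef a
    let Cv := CohB1.tensorMod (CohB1.tensorPow P' 1) (CohB1.tensorPow M a)
    have hFC : ClSub.IsInverseOf F Cv :=
      ⟨(tensor_congr ⟨(tensor_comm _ _).some ≪≫
        (tensor_congr ⟨(tensor_one P).some.symm⟩ ⟨Iso.refl _⟩).some⟩ ⟨Iso.refl Cv⟩).some ≪≫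
        (isInverseOf_comb hPP' hLM 1 a).some⟩
    obtain ⟨t, ht⟩ := hlow X F Cv hF hFC hn
    let s := t + 1
    have hδ : (a : ℤ) ^ (e + 1) ≤ delta k (List.replicate (e + 1) Cv) O := by
      have h := delta_comb_replicate k hP' hM 1 a hOc (e + 1) [] (by simp) (by simpa using hOd)
      simp only [List.append_nil] at h
      rw [h]
      refine le_trans ?_ (Finset.single_le_sum (fun j hj => ?_) (Finset.self_mem_range_succ (e + 1)))
      · simp only [Nat.choose_self, Nat.sub_self, List.replicate_zero, List.append_nil, Nat.cast_one,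
          one_pow, one_mul, mul_one]
        exact le_mul_of_one_le_right (by positivity) hpos
      · rw [Finset.mem_range] at hj
        have := nonneg_mixed k hP hPP' hL hLM hnef j (e + 1 - j) O hOc
          (by simpa [Nat.add_sub_cancel' (show j ≤ e + 1 by omega)] using hOd)
        positivity
    have hup : ∀ y, y ≤ s → Module.finrank k (Coh.HH X
        (CohB1.tensorMod (CohB1.tensorPow L (a * s)) (CohB1.tensorPow P y)) 0) ≤
        Module.finrank k (Coh.HH X (CohB1.tensorMod (CohB1.tensorPow L (a * s)) P') 0) +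
          (y + 1) * (C * (a * s + s + 1) ^ e) := by
      intro y
      induction y with
      | zero =>
        intro _
        have i0 : CohB1.tensorMod (CohB1.tensorPow L (a * s)) (CohB1.tensorPow P 0) ≅
            CohB1.tensorPow L (a * s) := (tensor_comm _ _).some ≪≫ (tensor_one _).some
        have u := hle _ (isInvertible_tensorMod (isInvertible_tensorPow hL (a * s)) (isInvertible_tensorPow hP.1 0))
        rw [finrank_h0_congr k (tensor_congr ⟨i0⟩ ⟨Iso.refl P'⟩).some] at u
        refine u.trans (Nat.add_le_add_left ((hC (a * s, 0)).trans ?_) _)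
        rw [Nat.zero_add, one_mul]
        exact Nat.mul_le_mul_left C (Nat.pow_le_pow_left (by simp) e)
      | succ y ih =>
        intro hy
        have u := hle _ (isInvertible_tensorMod (isInvertible_tensorPow hL (a * s))
          (isInvertible_tensorPow hP.1 (y + 1)))
        have i1 : CohB1.tensorMod (CohB1.tensorMod (CohB1.tensorPow L (a * s))
            (CohB1.tensorPow P (y + 1))) P' ≅
            CohB1.tensorMod (CohB1.tensorPow L (a * s)) (CohB1.tensorPow P y) :=
          (tensor_assoc _ _ P').some ≪≫ (tensor_congr ⟨Iso.refl _⟩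
            ⟨(tensor_assoc (CohB1.tensorPow P y) P P').some ≪≫
              (tensor_congr ⟨Iso.refl _⟩ hPP').some ≪≫ (tensor_comm _ _).some ≪≫ (tensor_one _).some⟩).some
        rw [finrank_h0_congr k i1] at u
        refine u.trans ((Nat.add_le_add (ih (by omega)) ((hC (a * s, y + 1)).trans
          (Nat.mul_le_mul_left C (Nat.pow_le_pow_left (show a * s + (y + 1) + 1 ≤ a * s + s + 1 by omega) e)))).trans
          (le_of_eq ?_))
        ring
    have eF : CohB1.tensorPow F s ≅ CohB1.tensorMod (CohB1.tensorPow L (a * s)) (CohB1.tensorPow P s) :=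
      (tensorPow_tensorMod' _ P s).some ≪≫
        (tensor_congr (tensorPow_mul' L a s) ⟨Iso.refl _⟩).some
    have hpos0 : 0 < Module.finrank k (Coh.HH X (CohB1.tensorMod (CohB1.tensorPow L (a * s)) P') 0) := by
      by_contra h0
      have u := (finrank_h0_congr k eF).trans_le ((hup s le_rfl).trans
        (Nat.add_le_add_right (Nat.le_of_not_lt h0) _))
      rw [Nat.zero_add] at u
      have hs1 : 1 ≤ s := Nat.le_add_left 1 t
      have ha1 : 1 ≤ a := Nat.le_add_left 1 _
      have v : (a * s + s + 1) ^ e ≤ 3 ^ e * (a ^ e * s ^ e) := by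
        rw [← mul_pow, ← mul_pow]
        exact Nat.pow_le_pow_left (by nlinarith) e
      have w : (s + 1) * (C * (a * s + s + 1) ^ e) ≤ (2 * s) * (C * (3 ^ e * (a ^ e * s ^ e))) :=
        Nat.mul_le_mul (by omega) (Nat.mul_le_mul_left C v)
      have key : ((a ^ (e + 1) * s ^ (e + 1) : ℕ) : ℤ) ≤
          ((c * ((2 * s) * (C * (3 ^ e * (a ^ e * s ^ e)))) : ℕ) : ℤ) := by
        refine le_trans ?_ ((ht s (Nat.le_succ t)).trans ?_)
        · push_cast
          exact mul_le_mul_of_nonneg_right hδ (by positivity)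
        · rw [← Nat.cast_mul]
          exact Int.ofNat_le.2 (Nat.mul_le_mul_left c (u.trans w))
      have key' : a * (a ^ e * (s * s ^ e)) ≤ c * (2 * 3 ^ e * C) * (a ^ e * (s * s ^ e)) := by
        have := Int.ofNat_le.1 key
        calc a * (a ^ e * (s * s ^ e)) = a ^ (e + 1) * s ^ (e + 1) := by ring
          _ ≤ _ := this
          _ = _ := by ring
      exact absurd (Nat.le_of_mul_le_mul_right key'
        (Nat.mul_pos (pow_pos ha1 e) (Nat.mul_pos hs1 (pow_pos hs1 e)))) (Nat.not_succ_le_self _)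
    obtain ⟨σ, hσ⟩ := exists_ne_zero_of_finrank_pos k hpos0
    obtain ⟨φ, hφ⟩ := exists_mono_of_section (isInvertible_tensorPow hL (a * s)) hP.1 hPP' hσ
    exact ⟨a * s, P, φ, Nat.mul_pos (Nat.succ_pos _) (Nat.succ_pos _), hP, hφ⟩

/-- A big nef module has positive top self-intersection. -/
theorem pos_of_hasAmpleSub {n : ℕ} (hn : topologicalKrullDim X = (n : WithBot ℕ∞)) {L M : X.Modules}
    (hL : PicF.IsInvertible L) (hLM : ClSub.IsInverseOf L M) (hnef : Nonneg k [M]) (hb : HasAmpleSub L) :
    0 < delta k (List.replicate n M) (Coh.structureModule X) := by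
  obtain ⟨ν, A, φ, hν, hA, hφ⟩ := hb
  have hN : IsNoetherian X := isNoetherian k
  obtain ⟨B, hB, hAB⟩ := exists_isInverseOf hA.1
  have hM : PicF.IsInvertible M := PicAux.isInvertible_of_isInverseOf hL hLM
  let O := Coh.structureModule X
  have hOc : Coh.IsCoh O := isCoh_of_isInvertible (EulerDeg.isInvertible_structureModule X)
  have hOs : CohB1.support O = Set.univ := Set.eq_univ_of_forall fun x h => by
    have := (RefRank.oneEquiv x).toEquiv.nontrivial_congr.1 inferInstance
    exact not_subsingleton _ h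
  have hOd : topologicalKrullDim (CohB1.support O) = (n : WithBot ℕ∞) := by
    rw [hOs, IsHomeomorph.topologicalKrullDim_eq _ (Homeomorph.Set.univ X).isHomeomorph, hn]
  let P := CohB1.tensorMod (CohB1.tensorPow L ν) (CohB1.tensorPow B 1)
  let P' := CohB1.tensorMod (CohB1.tensorPow M ν) (CohB1.tensorPow A 1)
  have hP : PicF.IsInvertible P :=
    isInvertible_tensorMod (isInvertible_tensorPow hL ν) (isInvertible_tensorPow hB 1)
  have hPP' : ClSub.IsInverseOf P P' := isInverseOf_comb hLM (PicAux.isInverseOf_symm hAB) ν 1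
  have hBm : Mono ((DCoh.tensorRightMod B).map φ) :=
    (shortExact_tensorRightMod hB (@CohTwo.cokerSeq_shortExact _ _ _ φ hφ)).mono_f
  let g := (DCoh.tensorRightMod B).map φ
  let ψ : O ⟶ P := hAB.some.inv ≫ g ≫ (tensor_congr ⟨Iso.refl (CohB1.tensorPow L ν)⟩
    ⟨(tensor_one B).some.symm⟩).some.hom
  have hψ : Mono ψ := @mono_comp _ _ _ _ _ _ inferInstance _
    (@mono_comp _ _ _ _ _ g hBm _ inferInstance)
  have hs : ψ.app ⊤ (oneSec X ⊤) ≠ 0 := fun h => by
    have hz : ψ = 0 := hom_structure_ext (by rw [h]; rfl)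
    have := @IsZero.of_mono_eq_zero _ _ _ _ _ ψ hψ hz
    exact (((QCohMod.isZero_iff_support_eq_empty O).1 this) ▸ hOs ▸ (Set.univ_nonempty :
      (Set.univ : Set X).Nonempty)).ne_empty rfl
  suffices h : ∀ q, q ≤ n → 0 < delta k (List.replicate q M ++ List.replicate (n - q) B) O by
    simpa using h n le_rfl
  intro q
  induction q with
  | zero =>
    intro _
    simpa using delta_pos k (List.replicate n B)
      (fun N hN => (List.eq_of_mem_replicate hN).symm ▸ ⟨A, hA, hAB⟩) O hOc (by simpa using hOd)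
  | succ q ih =>
    intro hq
    let l := List.replicate q M ++ List.replicate (n - (q + 1)) B
    have hlen : l.length + 1 = n := by simp [l]; omega
    have hl : ∀ N ∈ l, PicF.IsInvertible N := fun N hN => by
      simp only [l, List.mem_append, List.mem_replicate] at hN
      rcases hN with ⟨-, rfl⟩ | ⟨-, rfl⟩
      exacts [hM, hB]
    have e1 : delta k (B :: l) O = delta k (List.replicate q M ++ List.replicate (n - q) B) O := by
      refine delta_perm k ?_ O
      rw [show n - q = n - (q + 1) + 1 by omega, List.replicate_succ]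
      exact List.perm_middle.symm
    have e2 : delta k (M :: l) O = delta k (List.replicate (q + 1) M ++ List.replicate (n - (q + 1)) B) O := by
      rw [List.replicate_succ]
      rfl
    have h := delta_nonneg_of_section k hP hPP' hs hl (nonneg_mixed k hA hAB hL hLM hnef q _)
      (by rw [hlen]; exact hn.le)
    rw [delta_comb_cons k hM hA.1 ν 1 hl hOc (by rw [hlen]; exact hOd.le),
      delta_inverse_cons k hA.1 hAB hl hOc (by rw [hlen]; exact hOd.le), e1, e2, Nat.cast_one, one_mul] at h
    exact pos_of_mul_pos_right (lt_of_lt_of_le (ih (by omega)) (by linarith)) (Int.natCast_nonneg ν)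

end Groth.Inter
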