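import Groth.Agent.Inter.Twist
import Groth.Agent.Inter.Chi
import Groth.Agent.CohTwo.CohInduction
import Groth.Agent.CohTwo.Graft
import Groth.Agent.LocCohTransform.ConnDim

/-!
# Iterated differences of the Euler characteristic

`delta k [M₁, …, M_r] F = Δ_{M₁} ⋯ Δ_{M_r} χ(F)` with `Δ_M χ(F) = χ(F) - χ(M ⊗ F)`.  It is
`FGA.intNum`; it is symmetric, additive in `F`, vanishes when `dim Supp F < r`, and therefore is
additive in each `Mᵢ` when `dim Supp F ≤ r`.
-/

universe u

open CategoryTheory CategoryTheory.Limits AlgebraicGeometry TopologicalSpace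

namespace Groth.Inter

variable (k : Type u) [Field k] {X : Scheme.{u}} [X.Over (Spec (CommRingCat.of k))]

/-- Iterated differences of `χ`. -/
noncomputable def delta : List X.Modules → X.Modules → ℤ
  | [], F => Curv2.euler k X F
  | a :: l, F => delta l F - delta l (CohB1.tensorMod a F)

@[simp] lemma delta_nil (F : X.Modules) : delta k [] F = Curv2.euler k X F := rfl

@[simp] lemma delta_cons (a : X.Modules) (l : List X.Modules) (F : X.Modules) :
    delta k (a :: l) F = delta k l F - delta k l (CohB1.tensorMod a F) := rfl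

lemma delta_congr (l : List X.Modules) : ∀ {F G : X.Modules}, Nonempty (F ≅ G) →
    delta k l F = delta k l G := by
  induction l with
  | nil => rintro F G ⟨e⟩; exact EulerDeg.euler_congr k e
  | cons a l ih =>
    intro F G e
    simp only [delta_cons]
    rw [ih e, ih (tensor_congr ⟨Iso.refl a⟩ e)]

lemma delta_congr_list {l l' : List X.Modules} (h : List.Forall₂ (fun a b => Nonempty (a ≅ b)) l l') :
    ∀ F : X.Modules, delta k l F = delta k l' F := by
  induction h with
  | nil => exact fun F => rfl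
  | cons hab _ ih =>
    intro F
    simp only [delta_cons]
    rw [ih, ih, delta_congr k _ (tensor_congr hab ⟨Iso.refl F⟩)]

lemma delta_perm {l l' : List X.Modules} (h : l.Perm l') :
    ∀ F : X.Modules, delta k l F = delta k l' F := by
  induction h with
  | nil => exact fun F => rfl
  | cons a _ ih => intro F; simp only [delta_cons]; rw [ih, ih]
  | swap a b l =>
    intro F
    simp only [delta_cons]
    rw [delta_congr k l (tensor_left_comm a b F)]
    ring
  | trans _ _ h₁ h₂ => exact fun F => (h₁ F).trans (h₂ F)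

/-- Difference in a twist. -/
lemma delta_twist (a : X.Modules) (l : List X.Modules) (F : X.Modules) :
    delta k l (CohB1.tensorMod a F) = delta k l F - delta k (a :: l) F := by
  simp

theorem sum_powerset_eq_delta {ι : Type*} (M : ι → X.Modules) (s : Finset ι) :
    ∀ F : X.Modules, ∑ I ∈ s.powerset, (-1 : ℤ) ^ I.card *
      Curv2.euler k X (CohB1.tensorMod (FGA.tensorList (I.toList.map M)) F) =
        delta k (s.toList.map M) F := by
  classical
  induction s using Finset.induction_on with
  | empty =>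
    intro F
    simpa [FGA.tensorList] using EulerDeg.euler_congr k (tensor_one F).some
  | @insert a s ha ih =>
    intro F
    have hs : ∀ I ∈ s.powerset, a ∉ I := fun I hI h => ha (Finset.mem_powerset.1 hI h)
    rw [delta_perm k ((Finset.toList_insert ha).map M) F, List.map_cons, delta_cons, ← ih, ← ih,
      Finset.sum_powerset_insert ha, ← Finset.sum_sub_distrib, ← Finset.sum_add_distrib]
    refine Finset.sum_congr rfl fun I hI => ?_
    have e : Curv2.euler k X (CohB1.tensorMod (FGA.tensorList ((insert a I).toList.map M)) F) =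
        Curv2.euler k X
          (CohB1.tensorMod (FGA.tensorList (I.toList.map M)) (CohB1.tensorMod (M a) F)) :=
      EulerDeg.euler_congr k ((tensor_congr (tensorList_perm ((Finset.toList_insert (hs I hI)).map M))
        ⟨Iso.refl F⟩).some ≪≫ (tensorList_cons_tensor (M a) _ F).some)
    rw [e, Finset.card_insert_of_notMem (hs I hI), pow_succ]
    ring

/-- `FGA.intNum` is the iterated difference. -/
theorem intNum_eq [IsProper (X ↘ Spec (CommRingCat.of k))] {d : ℕ} (hd : topologicalKrullDim X ≤ d)
    {r : ℕ} (M : Fin r → X.Modules) (F : X.Modules) :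
    FGA.intNum k X d M F = delta k (List.ofFn M) F := by
  classical
  have h := sum_powerset_eq_delta k M Finset.univ F
  rw [Finset.powerset_univ] at h
  have hp : (Finset.univ : Finset (Fin r)).toList.Perm (List.finRange r) :=
    (List.perm_ext_iff_of_nodup (Finset.nodup_toList _) (List.nodup_finRange r)).2 (by simp)
  rw [FGA.intNum, List.ofFn_eq_map, ← delta_perm k (hp.map M), ← h]
  refine Finset.sum_congr rfl fun I _ => ?_
  rw [eulerCharLE_eq k hd, EulerDeg.euler_congr k
    (tensor_congr (tensorList_perm (((I.sort_perm_toList (· ≤ ·))).map M)) ⟨Iso.refl F⟩).some]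

variable [IsProper (X ↘ Spec (CommRingCat.of k))]

theorem delta_add {l : List X.Modules} (hl : ∀ M ∈ l, PicF.IsInvertible M) :
    ∀ {S : ShortComplex X.Modules}, S.ShortExact → Coh.IsCoh S.X₁ → Coh.IsCoh S.X₃ →
      delta k l S.X₂ = delta k l S.X₁ + delta k l S.X₃ := by
  induction l with
  | nil => exact fun hS h₁ h₃ => euler_add k hS h₁ h₃
  | cons a l ih =>
    intro S hS h₁ h₃
    have ih' := @ih fun M hM => hl M (by simp [hM])
    have ha : PicF.IsInvertible a := hl a (by simp)
    obtain ⟨S', hS', ⟨e₁⟩, ⟨e₂⟩, ⟨e₃⟩⟩ := exists_shortExact_twist ha hS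
    have hadd := ih' hS' (QCohMod.isCoh_of_iso e₁.symm (isCoh_twist ha h₁))
      (QCohMod.isCoh_of_iso e₃.symm (isCoh_twist ha h₃))
    rw [delta_congr k l ⟨e₁⟩, delta_congr k l ⟨e₂⟩, delta_congr k l ⟨e₃⟩] at hadd
    simp only [delta_cons]
    rw [ih' hS h₁ h₃, hadd]
    ring

omit [IsProper (X ↘ Spec (CommRingCat.of k))] in
lemma euler_eq_zero_of_support {F : X.Modules} (h : CohB1.support F = ∅) :
    Curv2.euler k X F = 0 :=
  euler_of_isZero k ((QCohMod.isZero_iff_support_eq_empty F).2 h)

omit [IsProper (X ↘ Spec (CommRingCat.of k))] in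
lemma delta_of_isZero (l : List X.Modules) : ∀ {F : X.Modules}, IsZero F → delta k l F = 0 := by
  induction l with
  | nil => exact fun hF => euler_of_isZero k hF
  | cons a l ih =>
    intro F hF
    have h0 : CohB1.support (CohB1.tensorMod a F) = ∅ := Set.subset_eq_empty
      (support_twist_subset a F) ((QCohMod.isZero_iff_support_eq_empty F).1 hF)
    simp only [delta_cons]
    rw [ih hF, ih ((QCohMod.isZero_iff_support_eq_empty _).2 h0), sub_zero]

omit [IsProper (X ↘ Spec (CommRingCat.of k))] in
lemma support_eq_empty_of_dim_lt_zero {Z : Set X} (h : topologicalKrullDim Z < (0 : ℕ)) : Z = ∅ := by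
  by_contra hne
  obtain ⟨z, hz⟩ := Set.nonempty_iff_ne_empty.2 hne
  have : Nonempty (IrreducibleCloseds Z) :=
    ⟨⟨closure {⟨z, hz⟩}, isIrreducible_singleton.closure, isClosed_closure⟩⟩
  exact not_lt.2 (Order.krullDim_nonneg (α := IrreducibleCloseds Z)) h

lemma lt_natCast_succ_iff {a : WithBot ℕ∞} {n : ℕ} :
    a < ((n + 1 : ℕ) : WithBot ℕ∞) ↔ a ≤ (n : ℕ) := by
  cases a with
  | bot => exact iff_of_true (WithBot.bot_lt_coe _) bot_le
  | coe a =>
    change (a : WithBot ℕ∞) < (((n + 1 : ℕ) : ℕ∞) : WithBot ℕ∞) ↔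
      (a : WithBot ℕ∞) ≤ ((n : ℕ∞) : WithBot ℕ∞)
    rw [WithBot.coe_lt_coe, WithBot.coe_le_coe, Nat.cast_succ,
      ENat.lt_add_one_iff (ENat.natCast_ne_top n)]

/-- On a module supported on an irreducible closed set of dimension `≤ n` a difference is a
difference of two modules supported in dimension `< n`. -/
theorem exists_delta_eq_sub {M : X.Modules} (hM : PicF.IsInvertible M) {Y : Closeds X} {ξ : X}
    (hY : (Y : Set X) = closure {ξ}) {n : ℕ} (hdimY : topologicalKrullDim (Y : Set X) ≤ (n : ℕ))
    {F : X.Modules} (hF : Coh.IsCoh F) (hsuppY : CohB1.support F ⊆ Y) :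
    ∃ Q₁ Q₂ : X.Modules, Coh.IsCoh Q₁ ∧ Coh.IsCoh Q₂ ∧
      topologicalKrullDim (CohB1.support Q₁) < (n : ℕ) ∧ CohB1.support Q₁ ⊆ Y ∧
      topologicalKrullDim (CohB1.support Q₂) < (n : ℕ) ∧ CohB1.support Q₂ ⊆ Y ∧
      ∀ l : List X.Modules, (∀ N ∈ l, PicF.IsInvertible N) →
        delta k (M :: l) F = delta k l Q₁ - delta k l Q₂ := by
  have hN : IsNoetherian X := isNoetherian k
  have := hF.1
  have hMF := isCoh_twist hM hF
  obtain ⟨e⟩ := exists_stalk_equiv_twist hM F ξ
  obtain ⟨J, γ, hξJ, hγ, hbij⟩ := CohTwo.exists_graft hF hMF ξ e.toLinearMap e.bijective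
  have hJ := CohTwo.isCoh_idealMul J F hF
  have := hJ.1
  have small : ∀ {G : X.Modules} (φ : (Dual3.idealMul J).obj F ⟶ G), Coh.IsCoh G →
      CohB1.support G ⊆ Y → Function.Bijective ((QCohMod.stalk ξ).map φ) → Mono φ →
      Coh.IsCoh (cokernel φ) ∧ topologicalKrullDim (CohB1.support (cokernel φ)) < (n : ℕ) ∧
        CohB1.support (cokernel φ) ⊆ Y ∧ ∀ l : List X.Modules, (∀ N ∈ l, PicF.IsInvertible N) →
        delta k l G = delta k l ((Dual3.idealMul J).obj F) + delta k l (cokernel φ) := by
    intro G φ hG hGY hb hφ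
    have hQ := QCohMod.isCoh_cokernel φ hG
    have hQY := (CohTwo.support_subset_of_epi (cokernel.π φ)).trans hGY
    refine ⟨hQ, lt_of_lt_of_le ?_ hdimY, hQY, fun l hl =>
      delta_add k hl (CohTwo.cokerSeq_shortExact φ) hJ hQ⟩
    refine Groth.LocCohTransform.topologicalKrullDim_lt_of_ssubset hQY (fun hsub => ?_)
      (CohTwo.isClosed_support _ hQ) Y.2 ?_ (lt_of_le_of_lt hdimY ?_)
    · exact CohTwo.notMem_support_cokernel φ ξ hb.2 (hsub (by rw [hY]; exact subset_closure rfl))
    · rw [hY]; exact isIrreducible_singleton.closure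
    · exact WithBot.coe_lt_coe.2 (ENat.natCast_lt_top _)
  obtain ⟨c₁, d₁, s₁, a₁⟩ := small (Dual3.idealMulι J F) hF hsuppY
    (CohTwo.bijective_stalk_idealMulι J F hξJ) inferInstance
  obtain ⟨c₂, d₂, s₂, a₂⟩ := small γ hMF ((support_twist_subset M F).trans hsuppY) hbij hγ
  refine ⟨_, _, c₁, c₂, d₁, s₁, d₂, s₂, fun l hl => ?_⟩
  rw [delta_cons, a₁ l hl, a₂ l hl]
  ring

/-- The iterated difference vanishes in dimension less than its order. -/
theorem delta_eq_zero : ∀ (l : List X.Modules), (∀ M ∈ l, PicF.IsInvertible M) →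
    ∀ F : X.Modules, Coh.IsCoh F → topologicalKrullDim (CohB1.support F) < (l.length : ℕ) →
      delta k l F = 0 := by
  intro l
  induction l with
  | nil => exact fun _ F _ h => euler_eq_zero_of_support k (support_eq_empty_of_dim_lt_zero h)
  | cons M l ih =>
    intro hl F₀ hF₀ hdim
    have hN : IsNoetherian X := isNoetherian k
    have hl' : ∀ N ∈ l, PicF.IsInvertible N := fun N hN => hl N (by simp [hN])
    have hM : PicF.IsInvertible M := hl M (by simp)
    refine CohTwo.coh_induction (fun F => delta k (M :: l) F = 0) ?_ ?_ ?_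
      (CohB1.support F₀) ?_ (CohTwo.isClosed_support F₀ hF₀) F₀ hF₀ subset_rfl
    · exact fun A B e h => (delta_congr k _ e).symm.trans h
    · exact fun A hA => delta_of_isZero k _ hA
    · intro S hS c₁ _ c₃ h₁ h₃
      rw [delta_add k hl hS c₁ c₃, h₁, h₃, add_zero]
    · intro Y ξ hY hYX F hF hkill _
      have := hF.1
      have hsuppY : CohB1.support F ⊆ Y := fun x hx => by
        simpa using hkill.support_subset hx
      obtain ⟨Q₁, Q₂, c₁, c₂, d₁, -, d₂, -, h⟩ := exists_delta_eq_sub k hM hY
        (lt_natCast_succ_iff.1 (lt_of_le_of_lt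
          (Groth.LocCohTransform.topologicalKrullDim_mono hYX) hdim)) hF hsuppY
      rw [h l hl', ih hl' Q₁ c₁ d₁, ih hl' Q₂ c₂ d₂, sub_zero]

/-- Additivity in the first entry. -/
theorem delta_tensor {A B : X.Modules} {l : List X.Modules} (hA : PicF.IsInvertible A)
    (hB : PicF.IsInvertible B) (hl : ∀ M ∈ l, PicF.IsInvertible M) {F : X.Modules} (hF : Coh.IsCoh F)
    (hdim : topologicalKrullDim (CohB1.support F) ≤ (l.length + 1 : ℕ)) :
    delta k (CohB1.tensorMod A B :: l) F = delta k (A :: l) F + delta k (B :: l) F := by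
  have h0 : delta k (A :: B :: l) F = 0 := delta_eq_zero k _
    (by rintro M (_ | ⟨_, _ | ⟨_, h⟩⟩) <;> [exact hA; exact hB; exact hl M h]) F hF
    (lt_natCast_succ_iff.2 hdim)
  simp only [delta_cons] at h0 ⊢
  rw [delta_congr k l (tensor_assoc A B F)]
  rw [delta_congr k l (tensor_left_comm B A F)] at h0
  linarith

end Groth.Inter
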