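import Groth.Agent.Inter.KleimanCor
import Groth.Agent.CohTwo.Devissage
import Groth.Agent.VarietyBC.GGen
import Groth.Agent.PnCoh.AmpleVanishing
import Groth.Agent.Chow.QcohExtend

/-!
# The growth of `h⁰` of powers of an invertible module
-/

universe u

open CategoryTheory CategoryTheory.Limits AlgebraicGeometry TopologicalSpace Opposite

namespace Groth.Inter

open Groth.PicAux Groth.HilbStab Groth.PropsBasic.Ample

variable (k : Type u) [Field k] {X : Scheme.{u}} [X.Over (Spec (CommRingCat.of k))]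

/-- `h⁰(F ⊗ L^j) = O(j^r)`. -/
def Bnd (L : X.Modules) (r : ℕ) (F : X.Modules) : Prop :=
  ∃ C : ℕ, ∀ j : ℕ,
    Module.finrank k (Coh.HH X (CohB1.tensorMod F (CohB1.tensorPow L j)) 0) ≤ C * (j + 1) ^ r

variable [IsProper (X ↘ Spec (CommRingCat.of k))]

/-- `h⁰` is subadditive. -/
theorem finrank_h0_le_add {S : ShortComplex X.Modules} (hS : S.ShortExact) (h₁ : Coh.IsCoh S.X₁)
    (h₂ : Coh.IsCoh S.X₂) (h₃ : Coh.IsCoh S.X₃) :
    Module.finrank k (Coh.HH X S.X₂ 0) ≤
      Module.finrank k (Coh.HH X S.X₁ 0) + Module.finrank k (Coh.HH X S.X₃ 0) := by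
  have := (finCoh k h₁).finite 0
  have := (finCoh k h₂).finite 0
  have := (finCoh k h₃).finite 0
  have q1 := LinearMap.finrank_range_add_finrank_ker (EulerDeg.hMap k S.g 0)
  rw [LinearMap.exact_iff.1 (EulerDeg.exact_mid k hS 0),
    LinearMap.finrank_range_of_inj (EulerDeg.injective_zero k hS)] at q1
  have q2 := Submodule.finrank_le (LinearMap.range (EulerDeg.hMap k S.g 0))
  omega

theorem finrank_h0_le_of_mono {A B : X.Modules} (f : A ⟶ B) [Mono f] (hB : Coh.IsCoh B) :
    Module.finrank k (Coh.HH X A 0) ≤ Module.finrank k (Coh.HH X B 0) := by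
  have := (finCoh k hB).finite 0
  have h : Function.Injective (EulerDeg.hMap k (CohTwo.cokerSeq f).f 0) :=
    EulerDeg.injective_zero k (CohTwo.cokerSeq_shortExact f)
  exact LinearMap.finrank_le_finrank_of_injective h

include k in
omit [IsProper (X ↘ Spec (CommRingCat.of k))] in
theorem finrank_h0_congr {A B : X.Modules} (e : A ≅ B) :
    Module.finrank k (Coh.HH X A 0) = Module.finrank k (Coh.HH X B 0) :=
  (EulerDeg.hEquiv k e 0).finrank_eq

variable {L : X.Modules}

omit [IsProper (X ↘ Spec (CommRingCat.of k))] in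
theorem bnd_iso {r : ℕ} {F G : X.Modules} (e : F ≅ G) (h : Bnd k L r F) : Bnd k L r G := by
  obtain ⟨C, hC⟩ := h
  exact ⟨C, fun j => (finrank_h0_congr k (tensor_congr ⟨e⟩ ⟨Iso.refl _⟩).some).symm.trans_le (hC j)⟩

omit [IsProper (X ↘ Spec (CommRingCat.of k))] in
theorem bnd_isZero {r : ℕ} {F : X.Modules} (h : IsZero F) : Bnd k L r F := by
  refine ⟨0, fun j => ?_⟩
  have : Subsingleton (Coh.HH X (CohB1.tensorMod F (CohB1.tensorPow L j)) 0) :=
    Sheaf.subsingleton_H_of_isZero
      ((SheafOfModules.toSheaf X.ringCatSheaf).map_isZero ((tw L j).map_isZero h)) 0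
  rw [Module.finrank_zero_of_subsingleton]
  exact Nat.zero_le _

theorem bnd_ext (hL : PicF.IsInvertible L) {r : ℕ} {S : ShortComplex X.Modules} (hS : S.ShortExact)
    (h₁ : Coh.IsCoh S.X₁) (h₂ : Coh.IsCoh S.X₂) (h₃ : Coh.IsCoh S.X₃)
    (b₁ : Bnd k L r S.X₁) (b₃ : Bnd k L r S.X₃) : Bnd k L r S.X₂ := by
  obtain ⟨C₁, hC₁⟩ := b₁
  obtain ⟨C₃, hC₃⟩ := b₃
  refine ⟨C₁ + C₃, fun j => ?_⟩
  have hP := isInvertible_tensorPow hL j
  have hc : ∀ {F : X.Modules}, Coh.IsCoh F → Coh.IsCoh (CohB1.tensorMod F (CohB1.tensorPow L j)) :=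
    fun hF => RefRank.isCoh_tensorMod hF (isCoh_of_isInvertible hP)
  rw [add_mul]
  exact (finrank_h0_le_add k (shortExact_tensorRightMod hP hS) (hc h₁) (hc h₂) (hc h₃)).trans
    (Nat.add_le_add (hC₁ j) (hC₃ j))

theorem bnd_sub (hL : PicF.IsInvertible L) {r : ℕ} {A B : X.Modules} (f : A ⟶ B) [Mono f]
    (hB : Coh.IsCoh B) (b : Bnd k L r B) : Bnd k L r A := by
  obtain ⟨C, hC⟩ := b
  refine ⟨C, fun j => le_trans ?_ (hC j)⟩
  have hP := isInvertible_tensorPow hL j
  have : Mono ((tw L j).map f) :=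
    (shortExact_tensorRightMod hP (CohTwo.cokerSeq_shortExact f)).mono_f
  exact @finrank_h0_le_of_mono k _ X _ _ _ _ ((tw L j).map f) this
    (RefRank.isCoh_tensorMod hB (isCoh_of_isInvertible hP))

/-- A bound may be tested on integral closed subschemes. -/
theorem bnd_of_integral (hL : PicF.IsInvertible L) {r : ℕ} {F : X.Modules} (hF : Coh.IsCoh F)
    (H : ∀ ξ : X, closure ({ξ} : Set X) ⊆ CohB1.support F →
      (∀ G : X.Modules, Coh.IsCoh G → CohB1.support G ⊆ closure {ξ} → ξ ∉ CohB1.support G → Bnd k L r G) →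
      Bnd k L r (Cyc.closureStructureSheaf ξ)) : Bnd k L r F := by
  have hN : IsNoetherian X := isNoetherian k
  refine CohTwo.coh_induction (Bnd k L r) (fun _ _ e h => bnd_iso k e.some h) (fun _ h => bnd_isZero k h)
    (fun S hS a b c p q => bnd_ext k hL hS a b c p q) (CohB1.support F) ?_
    (CohTwo.isClosed_support F hF) F hF subset_rfl
  intro Y ξ hY hYF G hG hkill hsmall
  obtain rfl : Y = ⟨closure {ξ}, isClosed_closure⟩ := Closeds.ext hY
  have hO := KTheory.Devissage.isCoh_closureStructureSheaf ξ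
  have hOs := KTheory.Devissage.support_closureStructureSheaf_subset ξ
  have hne : Nontrivial ↑((Cyc.closureStructureSheaf ξ).presheaf.stalk ξ) :=
    not_subsingleton_iff_nontrivial.1 (show ξ ∈ CohB1.support (Cyc.closureStructureSheaf ξ) from
      (support_closureStructureSheaf_eq k ξ) ▸ subset_closure rfl)
  have := hG.1
  have := (isCoh_of_isInvertible (EulerDeg.isInvertible_structureModule (IntMult.ptIdeal ξ).subscheme)).1
  refine CohTwo.step_two (Bnd k L r) (fun _ h => bnd_isZero k h)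
    (fun S hS a b c => ⟨fun p _ => ?_, fun p q => bnd_ext k hL hS a b c p q⟩) (fun F' d hd hF' hP => ?_)
    (Y := closure ({ξ} : Set X)) hsmall hO (H ξ hYF hsmall) hOs ?_ hG ?_
    (fun a ha m => hkill.stalk_maximalIdeal (Y := ⟨closure {ξ}, isClosed_closure⟩) rfl a ha m)
  · have := hS.mono_f
    exact bnd_sub k hL S.f b p
  · have : Mono (Sigma.ι (fun _ : Fin d => F') ⟨0, hd⟩) := inferInstance
    exact bnd_sub k hL (Sigma.ι (fun _ : Fin d => F') ⟨0, hd⟩) (CohTwo.isCoh_powMod hF' d) hP
  · exact fun a ha m => (CohTwo.killed_push_subschemeι (IntMult.ptIdeal ξ)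
      (Coh.structureModule (IntMult.ptIdeal ξ).subscheme)).stalk_maximalIdeal
        (Y := ⟨closure {ξ}, isClosed_closure⟩) rfl a ha m
  · exact hkill.support_subset.trans (by
      rw [Scheme.IdealSheafData.coe_support_vanishingIdeal]; rfl)

/-- Twists by an ample module grow at most polynomially. -/
theorem exists_bound_ample {A : X.Modules} (hA : CohB1.IsAmple A) {F : X.Modules} (hF : Coh.IsCoh F)
    {r : ℕ} (hd : topologicalKrullDim (CohB1.support F) ≤ (r : ℕ)) : Bnd k A r F := by
  have hN : IsNoetherian X := isNoetherian k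
  obtain ⟨d₀, hd₀⟩ := PnCoh.exists_subsingleton_of_isAmple (X ↘ Spec (CommRingCat.of k)) hA F hF
  obtain ⟨B, -, hAB⟩ := exists_isInverseOf hA.1
  let h := fun j => Module.finrank k (Coh.HH X (CohB1.tensorMod F (CohB1.tensorPow A j)) 0)
  let S := ∑ i ∈ Finset.range (r + 1), (delta k (List.replicate i B) F).natAbs
  refine ⟨(Finset.range d₀).sup h + S * (r + 1) ^ r, fun j => ?_⟩
  rcases Nat.lt_or_ge j d₀ with hj | hj
  · exact (Finset.le_sup (f := h) (Finset.mem_range.2 hj)).trans
      ((Nat.le_add_right _ _).trans (Nat.le_mul_of_pos_right _ (pow_pos j.succ_pos r)))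
  · have e : (Module.finrank k (Coh.HH X (CohB1.tensorMod F (CohB1.tensorPow A j)) 0) : ℤ) =
        Curv2.euler k X (CohB1.tensorMod (CohB1.tensorPow A j) F) := by
      rw [EulerDeg.euler_congr k (tensor_comm _ F).some,
        EulerDeg.euler_eq_sum (k := k) (N := 1) fun n hn => hd₀ j hj n hn]
      simp
    rw [euler_pow_eq k hA.1 hAB hF r hd j] at e
    have hb : ∀ i ∈ Finset.range (r + 1), ((j + i - 1).choose i : ℤ) * delta k (List.replicate i B) F ≤
        ((((j + 1) * (r + 1)) ^ r * (delta k (List.replicate i B) F).natAbs : ℕ) : ℤ) := fun i hi => by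
      rw [Finset.mem_range] at hi
      push_cast
      refine le_trans (le_abs_self _) ?_
      rw [abs_mul, Nat.abs_cast]
      refine mul_le_mul_of_nonneg_right ?_ (abs_nonneg _)
      calc ((j + i - 1).choose i : ℤ) ≤ ((j + i - 1) ^ i : ℕ) := by exact_mod_cast Nat.choose_le_pow _ _
        _ ≤ (((j + 1) * (r + 1)) ^ i : ℕ) := by
          exact_mod_cast Nat.pow_le_pow_left ((Nat.sub_le _ _).trans (by nlinarith)) i
        _ ≤ (((j + 1) * (r + 1)) ^ r : ℕ) := by
          exact_mod_cast Nat.pow_le_pow_right (by positivity) (by omega)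
        _ = _ := by push_cast; rfl
    have h2 : (Module.finrank k (Coh.HH X (CohB1.tensorMod F (CohB1.tensorPow A j)) 0)) ≤
        ((j + 1) * (r + 1)) ^ r * S := by
      have := e.trans_le (Finset.sum_le_sum hb)
      rw [← Nat.cast_sum, ← Finset.mul_sum] at this
      exact_mod_cast this
    refine h2.trans ?_
    rw [mul_pow, add_mul]
    exact le_of_eq_of_le (by ring) (Nat.le_add_left _ _)

/-- Twisting by a module with a regular section increases `h⁰`. -/
theorem finrank_h0_twist_le {G : X.Modules} (hG : Coh.IsCoh G) {N : X.Modules} (hNi : PicF.IsInvertible N)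
    (t : Γ(N, (⊤ : X.Opens))) (hmono : Mono (mulSec t G)) :
    ∀ (i : ℕ) (B : X.Modules), PicF.IsInvertible B →
      Module.finrank k (Coh.HH X (CohB1.tensorMod G B) 0) ≤
        Module.finrank k (Coh.HH X (CohB1.tensorMod G (CohB1.tensorMod B (CohB1.tensorPow N i))) 0) := by
  intro i
  induction i with
  | zero =>
    intro B _
    exact (finrank_h0_congr k (tensor_congr ⟨Iso.refl G⟩
      ⟨(tensor_one B).some.symm ≪≫ (tensor_comm _ B).some⟩).some).le
  | succ i ih =>
    intro B hB
    refine (ih B hB).trans ?_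
    let B' := CohB1.tensorMod B (CohB1.tensorPow N i)
    have hB' : PicF.IsInvertible B' := isInvertible_tensorMod hB (isInvertible_tensorPow hNi i)
    obtain ⟨e, he⟩ := exists_swap_mulSec t G B'
    have h1 : Mono ((DCoh.tensorRightMod B').map (mulSec t G)) :=
      (shortExact_tensorRightMod hB' (CohTwo.cokerSeq_shortExact (mulSec t G))).mono_f
    have h2 : Mono (mulSec t (CohB1.tensorMod G B')) := he ▸ @mono_comp _ _ _ _ _ _ h1 e.hom inferInstance
    have hc : Coh.IsCoh (CohB1.tensorMod (CohB1.tensorMod G B') N) :=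
      RefRank.isCoh_tensorMod (RefRank.isCoh_tensorMod hG (isCoh_of_isInvertible hB'))
        (isCoh_of_isInvertible hNi)
    refine (@finrank_h0_le_of_mono k _ X _ _ _ _ (mulSec t (CohB1.tensorMod G B')) h2 hc).trans
      (le_of_eq (finrank_h0_congr k ?_))
    exact (tensor_assoc _ _ _).some ≪≫ (tensor_congr ⟨Iso.refl G⟩ ⟨(tensor_assoc _ _ _).some⟩).some

/-- The general bound: `h⁰(F ⊗ L^j) = O(j^{dim F})`. -/
theorem bnd_of_dim {A : X.Modules} (hA : CohB1.IsAmple A) (hL : PicF.IsInvertible L) :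
    ∀ (r : ℕ) {F : X.Modules}, Coh.IsCoh F → topologicalKrullDim (CohB1.support F) ≤ (r : ℕ) →
      Bnd k L r F := by
  intro r F hF hd
  have hN : IsNoetherian X := isNoetherian k
  refine bnd_of_integral k hL hF fun ξ hξ hsmall => ?_
  have hO := KTheory.Devissage.isCoh_closureStructureSheaf ξ
  have hOs := support_closureStructureSheaf_eq k ξ
  obtain ⟨L', hL', hLL'⟩ := exists_isInverseOf hL
  have := (isCoh_of_isInvertible hL').1
  obtain ⟨p, hp⟩ := Chow.exists_isGloballyGenerated_twist hA L' (isCoh_of_isInvertible hL').2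
  let N := CohB1.tensorMod L' (CohB1.tensorPow A p)
  have hNi : PicF.IsInvertible N := isInvertible_tensorMod hL' (isInvertible_tensorPow hA.1 p)
  obtain ⟨t, hξt⟩ := VarietyBC.GGen.exists_mem_gloc hNi (hp p le_rfl) ξ
  have := quasiSeparatedSpace_of_quasiSeparated (X ↘ Spec (CommRingCat.of k))
  obtain ⟨G, q, hq, hG, hsupp, hmono⟩ := HilbStab.exists_quotient_injective hO t inferInstance
  have := hO.1
  have := hG.1
  have hS : (ShortComplex.mk (kernel.ι q) q (kernel.condition q)).ShortExact :=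
    { exact := ShortComplex.exact_of_f_is_kernel _ (kernelIsKernel q) }
  have hK := QCohMod.isCoh_kernel q hO
  have hξG : ξ ∈ CohB1.support G := hsupp ξ hξt (hOs ▸ subset_closure rfl)
  have hKs : ξ ∉ CohB1.support (kernel q) := fun hK' => by
    have h1 : Module.length _ _ = _ + _ := length_stalk_add hS ξ
    rw [KTheory.Devissage.length_closureStructureSheaf ξ] at h1
    have hK1 : 1 ≤ Module.length (X.presheaf.stalk ξ) ((kernel q).presheaf.stalk ξ) :=
      Order.one_le_iff_pos.2 (pos_iff_ne_zero.2 fun h => hK' (Module.length_eq_zero_iff.1 h))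
    have hG1 : 1 ≤ Module.length (X.presheaf.stalk ξ) (G.presheaf.stalk ξ) :=
      Order.one_le_iff_pos.2 (pos_iff_ne_zero.2 fun h => hξG (Module.length_eq_zero_iff.1 h))
    exact absurd ((add_le_add hK1 hG1).trans h1.ge) (by decide)
  have hKb : Bnd k L r (kernel q) := hsmall (kernel q) hK
    ((KTheory.Devissage.support_subset_of_mono (kernel.ι q)).trans hOs.subset) hKs
  suffices hGb : Bnd k L r G from
    bnd_ext k hL (S := ShortComplex.mk (kernel.ι q) q (kernel.condition q)) hS hK hO hG hKb hGb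
  have hGd : topologicalKrullDim (CohB1.support G) ≤ (r : ℕ) :=
    (LocCohTransform.topologicalKrullDim_mono
      ((KTheory.Devissage.support_subset_of_epi q).trans (hOs.subset.trans hξ))).trans hd
  obtain ⟨C, hC⟩ := exists_bound_ample k hA hG hGd
  refine ⟨C * (p + 1) ^ r, fun j => ?_⟩
  have hmul := finrank_h0_twist_le k hG hNi t hmono
  have e1 : ∀ j : ℕ, Nonempty (CohB1.tensorMod (CohB1.tensorPow L j) (CohB1.tensorPow N j) ≅
      CohB1.tensorPow A (p * j)) := fun j => by
    induction j with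
    | zero => exact tensor_one _
    | succ j ih =>
      exact ⟨(tensor_assoc _ _ _).some ≪≫
        (tensor_congr ⟨Iso.refl _⟩ (tensor_left_comm L (CohB1.tensorPow N j) N)).some ≪≫
        (tensor_assoc _ _ _).some.symm ≪≫
        (tensor_congr ih ⟨(tensor_assoc L L' _).some.symm ≪≫
          (tensor_congr hLL' ⟨Iso.refl _⟩).some ≪≫ (tensor_one _).some⟩).some ≪≫
        (PicAux.tensorPow_add A (p * j) p).some.symm⟩
  have s1 := hmul j (CohB1.tensorPow L j) (isInvertible_tensorPow hL j)
  have i2 : CohB1.tensorMod G (CohB1.tensorMod (CohB1.tensorPow L j) (CohB1.tensorPow N j)) ≅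
      CohB1.tensorMod G (CohB1.tensorPow A (p * j)) := (tensor_congr ⟨Iso.refl G⟩ (e1 j)).some
  have s2 := finrank_h0_congr k i2
  have s3 := hC (p * j)
  have s4 : (p * j + 1) ^ r ≤ (p + 1) ^ r * (j + 1) ^ r := by
    rw [← mul_pow]
    exact Nat.pow_le_pow_left (by nlinarith) r
  rw [mul_assoc C]
  exact (s1.trans s2.le).trans (s3.trans (Nat.mul_le_mul_left C s4))

end Groth.Inter
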