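import Groth.Agent.Inter.Growth

/-!
# Growth of sections of nef modules with numerically trivial powers
-/

universe u

open CategoryTheory CategoryTheory.Limits AlgebraicGeometry TopologicalSpace Opposite

namespace Groth.Inter

open Groth.PicAux Groth.HilbStab Groth.PropsBasic.Ample

variable (k : Type u) [Field k] {X : Scheme.{u}} [X.Over (Spec (CommRingCat.of k))]
  [IsProper (X ↘ Spec (CommRingCat.of k))]

/-- `δ_l` vanishes on coherent modules in the critical dimension. -/
def Vanishes (l : List X.Modules) : Prop :=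
  ∀ F : X.Modules, Coh.IsCoh F → topologicalKrullDim (CohB1.support F) ≤ (l.length : ℕ) → delta k l F = 0

theorem vanishes_of_integral {l : List X.Modules} (hl : ∀ M ∈ l, PicF.IsInvertible M)
    (h : ∀ ξ : X, topologicalKrullDim (closure ({ξ} : Set X)) = (l.length : ℕ) →
      delta k l (Cyc.closureStructureSheaf ξ) = 0) : Vanishes k l := by
  intro F hF hdim
  classical
  have hN : IsNoetherian X := isNoetherian k
  have hcl := CohTwo.isClosed_support F hF
  let T := {x | x ∈ CohB1.support F ∧ topologicalKrullDim (closure ({x} : Set X)) = (l.length : ℕ)}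
  have hT : T.Finite := (DivisorLength.finite_maximal_points hcl).subset fun x hx =>
    ⟨hx.1, fun w hw hwx => (eq_of_dim_closure hwx.mem_closure
      ((LocCohTransform.topologicalKrullDim_mono (closure_minimal (Set.singleton_subset_iff.2 hw) hcl)).trans
        hdim) hx.2.ge).symm⟩
  rw [delta_eq_sum_length k hl hF hdim hT.toFinset fun x => hT.mem_toFinset]
  exact Finset.sum_eq_zero fun x hx => by rw [h x (hT.mem_toFinset.1 hx).2, mul_zero]

theorem Vanishes.cons {l : List X.Modules} (hl : ∀ M ∈ l, PicF.IsInvertible M) {B : X.Modules}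
    (hB : PicF.IsInvertible B) (h : Vanishes k l) : Vanishes k (B :: l) := by
  have hN : IsNoetherian X := isNoetherian k
  refine vanishes_of_integral k (by simpa [hB] using hl) fun ξ hξ => ?_
  obtain ⟨Q₁, Q₂, c₁, c₂, d₁, -, d₂, -, e⟩ := exists_delta_eq_sub k hB
    (Y := ⟨closure {ξ}, isClosed_closure⟩) rfl (n := l.length + 1) (by simpa using hξ.le)
    (KTheory.Devissage.isCoh_closureStructureSheaf ξ)
    (KTheory.Devissage.support_closureStructureSheaf_subset ξ)
  rw [e l hl, h Q₁ c₁ (lt_natCast_succ_iff.1 d₁), h Q₂ c₂ (lt_natCast_succ_iff.1 d₂), sub_self]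

theorem Vanishes.replicate_append {l : List X.Modules} (hl : ∀ M ∈ l, PicF.IsInvertible M) {B : X.Modules}
    (hB : PicF.IsInvertible B) (h : Vanishes k l) : ∀ e : ℕ, Vanishes k (List.replicate e B ++ l)
  | 0 => h
  | e + 1 => Vanishes.cons k (fun M hM => by
      rcases List.mem_append.1 hM with h' | h'
      · exact (List.eq_of_mem_replicate h').symm ▸ hB
      · exact hl M h') hB (Vanishes.replicate_append hl hB h e)

/-- An effective class pairs nonnegatively with nonnegative lists. -/
theorem delta_nonneg_of_section [IsIntegral X] {P P' : X.Modules} (hP : PicF.IsInvertible P)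
    (hPP' : ClSub.IsInverseOf P P') {s : Γ(P, (⊤ : X.Opens))} (hs : s ≠ 0)
    {l : List X.Modules} (hl : ∀ M ∈ l, PicF.IsInvertible M) (hn : Nonneg k l)
    (hd : topologicalKrullDim X ≤ ((l.length + 1 : ℕ) : WithBot ℕ∞)) :
    0 ≤ delta k (P' :: l) (Coh.structureModule X) := by
  have hN : IsNoetherian X := isNoetherian k
  let O := Coh.structureModule X
  have hO : PicF.IsInvertible O := EulerDeg.isInvertible_structureModule X
  have hOc : Coh.IsCoh O := isCoh_of_isInvertible hO
  have hP' : PicF.IsInvertible P' := PicAux.isInvertible_of_isInverseOf hP hPP'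
  have hgen := genericPoint_mem_gloc hP hs
  let f := mulSec s O
  have hf : f ≠ 0 := fun h => by
    have hb := mulSec_stalk_bijective s O hgen
    rw [show mulSec s O = 0 from h, Functor.map_zero] at hb
    have : Nontrivial (O.presheaf.stalk (genericPoint X)) :=
      (RefRank.oneEquiv (genericPoint X)).toEquiv.nontrivial_congr.1 inferInstance
    obtain ⟨a, ha⟩ := exists_ne (0 : O.presheaf.stalk (genericPoint X))
    exact ha (hb.1 rfl)
  have : Mono f := EulerDeg.mono_of_ne_zero hO (isInvertible_tensorMod hO hP) hf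
  have hOP : Coh.IsCoh (CohB1.tensorMod O P) := RefRank.isCoh_tensorMod hOc (isCoh_of_isInvertible hP)
  have := hOc.1
  have := hOP.1
  let Q := cokernel f
  have hQ : Coh.IsCoh Q := QCohMod.isCoh_cokernel f hOP
  have hQs : genericPoint X ∉ CohB1.support Q := fun h => support_cokernel_mulSec_subset s O h hgen
  have hQd : topologicalKrullDim (CohB1.support Q) ≤ (l.length : ℕ) := by
    refine lt_natCast_succ_iff.1 (lt_of_lt_of_le (LocCohTransform.topologicalKrullDim_lt_of_ssubset
      (Set.subset_univ _) (fun h => hQs (h trivial)) (CohTwo.isClosed_support _ hQ) isClosed_univ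
      (IrreducibleSpace.isIrreducible_univ X) ?_) ?_)
    · rw [IsHomeomorph.topologicalKrullDim_eq _ (Homeomorph.Set.univ X).isHomeomorph]
      exact lt_of_le_of_lt hd (WithBot.coe_lt_coe.2 (ENat.natCast_lt_top _))
    · rw [IsHomeomorph.topologicalKrullDim_eq _ (Homeomorph.Set.univ X).isHomeomorph]
      exact hd
  obtain ⟨S', hS', ⟨e₁⟩, ⟨e₂⟩, ⟨e₃⟩⟩ := exists_shortExact_twist hP' (CohTwo.cokerSeq_shortExact f)
  have hadd := delta_add k hl hS'
    (QCohMod.isCoh_of_iso e₁.symm (isCoh_twist hP' hOc))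
    (QCohMod.isCoh_of_iso e₃.symm (isCoh_twist hP' hQ))
  rw [delta_congr k l ⟨e₁⟩, delta_congr k l ⟨e₂⟩, delta_congr k l ⟨e₃⟩] at hadd
  have hinv : Nonempty (CohB1.tensorMod P' (CohB1.tensorMod O P) ≅ O) :=
    ⟨(tensor_congr ⟨Iso.refl P'⟩ (tensor_one P)).some ≪≫ (tensor_comm P' P).some ≪≫ hPP'.some⟩
  change delta k l (CohB1.tensorMod P' (CohB1.tensorMod O P)) =
    delta k l (CohB1.tensorMod P' O) + delta k l (CohB1.tensorMod P' Q) at hadd
  rw [delta_congr k l hinv] at hadd
  rw [delta_cons, hadd, add_sub_cancel_left]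
  exact hn _ (isCoh_twist hP' hQ) ((LocCohTransform.topologicalKrullDim_mono (support_twist_subset _ _)).trans hQd)

omit [IsProper (X ↘ Spec (CommRingCat.of k))] in
/-- `H⁰` and direct images. -/
theorem finrank_h0_push {Z : Scheme.{u}} [Z.Over (Spec (CommRingCat.of k))] (i : Z ⟶ X) [IsClosedImmersion i]
    (hi : i ≫ (X ↘ Spec (CommRingCat.of k)) = Z ↘ Spec (CommRingCat.of k)) {L : X.Modules}
    (hL : PicF.IsInvertible L) (G : Z.Modules) (j : ℕ) :
    Module.finrank k (Coh.HH X (CohB1.tensorMod ((Coh.push i).obj G) (CohB1.tensorPow L j)) 0) =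
      Module.finrank k (Coh.HH Z
        (CohB1.tensorMod G (CohB1.tensorPow ((Scheme.Modules.pullback i).obj L) j)) 0) := by
  obtain ⟨P, -⟩ := PnCoh.exists_projectionFormula i G (isInvertible_tensorPow hL j)
  let e : CohB1.tensorMod ((Coh.push i).obj G) (CohB1.tensorPow L j) ≅
      (Scheme.Modules.pushforward i).obj
        (CohB1.tensorMod G (CohB1.tensorPow ((Scheme.Modules.pullback i).obj L) j)) :=
    P ≪≫ (Scheme.Modules.pushforward i).mapIso
      (tensor_congr ⟨Iso.refl G⟩ (pullback_tensorPow i L j)).some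
  refine (EulerDeg.hEquiv k e 0).finrank_eq.trans ?_
  rename_i instX _ instZ _
  cases instZ with
  | ofHom g =>
  obtain rfl : i ≫ (X ↘ Spec (CommRingCat.of k)) = g := hi.trans rfl
  obtain ⟨f⟩ := CohC3.nonempty_linearEquiv_push_closed i (X ↘ Spec (CommRingCat.of k)) 0
    (CohB1.tensorMod G (CohB1.tensorPow ((Scheme.Modules.pullback i).obj L) j))
  exact f.finrank_eq

omit [IsProper (X ↘ Spec (CommRingCat.of k))] in
theorem bnd_mono_exp {L : X.Modules} {r r' : ℕ} (h : r ≤ r') {F : X.Modules} (b : Bnd k L r F) :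
    Bnd k L r' F := by
  obtain ⟨C, hC⟩ := b
  exact ⟨C, fun j => (hC j).trans (Nat.mul_le_mul_left C (Nat.pow_le_pow_right j.succ_pos h))⟩

/-- Transfer of a critical-dimension property to a closed subscheme. -/
theorem delta_push_cond {Z : Scheme.{u}} [Z.Over (Spec (CommRingCat.of k))]
    [IsProper (Z ↘ Spec (CommRingCat.of k))] (i : Z ⟶ X)
    [IsClosedImmersion i] (hi : i ≫ (X ↘ Spec (CommRingCat.of k)) = Z ↘ Spec (CommRingCat.of k))
    {l : List X.Modules} (hl : ∀ M ∈ l, PicF.IsInvertible M) (p : ℤ → Prop)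
    (h : ∀ F : X.Modules, Coh.IsCoh F → topologicalKrullDim (CohB1.support F) ≤ (l.length : ℕ) →
      p (delta k l F)) (G : Z.Modules) (hG : Coh.IsCoh G)
    (hd : topologicalKrullDim (CohB1.support G) ≤ (l.length : ℕ)) :
    p (delta k (l.map (Scheme.Modules.pullback i).obj) G) := by
  have hN : IsNoetherian X := isNoetherian k
  have hZ : IsNoetherian Z := isNoetherian k
  rw [← delta_push k i hi l hl G]
  refine h _ (CohTwo.isCoh_push i hG) ((LocCohTransform.topologicalKrullDim_mono ?_).trans
    ((i.isClosedEmbedding.isEmbedding.homeomorphImage (CohB1.support G)).isHomeomorph.topologicalKrullDim_eq.symm.trans_le hd))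
  intro x hx
  obtain ⟨z, rfl⟩ := CohTwo.support_push_subset i G hx
  exact ⟨z, fun h' => hx (@Equiv.subsingleton _ _
    (Equiv.ofBijective _ (CohTwo.bijective_pushStalk i G z)) h'), rfl⟩

/-- On an integral scheme twists of a nef module down by an ample one have no sections when a power
of the nef module is numerically trivial. -/
theorem no_section_of_vanishes [IsIntegral X] {A B L M : X.Modules} (hA : CohB1.IsAmple A)
    (hAB : ClSub.IsInverseOf A B) (hL : PicF.IsInvertible L) (hLM : ClSub.IsInverseOf L M)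
    (hnef : Nonneg k [M]) {n m : ℕ} (hm : m + 1 ≤ n) (hn : topologicalKrullDim X = (n : WithBot ℕ∞))
    (hvan : Vanishes k (List.replicate (m + 1) M)) (p j : ℕ) :
    Module.finrank k (Coh.HH X (CohB1.tensorMod (CohB1.tensorPow B (p + 1)) (CohB1.tensorPow L j)) 0) = 0 := by
  classical
  have hN : IsNoetherian X := isNoetherian k
  have hBi : IsAmpleInv B := ⟨A, hA, hAB⟩
  have hB := hBi.isInvertible
  have hM : PicF.IsInvertible M := PicAux.isInvertible_of_isInverseOf hL hLM
  let O := Coh.structureModule X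
  have hO : Coh.IsCoh O := isCoh_of_isInvertible (EulerDeg.isInvertible_structureModule X)
  have hOd : topologicalKrullDim (CohB1.support O) ≤ (n : WithBot ℕ∞) :=
    ((LocCohTransform.topologicalKrullDim_mono (Set.subset_univ _)).trans
      (IsHomeomorph.topologicalKrullDim_eq _ (Homeomorph.Set.univ X).isHomeomorph).le).trans hn.le
  have hOd' : topologicalKrullDim (CohB1.support O) = (n : WithBot ℕ∞) := by
    have hOs : CohB1.support O = Set.univ := Set.eq_univ_of_forall fun x h => by
      have := (RefRank.oneEquiv x).toEquiv.nontrivial_congr.1 inferInstance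
      exact not_subsingleton _ h
    rw [hOs, IsHomeomorph.topologicalKrullDim_eq _ (Homeomorph.Set.univ X).isHomeomorph, hn]
  let I : ℕ → ℤ := fun q => delta k (List.replicate q M ++ List.replicate (n - q) B) O
  have hI0 : 0 < I 0 := by
    simpa [I] using delta_pos k (List.replicate n B)
      (fun N hN => (List.eq_of_mem_replicate hN).symm ▸ hBi) O hO (by simpa using hOd')
  have hIm : I (m + 1) = 0 := by
    simp only [I]
    rw [delta_perm k List.perm_append_comm O]
    exact Vanishes.replicate_append k (fun N hN => (List.eq_of_mem_replicate hN).symm ▸ hM) hB hvan _ O hO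
      (by simpa [Nat.sub_add_cancel hm] using hOd)
  obtain ⟨q, hq0, hq1, hqm⟩ : ∃ q, I q ≠ 0 ∧ I (q + 1) = 0 ∧ q ≤ m := by
    have hex : ∃ q, I (q + 1) = 0 := ⟨m, hIm⟩
    refine ⟨Nat.find hex, ?_, Nat.find_spec hex, Nat.find_min' hex hIm⟩
    rcases Nat.eq_zero_or_pos (Nat.find hex) with h | h
    · rw [h]; exact hI0.ne'
    · have := Nat.find_min hex (Nat.sub_lt h one_pos)
      rwa [Nat.sub_add_cancel (show 1 ≤ Nat.find hex from h)] at this
  let l := List.replicate q M ++ List.replicate (n - (q + 1)) B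
  have hlen : l.length + 1 = n := by simp [l]; omega
  have hl : ∀ N ∈ l, PicF.IsInvertible N := fun N hN => by
    simp only [l, List.mem_append, List.mem_replicate] at hN
    rcases hN with ⟨-, rfl⟩ | ⟨-, rfl⟩
    exacts [hM, hB]
  have hln : Nonneg k l := nonneg_mixed k hA hAB hL hLM hnef q _
  have e1 : delta k (B :: l) O = I q := by
    simp only [I, l]
    refine delta_perm k ?_ O
    rw [show n - q = n - (q + 1) + 1 by omega, List.replicate_succ]
    exact List.perm_middle.symm
  have e2 : delta k (M :: l) O = I (q + 1) := by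
    simp only [I, l]
    rw [List.replicate_succ]
    rfl
  have hpos : 0 < I q := lt_of_le_of_ne
    (nonneg_mixed k hA hAB hL hLM hnef q (n - q) O hO
      (by simpa [Nat.add_sub_cancel' (show q ≤ n by omega)] using hOd)) hq0.symm
  by_contra hne
  let C := CohB1.tensorMod (CohB1.tensorPow B (p + 1)) (CohB1.tensorPow L j)
  let C' := CohB1.tensorMod (CohB1.tensorPow A (p + 1)) (CohB1.tensorPow M j)
  have hC : PicF.IsInvertible C :=
    isInvertible_tensorMod (isInvertible_tensorPow hB _) (isInvertible_tensorPow hL j)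
  have hCC' : ClSub.IsInverseOf C C' := isInverseOf_comb (PicAux.isInverseOf_symm hAB) hLM (p + 1) j
  have : Nontrivial (Coh.HH X C 0) := Module.nontrivial_of_finrank_pos (R := k) (Nat.pos_of_ne_zero hne)
  have : Nontrivial Γ(C, (⊤ : X.Opens)) := (EulerDeg.h0Equiv k C).toEquiv.nontrivial_congr.1 inferInstance
  obtain ⟨s, hs⟩ := exists_ne (0 : Γ(C, (⊤ : X.Opens)))
  have h := delta_nonneg_of_section k hC hCC' hs hl hln (by rw [hlen]; exact hn.le)
  rw [delta_comb_cons k hA.1 hM (p + 1) j hl hO (by rw [hlen]; exact hOd),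
    delta_inverse_cons k hA.1 hAB hl hO (by rw [hlen]; exact hOd), e1, e2, hq1, mul_zero, add_zero] at h
  nlinarith [(by exact_mod_cast p.succ_pos : (0 : ℤ) < ((p + 1 : ℕ) : ℤ))]

/-- A nef module with numerically trivial `(m+1)`-st power has at most `O(j^m)` sections. -/
theorem bnd_of_nef_vanishing {A L M : X.Modules} (hA : CohB1.IsAmple A) (hL : PicF.IsInvertible L)
    (hLM : ClSub.IsInverseOf L M) (hnef : Nonneg k [M]) {m : ℕ}
    (hvan : Vanishes k (List.replicate (m + 1) M)) {F : X.Modules} (hF : Coh.IsCoh F) : Bnd k L m F := by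
  have hN : IsNoetherian X := isNoetherian k
  have hM : PicF.IsInvertible M := PicAux.isInvertible_of_isInverseOf hL hLM
  refine bnd_of_integral k hL hF fun ξ _ hsmall => ?_
  obtain ⟨n, hn⟩ := Variety2.Dim.exists_height_eq (X ↘ Spec (CommRingCat.of k)) ξ
  have hξ : topologicalKrullDim (closure ({ξ} : Set X)) = (n : WithBot ℕ∞) := by
    rw [Variety2.Dim.dim_closure_singleton, hn]; rfl
  have hO := KTheory.Devissage.isCoh_closureStructureSheaf ξ
  by_cases hnm : n ≤ m
  · exact bnd_mono_exp k hnm (bnd_of_dim k hA hL n hO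
      ((LocCohTransform.topologicalKrullDim_mono
        (KTheory.Devissage.support_closureStructureSheaf_subset ξ)).trans hξ.le))
  let Z := (IntMult.ptIdeal ξ).subscheme
  let i := (IntMult.ptIdeal ξ).subschemeι
  letI : Z.Over (Spec (CommRingCat.of k)) := ⟨i ≫ (X ↘ Spec (CommRingCat.of k))⟩
  have : IsProper (Z ↘ Spec (CommRingCat.of k)) :=
    inferInstanceAs (IsProper (i ≫ (X ↘ Spec (CommRingCat.of k))))
  have : IsIntegral Z := CohTwo.isIntegral_closure_subscheme rfl
  have hZN : IsNoetherian Z := isNoetherian k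
  let AZ := (Scheme.Modules.pullback i).obj A
  let LZ := (Scheme.Modules.pullback i).obj L
  let MZ := (Scheme.Modules.pullback i).obj M
  have hAZ : CohB1.IsAmple AZ := Ega2Proj.isAmple_pullback i i.isClosedEmbedding.isInducing hA
  obtain ⟨BZ, hBZ, hAB⟩ := exists_isInverseOf hAZ.1
  have hLZ : PicF.IsInvertible LZ := PicAux.isInvertible_pullback i hL
  have hLMZ : ClSub.IsInverseOf LZ MZ :=
    ⟨(exists_pullback_tensorMod i L M).choose.symm ≪≫ (Scheme.Modules.pullback i).mapIso hLM.some ≪≫
      (pullback_structure_iso i).some⟩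
  have hnefZ : Nonneg k [MZ] := fun G hG hd =>
    delta_push_cond k i rfl (l := [M]) (by simpa using hM) (fun a => 0 ≤ a) hnef G hG hd
  have hvanZ : Vanishes k (List.replicate (m + 1) MZ) := fun G hG hd => by
    have := delta_push_cond k i rfl (l := List.replicate (m + 1) M)
      (fun N hN => (List.eq_of_mem_replicate hN).symm ▸ hM) (fun a => a = 0) hvan G hG (by simpa using hd)
    rwa [List.map_replicate] at this
  have hdimZ : topologicalKrullDim Z = (n : WithBot ℕ∞) := (dim_ptIdeal_subscheme ξ).trans hξ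
  obtain ⟨p, t, hgt, -, -⟩ := exists_affine_gloc_finite hAZ {genericPoint Z} (Set.finite_singleton _) ⊤
    (fun _ _ => trivial)
  let O := Coh.structureModule Z
  let P := CohB1.tensorPow AZ (p + 1)
  let P' := CohB1.tensorPow BZ (p + 1)
  have hP : PicF.IsInvertible P := isInvertible_tensorPow hAZ.1 _
  have hP' : PicF.IsInvertible P' := isInvertible_tensorPow hBZ _
  have hOi : PicF.IsInvertible O := EulerDeg.isInvertible_structureModule Z
  have hOc : Coh.IsCoh O := isCoh_of_isInvertible hOi
  let f := mulSec t O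
  have hf : f ≠ 0 := fun h => by
    have hb := mulSec_stalk_bijective t O (hgt rfl)
    rw [show mulSec t O = 0 from h, Functor.map_zero] at hb
    have : Nontrivial (O.presheaf.stalk (genericPoint Z)) :=
      (RefRank.oneEquiv (genericPoint Z)).toEquiv.nontrivial_congr.1 inferInstance
    obtain ⟨a, ha⟩ := exists_ne (0 : O.presheaf.stalk (genericPoint Z))
    exact ha (hb.1 rfl)
  have : Mono f := EulerDeg.mono_of_ne_zero hOi (isInvertible_tensorMod hOi hP) hf
  have hOP : Coh.IsCoh (CohB1.tensorMod O P) := RefRank.isCoh_tensorMod hOc (isCoh_of_isInvertible hP)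
  have := hOc.1
  have := hOP.1
  let Q := CohB1.tensorMod (cokernel f) P'
  have hQ : Coh.IsCoh Q :=
    RefRank.isCoh_tensorMod (QCohMod.isCoh_cokernel f hOP) (isCoh_of_isInvertible hP')
  have hQs : genericPoint Z ∉ CohB1.support Q := fun h =>
    support_cokernel_mulSec_subset t O (HilbStab.support_tensorMod_subset hP' _ h) (hgt rfl)
  have hr : Set.range i = closure ({ξ} : Set X) :=
    Groth.PropsBasic2.range_vanishingIdeal_subschemeι ⟨closure {ξ}, isClosed_closure⟩
  obtain ⟨C, hC⟩ := hsmall _ (CohTwo.isCoh_push i hQ) ((CohTwo.support_push_subset i Q).trans hr.le)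
    (fun h => hQs (fun hs => by
      have h' : i (genericPoint Z) ∈ CohB1.support ((Scheme.Modules.pushforward i).obj Q) := by
        rw [CohTwo.apply_genericPoint_eq i hr]; exact h
      exact h'  (@Equiv.subsingleton _ _ (Equiv.ofBijective _
        (CohTwo.bijective_pushStalk i Q (genericPoint Z))) hs)))
  refine ⟨C, fun j => ?_⟩
  rw [show Cyc.closureStructureSheaf ξ = (Coh.push i).obj O from rfl, finrank_h0_push k i rfl hL O j]
  have hC' := hC j
  rw [show (Scheme.Modules.pushforward i).obj Q = (Coh.push i).obj Q from rfl,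
    finrank_h0_push k i rfl hL Q j] at hC'
  let T := CohB1.tensorMod P' (CohB1.tensorPow LZ j)
  have hT : PicF.IsInvertible T := isInvertible_tensorMod hP' (isInvertible_tensorPow hLZ j)
  have hS := shortExact_tensorRightMod hT (CohTwo.cokerSeq_shortExact f)
  have hle := finrank_h0_le_add k hS (RefRank.isCoh_tensorMod hOc (isCoh_of_isInvertible hT))
    (RefRank.isCoh_tensorMod hOP (isCoh_of_isInvertible hT))
    (RefRank.isCoh_tensorMod (QCohMod.isCoh_cokernel f hOP) (isCoh_of_isInvertible hT))
  change Module.finrank k (Coh.HH Z (CohB1.tensorMod (CohB1.tensorMod O P) T) 0) ≤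
    Module.finrank k (Coh.HH Z (CohB1.tensorMod O T) 0) +
      Module.finrank k (Coh.HH Z (CohB1.tensorMod (cokernel f) T) 0) at hle
  rw [finrank_h0_congr k ((tensor_assoc O P T).some ≪≫ (tensor_congr ⟨Iso.refl O⟩
      ⟨(tensor_assoc P P' _).some.symm ≪≫
        (tensor_congr (PicAux.isInverseOf_tensorPow hAB (p + 1)) ⟨Iso.refl _⟩).some ≪≫
        (tensor_one _).some⟩).some),
    finrank_h0_congr k (tensor_one T).some,
    no_section_of_vanishes k hAZ hAB hLZ hLMZ hnefZ (by omega) hdimZ hvanZ p j, zero_add,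
    ← finrank_h0_congr k (tensor_assoc (cokernel f) P' (CohB1.tensorPow LZ j)).some] at hle
  exact hle.trans hC'

/-- Bounded growth excludes a lower bound of higher order. -/
theorem not_growth_of_bnd {L : X.Modules} {r : ℕ} (b : Bnd k L r (Coh.structureModule X)) :
    ¬ (∃ ν a : ℕ, 0 < ν ∧ 0 < a ∧ ∀ μ : ℕ, 1 ≤ μ →
        μ ^ (r + 1) ≤ a * Module.finrank k (Coh.HH X (CohB1.tensorPow L (ν * μ)) 0)) := by
  rintro ⟨ν, a, hν, ha, h⟩
  obtain ⟨C, hC⟩ := b
  let μ := a * C * (2 * ν) ^ r + 1
  have h1 := (h μ (Nat.le_add_left 1 _)).trans (Nat.mul_le_mul_left a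
    ((finrank_h0_congr k (tensor_one _).some.symm).trans_le (hC (ν * μ))))
  have h2 : (ν * μ + 1) ^ r ≤ (2 * ν) ^ r * μ ^ r := by
    rw [← mul_pow]
    have hμ : 0 < ν * μ := Nat.mul_pos hν (Nat.succ_pos _)
    exact Nat.pow_le_pow_left (by rw [mul_assoc]; omega) r
  have h3 : μ * μ ^ r ≤ (a * C * (2 * ν) ^ r) * μ ^ r := by
    rw [← pow_succ']
    calc μ ^ (r + 1) ≤ a * (C * (ν * μ + 1) ^ r) := h1
      _ ≤ a * (C * ((2 * ν) ^ r * μ ^ r)) := Nat.mul_le_mul_left a (Nat.mul_le_mul_left C h2)
      _ = _ := by ring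
  exact absurd (Nat.le_of_mul_le_mul_right h3 (pow_pos (Nat.succ_pos _) r)) (Nat.not_succ_le_self _)

end Groth.Inter
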