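import Groth.Agent.Inter.TwistVanish
import Groth.Agent.Inter.Positive
import Groth.Agent.Inter.AmpleCrit
import Groth.Agent.Inter.Snapper
import Groth.Agent.Inter.StalkQuot
import Groth.Agent.DegMono.Torsion
import Groth.Agent.EulerDeg.LineBundle
import Groth.Agent.Variety2.DimScheme

/-!
# The criterion of Nakai and Moishezon, engine

Higher cohomology of high twists vanishes as soon as, on every integral closed subscheme of positive
dimension, the powers of the invertible module have unboundedly many sections.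
-/

universe u

open CategoryTheory CategoryTheory.Limits AlgebraicGeometry TopologicalSpace Opposite

namespace Groth.Inter

open Groth.PicAux Groth.HilbStab

attribute [local instance] Groth.EulerDeg.secModule

variable (k : Type u) [Field k] {X : Scheme.{u}} [X.Over (Spec (CommRingCat.of k))]
  [IsProper (X ↘ Spec (CommRingCat.of k))]

include k in
/-- In dimension zero every twist is good. -/
theorem good_of_dim_le_zero (hd : topologicalKrullDim X ≤ ((0 : ℕ) : WithBot ℕ∞)) (L F : X.Modules) :
    Good L F := fun i hi => by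
  have : IsNoetherian X := isNoetherian k
  have t : NoetherianSpace X := inferInstance
  exact ⟨0, fun n _ => @Vanishing.subsingleton_H_of_dim_le X.toTopCat t 0 hd _ i hi⟩

include k in
/-- Twisted sections of a nonzero coherent module are eventually nonzero. -/
theorem eventually_h0_pos {L : X.Modules} (hL : PicF.IsInvertible L) {Q : X.Modules}
    (hQ : Coh.IsCoh Q) (hne : (CohB1.support Q).Nonempty)
    (hgood : ∀ G, Coh.IsCoh G → CohB1.support G ⊆ CohB1.support Q → Good L G) :
    ∃ N, ∀ n, N ≤ n →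
      0 < Module.finrank k (Coh.HH X (CohB1.tensorMod Q (CohB1.tensorPow L n)) 0) := by
  have hN : IsNoetherian X := isNoetherian k
  obtain ⟨x, hx, hxc⟩ := (CohTwo.isClosed_support Q hQ).exists_closed_singleton hne
  let J := Scheme.IdealSheafData.vanishingIdeal (⟨{x}, hxc⟩ : Closeds X)
  let G := CohB1.tensorMod Q (ClSub.quotMod J)
  have hG : Coh.IsCoh G := isCoh_tensor_quotMod hQ J
  have hGs : CohB1.support G = {x} := by
    rw [support_tensor_quotMod hQ J, Scheme.IdealSheafData.coe_support_vanishingIdeal]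
    exact Set.inter_eq_right.2 (Set.singleton_subset_iff.2 hx)
  have := hQ.1
  have := hG.1
  let q := DegMono.toRestrict J Q
  have hK : Coh.IsCoh (kernel q) := QCohMod.isCoh_kernel q hQ
  have hS : (ShortComplex.mk (kernel.ι q) q (kernel.condition q)).ShortExact :=
    { exact := ShortComplex.exact_of_f_is_kernel _ (kernelIsKernel q) }
  obtain ⟨N, hN'⟩ := hgood _ hK (KTheory.Devissage.support_subset_of_mono (kernel.ι q)) 1 one_pos
  refine ⟨N, fun n hn => ?_⟩
  have hP := isInvertible_tensorPow hL n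
  have hT := shortExact_tensorRightMod hP hS
  let G' := CohB1.tensorMod G (CohB1.tensorPow L n)
  have hG' : Coh.IsCoh G' := RefRank.isCoh_tensorMod hG (isCoh_of_isInvertible hP)
  have hG's : CohB1.support G' = {x} := by
    rw [← hGs, ← support_twist_eq hP G]
    exact QCohMod.support_eq_of_iso (tensor_comm _ _).some
  have hpos : 0 < Module.finrank k (Coh.HH X G' 0) := by
    have hd : topologicalKrullDim (CohB1.support G') = ((0 : ℕ) : WithBot ℕ∞) := by
      rw [hG's, ← hxc.closure_eq, Variety2.Dim.dim_closure_singleton,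
        (Variety2.Dim.height_eq_zero_iff x).2 hxc]
      rfl
    have h := delta_pos k [] (by simp) G' hG' hd
    rw [delta_nil, EulerDeg.euler_eq_h0 k (fun y hy => by
      rw [hG's] at hy
      obtain rfl : y = x := hy
      exact hxc)] at h
    exact_mod_cast h
  have : Module.Finite k (Coh.HH X (CohB1.tensorMod Q (CohB1.tensorPow L n)) 0) :=
    finite_HH_twist k hL hQ n 0
  refine hpos.trans_le (LinearMap.finrank_le_finrank_of_surjective
    (f := EulerDeg.hMap k ((tw L n).map q) 0) fun y => ?_)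
  exact (EulerDeg.exact_right k hT 0 y).1 ((hN' n hn).elim _ _)

/-- The start of the long exact sequence when `H¹` of the quotient vanishes. -/
theorem h0_h1_identity {S : ShortComplex X.Modules} (hS : S.ShortExact) (h₁ : Coh.IsCoh S.X₁)
    (h₂ : Coh.IsCoh S.X₂) (h₃ : Coh.IsCoh S.X₃) (hv : Subsingleton (Coh.HH X S.X₃ 1)) :
    (Module.finrank k (Coh.HH X S.X₂ 0) : ℤ) - Module.finrank k (Coh.HH X S.X₂ 1) =
      (Module.finrank k (Coh.HH X S.X₁ 0) : ℤ) - Module.finrank k (Coh.HH X S.X₁ 1) +
        Module.finrank k (Coh.HH X S.X₃ 0) := by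
  have := (finCoh k h₁).finite 0
  have := (finCoh k h₂).finite 0
  have := (finCoh k h₃).finite 0
  have := (finCoh k h₁).finite 1
  have := (finCoh k h₂).finite 1
  let f0 := EulerDeg.hMap k S.f 0
  let g0 := EulerDeg.hMap k S.g 0
  let δ := EulerDeg.hDelta k hS 0
  let f1 := EulerDeg.hMap k S.f 1
  have q1 := LinearMap.finrank_range_add_finrank_ker g0
  have q2 := LinearMap.finrank_range_add_finrank_ker δ
  have q3 := LinearMap.finrank_range_add_finrank_ker f1
  have q4 : LinearMap.ker g0 = LinearMap.range f0 :=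
    LinearMap.exact_iff.1 (EulerDeg.exact_mid k hS 0)
  have q5 : LinearMap.ker δ = LinearMap.range g0 :=
    LinearMap.exact_iff.1 (EulerDeg.exact_right k hS 0)
  have q6 : LinearMap.ker f1 = LinearMap.range δ :=
    LinearMap.exact_iff.1 (EulerDeg.exact_left k hS 0)
  have q7 : LinearMap.range f1 = ⊤ := LinearMap.range_eq_top.2 fun y =>
    (EulerDeg.exact_mid k hS 1 y).1 (hv.elim _ _)
  rw [q4, LinearMap.finrank_range_of_inj (EulerDeg.injective_zero k hS)] at q1
  rw [q5] at q2
  rw [q6, q7, finrank_top] at q3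
  have q1' : (_ : ℤ) = _ := congrArg Nat.cast q1
  have q2' : (_ : ℤ) = _ := congrArg Nat.cast q2
  have q3' : (_ : ℤ) = _ := congrArg Nat.cast q3
  push_cast at q1' q2' q3'
  linarith

/-- Growth of `h⁰` from one section with nonempty zero scheme. -/
theorem hgrow_of_section [IsIntegral X] {L : X.Modules} (hL : PicF.IsInvertible L)
    (hsmall : ∀ G : X.Modules, Coh.IsCoh G → genericPoint X ∉ CohB1.support G → Good L G)
    {m : ℕ} {s : Γ(CohB1.tensorPow L (m + 1), (⊤ : X.Opens))} (hs : s ≠ 0)
    (hne : (CohB1.support (cokernel (mulSec s (Coh.structureModule X)))).Nonempty) (c : ℕ) :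
    ∃ n : ℕ, c < Module.finrank k Γ(CohB1.tensorPow L n, (⊤ : X.Opens)) := by
  have hN : IsNoetherian X := isNoetherian k
  let M := CohB1.tensorPow L (m + 1)
  have hM : PicF.IsInvertible M := isInvertible_tensorPow hL _
  let O := Coh.structureModule X
  have hO : PicF.IsInvertible O := EulerDeg.isInvertible_structureModule X
  let f := mulSec s O
  have hgen := genericPoint_mem_gloc hM hs
  have hf : f ≠ 0 := fun h => by
    have hb := mulSec_stalk_bijective s O hgen
    rw [show mulSec s O = 0 from h, Functor.map_zero] at hb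
    have : Nontrivial (O.presheaf.stalk (genericPoint X)) :=
      (RefRank.oneEquiv (genericPoint X)).toEquiv.nontrivial_congr.1 inferInstance
    obtain ⟨a, ha⟩ := exists_ne (0 : O.presheaf.stalk (genericPoint X))
    exact ha (hb.1 rfl)
  have hmono : Mono f := EulerDeg.mono_of_ne_zero hO
    (isInvertible_tensorMod hO hM) hf
  have hOc : Coh.IsCoh O := isCoh_of_isInvertible hO
  have hOM : Coh.IsCoh (CohB1.tensorMod O M) := RefRank.isCoh_tensorMod hOc (isCoh_of_isInvertible hM)
  have := hOc.1
  have := hOM.1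
  let C := cokernel f
  have hC : Coh.IsCoh C := QCohMod.isCoh_cokernel f hOM
  have hCs : genericPoint X ∉ CohB1.support C := fun h => support_cokernel_mulSec_subset s O h hgen
  have hgood : ∀ G, Coh.IsCoh G → CohB1.support G ⊆ CohB1.support C → Good L G :=
    fun G hG hGC => hsmall G hG fun h => hCs (hGC h)
  obtain ⟨N₀, hN₀⟩ := eventually_h0_pos k hL hC hne hgood
  obtain ⟨N₁, hN₁⟩ := hgood C hC subset_rfl 1 one_pos
  let D : ℕ → ℤ := fun n =>
    (Module.finrank k (Coh.HH X (CohB1.tensorPow L n) 0) : ℤ) -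
      Module.finrank k (Coh.HH X (CohB1.tensorPow L n) 1)
  have hstep : ∀ n, max N₀ N₁ ≤ n → D n + 1 ≤ D (n + (m + 1)) := fun n hn => by
    have hP := isInvertible_tensorPow hL n
    have hS := CohTwo.cokerSeq_shortExact f
    have hT := shortExact_tensorRightMod hP hS
    let T := (CohTwo.cokerSeq f).map (DCoh.tensorRightMod (CohB1.tensorPow L n))
    have e₁ : T.X₁ ≅ CohB1.tensorPow L n := (tensor_one _).some
    have e₂ : T.X₂ ≅ CohB1.tensorPow L (n + (m + 1)) :=
      (tensor_congr (tensor_one M) ⟨Iso.refl _⟩).some ≪≫ (tensorPow_add L (m + 1) n).some.symm ≪≫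
        eqToIso (by rw [Nat.add_comm])
    have h₂c : Coh.IsCoh T.X₂ := RefRank.isCoh_tensorMod hOM (isCoh_of_isInvertible hP)
    have h₁c : Coh.IsCoh T.X₁ := RefRank.isCoh_tensorMod hOc (isCoh_of_isInvertible hP)
    have h₃c : Coh.IsCoh T.X₃ := RefRank.isCoh_tensorMod hC (isCoh_of_isInvertible hP)
    have hC1 : Subsingleton (Coh.HH X T.X₃ 1) := hN₁ n (le_of_max_le_right hn)
    have hCpos : 0 < Module.finrank k (Coh.HH X T.X₃ 0) := hN₀ n (le_of_max_le_left hn)
    have h : _ = _ + (Module.finrank k (Coh.HH X T.X₃ 0) : ℤ) :=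
      h0_h1_identity k (S := T) hT h₁c h₂c h₃c hC1
    simp only [D, ← (EulerDeg.hEquiv k e₁ 0).finrank_eq, ← (EulerDeg.hEquiv k e₁ 1).finrank_eq,
      ← (EulerDeg.hEquiv k e₂ 0).finrank_eq, ← (EulerDeg.hEquiv k e₂ 1).finrank_eq]
    omega
  have hiter : ∀ j : ℕ, D (max N₀ N₁) + j ≤ D (max N₀ N₁ + j * (m + 1)) := fun j => by
    induction j with
    | zero => simp
    | succ j ih =>
      rw [Nat.succ_mul, ← Nat.add_assoc]
      have := hstep (max N₀ N₁ + j * (m + 1)) (Nat.le_add_right _ _)
      push_cast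
      omega
  let j := c + 1 + (-D (max N₀ N₁)).toNat
  refine ⟨max N₀ N₁ + j * (m + 1), ?_⟩
  have h : (Module.finrank k (Coh.HH X (CohB1.tensorPow L (max N₀ N₁ + j * (m + 1))) 0)) =
      Module.finrank k Γ(CohB1.tensorPow L (max N₀ N₁ + j * (m + 1)), (⊤ : X.Opens)) :=
    (EulerDeg.h0Equiv k _).finrank_eq
  have := hiter j
  have hj : (c : ℤ) < D (max N₀ N₁) + j := by simp only [j]; omega
  have h' : D (max N₀ N₁ + j * (m + 1)) ≤
      (Module.finrank k (Coh.HH X (CohB1.tensorPow L (max N₀ N₁ + j * (m + 1))) 0) : ℤ) := by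
    simp only [D]; omega
  rw [← h]
  omega

/-- Growth of `h⁰` from a positive self-intersection. -/
theorem hgrow_of_delta_pos [IsIntegral X] {L M : X.Modules} (hL : PicF.IsInvertible L)
    (hLM : Nonempty (CohB1.tensorMod L M ≅ Coh.structureModule X)) {d : ℕ}
    (hd : topologicalKrullDim X ≤ ((d + 1 : ℕ) : WithBot ℕ∞))
    (hsmall : ∀ G : X.Modules, Coh.IsCoh G → genericPoint X ∉ CohB1.support G → Good L G)
    (hpos : 0 < delta k (List.replicate (d + 1) M) (Coh.structureModule X)) (c : ℕ) :
    ∃ n : ℕ, c < Module.finrank k Γ(CohB1.tensorPow L n, (⊤ : X.Opens)) := by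
  classical
  have hN : IsNoetherian X := isNoetherian k
  let O := Coh.structureModule X
  let ξ := genericPoint X
  have hO : PicF.IsInvertible O := EulerDeg.isInvertible_structureModule X
  have hOc : Coh.IsCoh O := isCoh_of_isInvertible hO
  have hLOc : Coh.IsCoh (CohB1.tensorMod L O) := isCoh_twist hL hOc
  have := hOc.1
  have := hLOc.1
  obtain ⟨e⟩ := exists_stalk_equiv_twist hL O ξ
  obtain ⟨J, γ, hξJ, hγ, hγb⟩ := CohTwo.exists_graft hOc hLOc ξ e.toLinearMap e.bijective
  let ι := Dual3.idealMulι J O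
  have hιb := CohTwo.bijective_stalk_idealMulι J O hξJ
  have hNc := CohTwo.isCoh_idealMul J O hOc
  have := hNc.1
  have hι : Mono ι := inferInstanceAs (Mono (kernel.ι _))
  have hgι : ∀ {B : X.Modules} (φ : (Dual3.idealMul J).obj O ⟶ B) [Mono φ], Coh.IsCoh B →
      Function.Bijective ((QCohMod.stalk ξ).map φ) → ∀ i, 2 ≤ i → ∃ N, ∀ n, N ≤ n →
        Module.finrank k (Coh.HH X (CohB1.tensorMod ((Dual3.idealMul J).obj O)
          (CohB1.tensorPow L n)) i) =
        Module.finrank k (Coh.HH X (CohB1.tensorMod B (CohB1.tensorPow L n)) i) := by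
    intro B φ _ hB hb i hi
    have := hB.1
    obtain ⟨N, hN'⟩ := exists_hMap_twist k hL φ (good_isZero L (isZero_kernel_of_mono φ))
      (hsmall _ (QCohMod.isCoh_cokernel φ hB) (CohTwo.notMem_support_cokernel φ ξ hb.2)) i (by omega)
    exact ⟨N, fun n hn =>
      (LinearEquiv.ofBijective (EulerDeg.hMap k ((tw L n).map φ) i)
        ⟨(hN' n hn).2 hi, (hN' n hn).1⟩).finrank_eq⟩
  let h := fun i n => Module.finrank k (Coh.HH X (CohB1.tensorPow L n) i)
  have hbound : ∀ i, 2 ≤ i → ∃ B, ∀ n, h i n ≤ B := by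
    intro i hi
    obtain ⟨N₁, h₁⟩ := hgι ι hOc hιb i hi
    obtain ⟨N₂, h₂⟩ := hgι γ hLOc hγb i hi
    let N := max N₁ N₂
    have hst : ∀ n, N ≤ n → h i (n + 1) = h i n := fun n hn => by
      have a := h₁ n (le_of_max_le_left hn)
      rw [h₂ n (le_of_max_le_right hn)] at a
      have e₁ : CohB1.tensorMod O (CohB1.tensorPow L n) ≅ CohB1.tensorPow L n := (tensor_one _).some
      have e₂ : CohB1.tensorMod (CohB1.tensorMod L O) (CohB1.tensorPow L n) ≅
          CohB1.tensorPow L (n + 1) :=
        (tensor_congr ⟨(tensor_comm L O).some ≪≫ (tensor_one L).some⟩ ⟨Iso.refl _⟩).some ≪≫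
          (tensor_comm L _).some
      simp only [h, ← (EulerDeg.hEquiv k e₁ i).finrank_eq, ← (EulerDeg.hEquiv k e₂ i).finrank_eq]
      exact a
    refine ⟨(Finset.range (N + 1)).sup (h i), fun n => ?_⟩
    induction n with
    | zero => exact Finset.le_sup (f := h i) (Finset.mem_range.2 (by omega))
    | succ n ih =>
      rcases le_or_gt N n with hn | hn
      · exact (hst n hn).trans_le ih
      · exact Finset.le_sup (f := h i) (Finset.mem_range.2 (by omega))
  choose! B hB using hbound
  let T := ∑ i ∈ Finset.range (d + 2), B i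
  have hchi : ∀ n, Curv2.euler k X (CohB1.tensorPow L n) ≤ (h 0 n : ℤ) + T := fun n => by
    rw [← eulerCharLE_eq k hd, FGA.eulerCharLE]
    simp only [T, Nat.cast_sum]
    rw [Finset.sum_range_succ' _ (d + 1), Finset.sum_range_succ' _ (d + 1), pow_zero, one_mul]
    have : ∀ i, (-1 : ℤ) ^ (i + 1) * (h (i + 1) n : ℤ) ≤ (B (i + 1) : ℤ) := fun i => by
      rcases Nat.eq_zero_or_pos i with rfl | hi
      · norm_num
      · have := hB (i + 1) (by omega) n
        rcases neg_one_pow_eq_or ℤ (i + 1) with e | e <;> rw [e] <;> omega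
    have h2 := Finset.sum_le_sum fun i (_ : i ∈ Finset.range (d + 1)) => this i
    simp only [h] at h2 ⊢
    omega
  -- the polynomial is large
  let δ := fun i => delta k (List.replicate i M) O
  let S := ∑ i ∈ Finset.range (d + 1), (δ i).natAbs
  let U := T + c + 1
  let p := (d + 1) * (S + U)
  refine ⟨p + 1, ?_⟩
  have hh : h 0 (p + 1) = Module.finrank k Γ(CohB1.tensorPow L (p + 1), (⊤ : X.Opens)) :=
    (EulerDeg.h0Equiv k _).finrank_eq
  rw [← hh]
  have hdim : topologicalKrullDim (CohB1.support O) ≤ ((d + 1 : ℕ) : WithBot ℕ∞) :=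
    le_trans ((LocCohTransform.topologicalKrullDim_mono (Set.subset_univ _)).trans
      (IsHomeomorph.topologicalKrullDim_eq _ (Homeomorph.Set.univ X).isHomeomorph).le) hd
  have heq := euler_pow_eq k hL hLM hOc (d + 1) hdim (p + 1)
  rw [EulerDeg.euler_congr k ((tensor_comm _ O).some ≪≫ (tensor_one _).some),
    Finset.sum_range_succ] at heq
  let C := (p + d).choose d
  have hC : 1 ≤ C := Nat.choose_pos (Nat.le_add_left d p)
  have htop : (p + 1 + (d + 1) - 1).choose (d + 1) * (d + 1) = (p + d + 1) * C := by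
    rw [show p + 1 + (d + 1) - 1 = p + d + 1 by omega]
    exact (Nat.add_one_mul_choose_eq (p + d) d).symm
  have hlow : -((C * S : ℕ) : ℤ) ≤
      ∑ i ∈ Finset.range (d + 1), ((p + 1 + i - 1).choose i : ℤ) * δ i := by
    simp only [S, Finset.mul_sum, Nat.cast_sum, ← Finset.sum_neg_distrib]
    refine Finset.sum_le_sum fun i hi => ?_
    rw [Finset.mem_range] at hi
    have h1 : (p + 1 + i - 1).choose i ≤ C := by
      rw [show p + 1 + i - 1 = p + i by omega, ← Nat.choose_symm_add,
        show C = (p + d).choose p from (Nat.choose_symm_add).symm]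
      exact Nat.choose_le_choose p (by omega)
    calc -((C * (δ i).natAbs : ℕ) : ℤ) ≤ -(((p + 1 + i - 1).choose i * (δ i).natAbs : ℕ) : ℤ) :=
          neg_le_neg (by exact_mod_cast Nat.mul_le_mul_right _ h1)
      _ ≤ _ := by
          push_cast
          rw [← mul_neg]
          exact mul_le_mul_of_nonneg_left (neg_abs_le _) (Nat.cast_nonneg _)
  have hA : (((p + 1 + (d + 1) - 1).choose (d + 1) : ℕ) : ℤ) ≤
      ((p + 1 + (d + 1) - 1).choose (d + 1) : ℤ) * δ (d + 1) :=
    le_mul_of_one_le_right (Nat.cast_nonneg _) hpos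
  have hbig : C * S + U ≤ (p + 1 + (d + 1) - 1).choose (d + 1) := by
    refine Nat.le_of_mul_le_mul_right ?_ (Nat.succ_pos d)
    rw [htop]
    have e : p = (d + 1) * S + (d + 1) * U := Nat.mul_add _ _ _
    nlinarith [Nat.mul_le_mul_left ((d + 1) * U) hC, Nat.zero_le ((d + 1) * C)]
  have := hchi (p + 1)
  simp only [δ, O] at heq hlow hA
  omega

end Groth.Inter
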