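import Groth.Agent.Inter.Snapper
import Groth.Agent.PicAux.Powers
import Groth.Prelude.Def_Curv2

/-!
# The coefficient of `n₁ ⋯ n_d` in the Snapper polynomial
-/

universe u

open CategoryTheory CategoryTheory.Limits AlgebraicGeometry TopologicalSpace

namespace Groth.Inter

open Groth.PicAux

variable (k : Type u) [Field k] {X : Scheme.{u}} [X.Over (Spec (CommRingCat.of k))]

omit [X.Over (Spec (CommRingCat.of k))] in
theorem tensorPows_const (F L : X.Modules) : ∀ (d : ℕ) (n : Fin d → ℕ),
    Nonempty (Curv2.tensorPows F d (fun _ => L) n ≅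
      CohB1.tensorMod (CohB1.tensorPow L (∑ i, n i)) F)
  | 0, n => by
    rw [Fin.sum_univ_zero]
    exact ⟨(tensor_one F).some.symm⟩
  | d + 1, n => by
    obtain ⟨e⟩ := tensorPows_const F L d (fun i => n i.castSucc)
    rw [Fin.sum_univ_castSucc]
    exact ⟨(tensor_congr ⟨e⟩ ⟨Iso.refl (CohB1.tensorPow L (n (Fin.last d)))⟩).some ≪≫
      (tensor_comm _ _).some ≪≫ (tensor_assoc _ _ F).some.symm ≪≫
      (tensor_congr ⟨(tensor_comm _ _).some ≪≫ (PicAux.tensorPow_add L _ _).some.symm⟩ ⟨Iso.refl F⟩).some⟩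

omit [X.Over (Spec (CommRingCat.of k))] in
theorem multiTwist_const (L : X.Modules) : ∀ (d : ℕ) (n : Fin d → ℕ),
    Nonempty (FGA.multiTwist (fun _ => L) n ≅ CohB1.tensorPow L (∑ i, n i))
  | 0, n => by
    rw [Fin.sum_univ_zero]
    exact ⟨Iso.refl _⟩
  | d + 1, n => by
    obtain ⟨e⟩ := multiTwist_const L d (fun i => n i.succ)
    rw [Fin.sum_univ_succ, multiTwist_succ]
    exact ⟨(tensor_congr ⟨Iso.refl _⟩ ⟨e⟩).some ≪≫ (PicAux.tensorPow_add L _ _).some.symm⟩

omit [X.Over (Spec (CommRingCat.of k))] in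
theorem tensorList_replicate (L : X.Modules) : ∀ j : ℕ,
    Nonempty (FGA.tensorList (List.replicate j L) ≅ CohB1.tensorPow L j)
  | 0 => ⟨Iso.refl _⟩
  | j + 1 => by
    obtain ⟨e⟩ := tensorList_replicate L j
    exact ⟨(tensor_congr ⟨Iso.refl L⟩ ⟨e⟩).some ≪≫ (tensor_comm _ _).some⟩

/-- Alternating sums over the vertices of the cube pick out the coefficient of `X₁ ⋯ X_d`. -/
theorem sum_powerset_eval {d : ℕ} (P : MvPolynomial (Fin d) ℚ) (hP : P.totalDegree ≤ d) :
    ∑ I ∈ (Finset.univ : Finset (Fin d)).powerset,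
      (-1 : ℚ) ^ (d - I.card) * MvPolynomial.eval (fun i => if i ∈ I then (1 : ℚ) else 0) P =
        MvPolynomial.coeff (Finsupp.equivFunOnFinite.symm fun _ : Fin d => 1) P := by
  classical
  let one := (Finsupp.equivFunOnFinite.symm fun _ : Fin d => 1)
  have key : ∀ e : Fin d →₀ ℕ, (∑ I ∈ (Finset.univ : Finset (Fin d)).powerset,
      (-1 : ℚ) ^ (d - I.card) * ∏ i, (if i ∈ I then (1 : ℚ) else 0) ^ e i) =
        ∏ i, (if e i = 0 then (0 : ℚ) else 1) := fun e => by
    have h := (Finset.prod_add (fun _ : Fin d => (1 : ℚ)) (fun i => -((0 : ℚ) ^ e i)) Finset.univ).symm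
    refine (Eq.trans (Finset.sum_congr rfl fun I _ => ?_) h).trans
      (Finset.prod_congr rfl fun i _ => ?_)
    · rw [← Finset.prod_sdiff (Finset.subset_univ I), Finset.prod_neg,
        Finset.card_sdiff_of_subset (Finset.subset_univ I), Finset.card_univ, Fintype.card_fin,
        Finset.prod_const_one, one_mul]
      have h1 : ∏ i ∈ I, (if i ∈ I then (1 : ℚ) else 0) ^ e i = 1 :=
        Finset.prod_eq_one fun i hi => by rw [if_pos hi, one_pow]
      rw [h1, mul_one]
      congr 1
      exact Finset.prod_congr rfl fun i hi => by rw [if_neg (Finset.mem_sdiff.1 hi).2]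
    · rcases Nat.eq_zero_or_pos (e i) with h0 | h0
      · simp [h0]
      · simp [zero_pow h0.ne', h0.ne']
  have hco : ∀ e ∈ P.support, (∏ i, (if e i = 0 then (0 : ℚ) else 1)) = if e = one then 1 else 0 := by
    intro e he
    by_cases h1 : e = one
    · subst h1
      simp [one]
    · rw [if_neg h1]
      have hdeg := (MvPolynomial.le_totalDegree he).trans hP
      rw [Finsupp.sum_fintype _ _ (fun _ => rfl)] at hdeg
      by_contra hne
      replace hne := Finset.prod_ne_zero_iff.1 hne
      have hge : ∀ i ∈ (Finset.univ : Finset (Fin d)), 1 ≤ e i := fun i hi =>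
        Nat.one_le_iff_ne_zero.2 fun h0 => hne i hi (if_pos h0)
      have heq : ∀ i ∈ (Finset.univ : Finset (Fin d)), 1 = e i :=
        (Finset.sum_eq_sum_iff_of_le hge).1 (le_antisymm (Finset.sum_le_sum hge)
          (hdeg.trans (by simp)))
      exact h1 (Finsupp.ext fun i => by simp [one, (heq i (Finset.mem_univ i)).symm])
  simp only [MvPolynomial.eval_eq', Finset.mul_sum]
  rw [Finset.sum_comm]
  have e1 : ∀ e ∈ P.support, (∑ I ∈ (Finset.univ : Finset (Fin d)).powerset,
      (-1 : ℚ) ^ (d - I.card) * (P.coeff e * ∏ i, (if i ∈ I then (1 : ℚ) else 0) ^ e i)) =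
      if e = one then P.coeff e else 0 := fun e he => by
    simp only [mul_left_comm ((-1 : ℚ) ^ _) (P.coeff e), ← Finset.mul_sum, key e, hco e he, mul_ite,
      mul_one, mul_zero]
  rw [Finset.sum_congr rfl e1, Finset.sum_ite_eq']
  split_ifs with h
  · rfl
  · exact (MvPolynomial.notMem_support_iff.1 h).symm

variable [IsProper (X ↘ Spec (CommRingCat.of k))]

/-- The coefficient of `n₁ ⋯ n_d` of a polynomial computing `χ(F ⊗ L^{n₁} ⊗ ⋯ ⊗ L^{n_d})`. -/
theorem coeff_eq_delta {L : X.Modules} (hL : PicF.IsInvertible L) {F : X.Modules} (hF : Coh.IsCoh F)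
    {d : ℕ} (hdim : topologicalKrullDim (CohB1.support F) ≤ (d : ℕ)) (P : MvPolynomial (Fin d) ℚ)
    (hP : ∀ n : Fin d → ℕ, (Curv2.euler k X (Curv2.tensorPows F d (fun _ => L) n) : ℚ) =
      MvPolynomial.eval (fun i => (n i : ℚ)) P) :
    MvPolynomial.coeff (Finsupp.equivFunOnFinite.symm fun _ : Fin d => 1) P =
      (-1) ^ d * (delta k (List.replicate d L) F : ℚ) := by
  classical
  obtain ⟨P₀, hdeg, hP₀⟩ := exists_poly k d d (fun _ => L) (fun _ => hL) [] (by simp) (by simp) F hF hdim
  have he : ∀ n : Fin d → ℕ, (delta k [] (CohB1.tensorMod (FGA.multiTwist (fun _ => L) n) F) : ℚ) =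
      MvPolynomial.eval (fun i => (n i : ℚ)) P := fun n => by
    rw [← hP n, delta_nil, EulerDeg.euler_congr k
      ((tensor_congr (multiTwist_const L d n) ⟨Iso.refl F⟩).some ≪≫ (tensorPows_const F L d n).some.symm)]
  have hPP : P = P₀ := by
    refine MvPolynomial.funext_set (fun _ => Set.range (Nat.cast : ℕ → ℚ))
      (fun _ => Set.infinite_range_of_injective Nat.cast_injective) fun x hx => ?_
    choose n hn using fun i => hx i (Set.mem_univ i)
    obtain rfl : (fun i => (n i : ℚ)) = x := funext hn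
    rw [← he n, hP₀ n]
  have h := sum_powerset_eq_delta k (fun _ : Fin d => L) Finset.univ F
  rw [List.map_const', Finset.length_toList, Finset.card_univ, Fintype.card_fin] at h
  rw [← sum_powerset_eval P (by rw [hPP]; simpa using hdeg), ← h]
  push_cast
  rw [Finset.mul_sum]
  refine Finset.sum_congr rfl fun I hI => ?_
  have hI' : I.card ≤ d := (Finset.card_le_univ I).trans_eq (Fintype.card_fin d)
  have e := he (fun i => if i ∈ I then 1 else 0)
  have hs : (∑ i : Fin d, if i ∈ I then 1 else 0) = I.card := by simp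
  rw [delta_nil, EulerDeg.euler_congr k (tensor_congr
    ⟨(multiTwist_const L d (fun i => if i ∈ I then 1 else 0)).some ≪≫ eqToIso (by rw [hs]) ≪≫
      (tensorList_replicate L I.card).some.symm⟩ ⟨Iso.refl F⟩).some] at e
  rw [List.map_const', Finset.length_toList, e]
  have hx : (fun i => (((if i ∈ I then 1 else 0) : ℕ) : ℚ)) = fun i => if i ∈ I then (1 : ℚ) else 0 :=
    funext fun i => by split_ifs <;> simp
  rw [hx, ← mul_assoc]
  congr 1
  rw [← pow_add, show d + I.card = d - I.card + 2 * I.card by omega, pow_add, pow_mul, neg_one_sq,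
    one_pow, mul_one]

end Groth.Inter
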