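import Groth.Agent.Inter.Nakai
import Groth.Agent.RefRank.DivSheaf

/-!
# The criterion of Nakai and Moishezon, induction on the support
-/

universe u

open CategoryTheory CategoryTheory.Limits AlgebraicGeometry TopologicalSpace Opposite

namespace Groth.Inter

open Groth.PicAux Groth.HilbStab

attribute [local instance] Groth.EulerDeg.secModule

variable (k : Type u) [Field k] {X : Scheme.{u}} [X.Over (Spec (CommRingCat.of k))]
  [IsProper (X ↘ Spec (CommRingCat.of k))]

include k in
/-- Goodness and direct images along closed immersions. -/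
theorem goodAt_push {Z : Scheme.{u}} (i : Z ⟶ X) [IsClosedImmersion i] {L : X.Modules}
    (hL : PicF.IsInvertible L) (G : Z.Modules) (j : ℕ) :
    GoodAt L j ((Scheme.Modules.pushforward i).obj G) ↔
      GoodAt ((Scheme.Modules.pullback i).obj L) j G := by
  refine exists_congr fun N => forall_congr' fun n => imp_congr_right fun _ => ?_
  obtain ⟨P, -⟩ := PnCoh.exists_projectionFormula i G (isInvertible_tensorPow hL n)
  let e' : (Scheme.Modules.pullback i).obj (CohB1.tensorPow L n) ≅
      CohB1.tensorPow ((Scheme.Modules.pullback i).obj L) n := (pullback_tensorPow i L n).some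
  let e : CohB1.tensorMod ((Scheme.Modules.pushforward i).obj G) (CohB1.tensorPow L n) ≅
      (Scheme.Modules.pushforward i).obj
        (CohB1.tensorMod G (CohB1.tensorPow ((Scheme.Modules.pullback i).obj L) n)) :=
    P ≪≫ (Scheme.Modules.pushforward i).mapIso (tensor_congr ⟨Iso.refl G⟩ ⟨e'⟩).some
  obtain ⟨f⟩ := CohC3.nonempty_linearEquiv_push_closed i (X ↘ Spec (CommRingCat.of k)) j
    (CohB1.tensorMod G (CohB1.tensorPow ((Scheme.Modules.pullback i).obj L) n))
  exact ⟨fun h => @Equiv.subsingleton _ _ f.symm.toEquiv (subsingleton_HH_of_iso k e h),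
    fun h => subsingleton_HH_of_iso k e.symm (@Equiv.subsingleton _ _ f.toEquiv h)⟩

/-- The hypothesis of the induction: on every integral closed subscheme of positive dimension on
which twists of small modules are good, powers of `L` have many sections. -/
def GrowsOnSubvarieties (L : X.Modules) : Prop :=
  ∀ (ξ : X) [IsIntegral (IntMult.ptIdeal ξ).subscheme] (d : ℕ),
    topologicalKrullDim (closure ({ξ} : Set X)) = ((d + 1 : ℕ) : WithBot ℕ∞) →
    letI : (IntMult.ptIdeal ξ).subscheme.Over (Spec (CommRingCat.of k)) :=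
      ⟨(IntMult.ptIdeal ξ).subschemeι ≫ (X ↘ Spec (CommRingCat.of k))⟩
    (∀ G : (IntMult.ptIdeal ξ).subscheme.Modules, Coh.IsCoh G →
      genericPoint (IntMult.ptIdeal ξ).subscheme ∉ CohB1.support G →
        Good ((Scheme.Modules.pullback (IntMult.ptIdeal ξ).subschemeι).obj L) G) →
    ∀ c : ℕ, ∃ n : ℕ, c < Module.finrank k
      Γ(CohB1.tensorPow ((Scheme.Modules.pullback (IntMult.ptIdeal ξ).subschemeι).obj L) n,
        (⊤ : (IntMult.ptIdeal ξ).subscheme.Opens))

/-- All coherent modules are good. -/
theorem good_of_grows {L : X.Modules} (hL : PicF.IsInvertible L) (H : GrowsOnSubvarieties k L)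
    {F : X.Modules} (hF : Coh.IsCoh F) : Good L F := by
  have hN : IsNoetherian X := isNoetherian k
  refine CohTwo.coh_induction (Good L) (fun _ _ e h => good_iso k e h) (fun _ h => good_isZero L h)
    (fun S hS _ _ _ h₁ h₃ => good_ext k hL hS h₁ h₃) Set.univ ?_ isClosed_univ F hF (Set.subset_univ _)
  intro Y ξ hY _ G hG hkill hsmall
  obtain rfl : Y = ⟨closure {ξ}, isClosed_closure⟩ := Closeds.ext hY
  have := hG.1
  let J := IntMult.ptIdeal ξ
  let Z := J.subscheme
  let i := J.subschemeι
  letI : Z.Over (Spec (CommRingCat.of k)) := ⟨i ≫ (X ↘ Spec (CommRingCat.of k))⟩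
  have : IsProper (Z ↘ Spec (CommRingCat.of k)) :=
    inferInstanceAs (IsProper (i ≫ (X ↘ Spec (CommRingCat.of k))))
  have : IsIntegral Z := CohTwo.isIntegral_closure_subscheme hY
  let LZ := (Scheme.Modules.pullback i).obj L
  have hLZ : PicF.IsInvertible LZ := PicAux.isInvertible_pullback i hL
  have hr : Set.range i = closure ({ξ} : Set X) :=
    Groth.PropsBasic2.range_vanishingIdeal_subschemeι ⟨closure {ξ}, isClosed_closure⟩
  have hu : IsIso ((Scheme.Modules.pullbackPushforwardAdjunction i).unit.app G) :=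
    (Groth.QCohMod.isIso_unit_closedImmersion_iff i G).2 fun U a ha m => by
      rw [Scheme.IdealSheafData.ker_subschemeι] at ha
      exact hkill.smul_eq_zero U.2 ha m
  let GZ := (Scheme.Modules.pullback i).obj G
  have hGZ : Coh.IsCoh GZ :=
    ⟨Groth.QCohMod.isQCoh_pullback_obj i G, Groth.QCohMod.isFT_pullback i G hG.2⟩
  refine good_iso k ⟨(asIso ((Scheme.Modules.pullbackPushforwardAdjunction i).unit.app G)).symm⟩
    (fun j hj => (goodAt_push k i hL GZ j).2 ?_)
  obtain ⟨n, hn⟩ := Variety2.Dim.exists_height_eq (Z ↘ Spec (CommRingCat.of k)) (genericPoint Z)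
  have hdim : topologicalKrullDim Z = ((n : ℕ) : WithBot ℕ∞) := by
    rw [Variety2.Dim.dim_eq_height_genericPoint, hn]
    rfl
  cases n with
  | zero => exact good_of_dim_le_zero k hdim.le LZ GZ j hj
  | succ d =>
    have hsm : ∀ K : Z.Modules, Coh.IsCoh K → genericPoint Z ∉ CohB1.support K → Good LZ K := by
      intro K hK hξK j' hj'
      refine (goodAt_push k i hL K j').1 (hsmall _ (CohTwo.isCoh_push i hK)
        ((CohTwo.support_push_subset i K).trans hr.le) (fun h => hξK ?_) j' hj')
      rw [← CohTwo.apply_genericPoint_eq i (hr.trans hY)] at h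
      exact fun hs => h (@Equiv.subsingleton _ _ (Equiv.ofBijective _
        (CohTwo.bijective_pushStalk i K (genericPoint Z))) hs)
    exact goodAt_of_many_sections k hLZ hsm (H ξ d ((dim_ptIdeal_subscheme ξ).symm.trans hdim) hsm) hGZ j hj

include k in
/-- An invertible module growing on every subvariety is ample. -/
theorem isAmple_of_grows {L : X.Modules} (hL : PicF.IsInvertible L) (H : GrowsOnSubvarieties k L) :
    CohB1.IsAmple L := by
  have hN : IsNoetherian X := isNoetherian k
  refine isAmple_of_ideal_vanishing hL fun I => ?_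
  obtain ⟨N, hN'⟩ := good_of_grows k hL H (RefRank.isCoh_idealMod I) 1 one_pos
  exact ⟨N, hN' (N + 1) (Nat.le_succ N)⟩

end Groth.Inter
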