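import Groth.Agent.Inter.Delta
import Groth.Agent.CohBase.RpushSections
import Groth.Agent.CohBase.Push
import Groth.Agent.CohFin.Rpush
import Groth.Agent.CohFin.BaseLocal
import Groth.Agent.CohC3.ProperSupport
import Groth.Agent.PnCoh.AmpleVanishing
import Groth.Agent.PnCoh.ProjectionFormula
import Groth.Agent.Ega2Proj.RelAmple

/-!
# Euler characteristics of acyclic direct images

If `A` is ample on the source of a proper `k`-morphism `π`, then for `j ≫ 0` the module `A^j ⊗ G`
is acyclic for `π`, and intersection symbols may be computed on the target.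
-/

set_option linter.style.haveILetI false

universe u

open CategoryTheory CategoryTheory.Limits AlgebraicGeometry TopologicalSpace Opposite

namespace Groth.Inter

open Groth.PicAux Groth.CohBase Groth.CohFin

section

variable {X Y : Scheme.{u}}

/-- Vanishing of cohomology passes to distinguished opens. -/
theorem hVanish_basicOpen (M : X.Modules) [M.IsQuasicoherent] {W : X.Opens}
    (hc : IsCompact (W : Set X)) (hq : IsQuasiSeparated (W : Set X)) (g : Γ(X, W)) {p : ℕ}
    (h : HVanish (X := X.toTopCat) (abSheaf M) p W) :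
    HVanish (X := X.toTopCat) (abSheaf M) p (X.basicOpen g) := by
  obtain ⟨R, rfl, hR⟩ := exists_flasque_res M
  refine subsingleton_of_forall_eq 0 fun e => ?_
  obtain ⟨η, rfl⟩ := Res.clsH_surjective hR (X.basicOpen g) p e
  rw [Res.clsH_eq_zero_iff hR]
  have hle := X.basicOpen_le g
  obtain ⟨n, y, hy, hyη⟩ := ((Res.locAt_of_isCompact hR W hc hq) g _ hle rfl p).surj η.1 η.2
  have h1 : QCohMod.resFun X hle g ^ n • η.1 ∈ R.Bd (X.basicOpen g) p := by
    have h2 := sub_mem (Res.res_mem_bd hle (Res.bd_of_cyc hR h hy)) hyη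
    rwa [sub_sub_cancel] at h2
  have hu : IsUnit (QCohMod.resFun X hle g ^ n) :=
    (RingedSpace.isUnit_res_basicOpen X.toLocallyRingedSpace.toRingedSpace g).pow n
  exact (Submodule.smul_mem_iff_of_isUnit _ hu).1 h1

/-- Acyclicity for a direct image may be tested on an affine cover of the target. -/
theorem pushAcyclic_of_cover (π : X ⟶ Y) [QuasiCompact π] [QuasiSeparated π] (M : X.Modules)
    [M.IsQuasicoherent] (h : ∀ y : Y, ∃ V : Y.Opens, IsAffineOpen V ∧ y ∈ V ∧
      ∀ q, HVanish (X := X.toTopCat) (abSheaf M) (q + 1) (π ⁻¹ᵁ V)) :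
    PushAcyclic π.base (abSheaf M) := by
  intro U y hy
  obtain ⟨V, hV, hyV, hvan⟩ := h y
  obtain ⟨g, hg, hyg⟩ := hV.exists_basicOpen_le (V := U) ⟨y, hy⟩ hyV
  refine ⟨Y.basicOpen g, hg, hyg, fun q => ?_⟩
  have : IsAffine V.toScheme := hV
  have : QuasiSeparatedSpace (π ⁻¹ᵁ V).toScheme := quasiSeparatedSpace_of_quasiSeparated (π ∣_ V)
  have h1 := hVanish_basicOpen M (W := π ⁻¹ᵁ V) (QuasiCompact.isCompact_preimage _ V.2 hV.isCompact)
    ((isQuasiSeparated_iff_quasiSeparatedSpace ((π ⁻¹ᵁ V : X.Opens) : Set X) (π ⁻¹ᵁ V).2).mpr this)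
    ((π.app V).hom g) (hvan q)
  rwa [← Scheme.preimage_basicOpen] at h1

/-- Serre vanishing over the affine opens of the target. -/
theorem exists_hVanish_preimage (π : X ⟶ Y) [IsProper π] [IsLocallyNoetherian Y] {A : X.Modules}
    (hA : CohB1.IsAmple A) {G : X.Modules} (hG : Coh.IsCoh G) {V : Y.Opens} (hV : IsAffineOpen V) :
    ∃ d₀ : ℕ, ∀ d, d₀ ≤ d → ∀ q : ℕ, HVanish (X := X.toTopCat)
      (abSheaf (CohB1.tensorMod (CohB1.tensorPow A d) G)) (q + 1) (π ⁻¹ᵁ V) := by
  have : IsNoetherianRing Γ(Y, V) := IsLocallyNoetherian.component_noetherian (X := Y) ⟨V, hV⟩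
  let U := π ⁻¹ᵁ V
  have : IsAffine V.toScheme := hV
  have : IsProper (π ∣_ V) := IsZariskiLocalAtTarget.restrict ‹IsProper π› V
  have : CompactSpace U.toScheme := QuasiCompact.compactSpace_of_compactSpace (π ∣_ V)
  let f : U.toScheme ⟶ Spec (CommRingCat.of Γ(Y, V)) := (π ∣_ V) ≫ hV.isoSpec.hom
  have : IsLocallyNoetherian X := LocallyOfFiniteType.isLocallyNoetherian π
  have hGU : Coh.IsCoh ((Scheme.Modules.pullback U.ι).obj G) :=
    QCohMod.isCoh_of_iso ((Scheme.Modules.restrictFunctorIsoPullback U.ι).app G) (isCoh_restrict hG U)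
  have hAU : CohB1.IsAmple ((Scheme.Modules.pullback U.ι).obj A) :=
    Ega2Proj.isAmple_pullback U.ι U.ι.isOpenEmbedding.isInducing hA
  obtain ⟨d₀, hd₀⟩ := PnCoh.exists_subsingleton_of_isAmple f hAU _ hGU
  refine ⟨d₀, fun d hd q => ?_⟩
  have e : (CohB1.tensorMod (CohB1.tensorPow A d) G).restrict U.ι ≅
      CohB1.tensorMod ((Scheme.Modules.pullback U.ι).obj G)
        (CohB1.tensorPow ((Scheme.Modules.pullback U.ι).obj A) d) :=
    (Scheme.Modules.restrictFunctorIsoPullback U.ι).app _ ≪≫
      (exists_pullback_tensorMod U.ι (CohB1.tensorPow A d) G).choose ≪≫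
      (tensor_comm _ _).some ≪≫ (tensor_congr ⟨Iso.refl _⟩ (pullback_tensorPow U.ι A d)).some
  have h1 : Subsingleton (Sheaf.H
      (abSheaf ((CohB1.tensorMod (CohB1.tensorPow A d) G).restrict U.ι)) (q + 1) : Type u) :=
    @Equiv.subsingleton _ _ (((Sheaf.functorH _ (q + 1)).mapIso
      ((SheafOfModules.toSheaf.{u} U.toScheme.ringCatSheaf).mapIso e)).addCommGroupIsoToAddEquiv).toEquiv
      (hd₀ d hd (q + 1) q.succ_pos)
  obtain ⟨e'⟩ := nonempty_equiv_HHon (CohB1.tensorMod (CohB1.tensorPow A d) G) U (q + 1)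
  exact e'.symm.toEquiv.subsingleton

/-- High twists by an ample module are acyclic for a proper morphism. -/
theorem exists_pushAcyclic (π : X ⟶ Y) [IsProper π] [IsNoetherian Y] {A : X.Modules}
    (hA : CohB1.IsAmple A) {G : X.Modules} (hG : Coh.IsCoh G) :
    ∃ j₀ : ℕ, ∀ j, j₀ ≤ j → PushAcyclic π.base (abSheaf (CohB1.tensorMod (CohB1.tensorPow A j) G)) := by
  classical
  choose W hW hyW using fun y : Y => QCohMod.exists_affine_mem y
  obtain ⟨t, ht⟩ := CompactSpace.isCompact_univ.elim_finite_subcover (fun y => (W y : Set Y))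
    (fun y => (W y).isOpen) (fun y _ => Set.mem_iUnion.2 ⟨y, hyW y⟩)
  choose d hd using fun y : Y => exists_hVanish_preimage π hA hG (hW y)
  refine ⟨t.sup d, fun j hj => ?_⟩
  have := (isCoh_twist (PicAux.isInvertible_tensorPow hA.1 j) hG).1
  refine pushAcyclic_of_cover π _ fun y => ?_
  obtain ⟨z, hz, hy⟩ := Set.mem_iUnion₂.1 (ht (Set.mem_univ y))
  exact ⟨W z, hW z, hy, hd z j ((Finset.le_sup hz).trans hj)⟩

/-- Higher cohomology of direct images of injective modules vanishes. -/
lemma subsingleton_HH_push_injective' (π : X ⟶ Y) (I : X.Modules) [Injective I] (n : ℕ) :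
    Subsingleton (Coh.HH Y ((Scheme.Modules.pushforward π).obj I) (n + 1)) := by
  haveI : TopCat.Sheaf.IsFlasque (abSheaf ((Scheme.Modules.pushforward π).obj I)) :=
    (Groth.SiteCohomology.isFlasque_iff_surjective _).2
      fun U V h => res_surjective_of_injective I ((Opens.map π.base).map h).le
  exact (subsingleton_H_iff (X := Y.toTopCat) _ _).2
    (Groth.SiteCohomology.subsingleton_HU_succ_of_flasque
      (abSheaf ((Scheme.Modules.pushforward π).obj I)) ⊤ n)

/-- `H^n(Y, π_* M) ≅ H^n(X, M)` linearly for a module acyclic over a basis of the target. -/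
theorem nonempty_linearEquiv_push_acyclic {A : Type u} [CommRing A] (π : X ⟶ Y)
    (s : Y ⟶ Spec (CommRingCat.of A)) (n : ℕ) (M : X.Modules)
    (hM : PushAcyclic π.base (abSheaf M)) :
    Nonempty (HA s ((Scheme.Modules.pushforward π).obj M) n ≃ₗ[A] HA (π ≫ s) M n) := by
  induction n generalizing M with
  | zero => exact ⟨pushZero π s M⟩
  | succ n ih =>
    let ι := Injective.ι M
    let S := ShortComplex.mk ι (cokernel.π ι) (cokernel.condition _)
    have hS : S.ShortExact :=
      { exact := ShortComplex.exact_of_g_is_cokernel _ (cokernelIsCokernel ι)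
        mono_f := inferInstanceAs (Mono (Injective.ι M))
        epi_g := inferInstanceAs (Epi (cokernel.π ι)) }
    have hepi : Epi ((pushSheaf π.base).map ((toAbF X).map S.g)) :=
      PushAcyclic.epi_map (S := S.map (toAbF X)) (shortExact_toAb hS) hM
    haveI : (toAbF Y).Faithful :=
      inferInstanceAs (SheafOfModules.toSheaf.{u} Y.ringCatSheaf).Faithful
    have hS' : (S.map (Scheme.Modules.pushforward π)).ShortExact := by
      haveI := hS.mono_f
      exact { exact := hS.exact.map_of_mono_of_preservesKernel _ hS.mono_f inferInstance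
              mono_f := inferInstanceAs (Mono ((Scheme.Modules.pushforward π).map S.f))
              epi_g := (toAbF Y).epi_of_epi_map hepi }
    have : Injective S.X₂ := inferInstanceAs (Injective (Injective.under M))
    have hQ : PushAcyclic π.base (abSheaf S.X₃) := pushAcyclic_quotient_module π hS hM
    have hIY : ∀ m, Subsingleton (HA s ((Scheme.Modules.pushforward π).obj (Injective.under M)) (m + 1)) :=
      fun m => subsingleton_HH_push_injective' π (Injective.under M) m
    have hIX : ∀ m, Subsingleton (HA (π ≫ s) (Injective.under M) (m + 1)) :=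
      fun m => (subsingleton_H_iff (X := X.toTopCat) _ _).2
        (hVanish_of_injective_module (Injective.under M) ⊤ m)
    have hδ : Function.Surjective (CohFin.delta (f := π ≫ s) hS n) := fun y =>
      ((exact_delta_mapL (f := π ≫ s) hS n) y).1 (@Subsingleton.elim _ (hIX n) _ _)
    have hδ' : Function.Surjective (CohFin.delta (f := s) hS' n) := fun y =>
      ((exact_delta_mapL (f := s) hS' n) y).1 (@Subsingleton.elim _ (hIY n) _ _)
    rcases n with _ | n
    · let p := pushZero π s (cokernel ι)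
      have hker : (LinearMap.ker (CohFin.delta (f := s) hS' 0)).map p.toLinearMap =
          LinearMap.ker (CohFin.delta (f := π ≫ s) hS 0) := by
        ext x
        constructor
        · rintro ⟨x', hx', rfl⟩
          obtain ⟨y, rfl⟩ := (exact_mapL_delta (f := s) hS' 0 x').1 hx'
          refine (exact_mapL_delta (f := π ≫ s) hS 0 _).2 ⟨pushZero π s _ y, ?_⟩
          exact (pushZero_mapL π s (cokernel.π ι) y).symm
        · intro hx
          obtain ⟨y, rfl⟩ := (exact_mapL_delta (f := π ≫ s) hS 0 x).1 hx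
          refine ⟨mapL s ((Scheme.Modules.pushforward π).map (cokernel.π ι)) 0
            ((pushZero π s _).symm y), (exact_mapL_delta (f := s) hS' 0 _).2 ⟨_, rfl⟩, ?_⟩
          refine (pushZero_mapL π s (cokernel.π ι) _).trans ?_
          rw [LinearEquiv.apply_symm_apply]
      exact ⟨((CohFin.delta (f := s) hS' 0).quotKerEquivOfSurjective hδ').symm ≪≫ₗ
        Submodule.Quotient.equiv _ _ p hker ≪≫ₗ
        (CohFin.delta (f := π ≫ s) hS 0).quotKerEquivOfSurjective hδ⟩
    · obtain ⟨e⟩ := ih (cokernel ι) hQ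
      have hi : Function.Injective (CohFin.delta (f := π ≫ s) hS (n + 1)) :=
        (injective_iff_map_eq_zero _).2 fun x hx => by
          obtain ⟨y, rfl⟩ := (exact_mapL_delta (f := π ≫ s) hS (n + 1) x).1 hx
          rw [show y = 0 from @Subsingleton.elim _ (hIX n) _ _, map_zero]
      have hi' : Function.Injective (CohFin.delta (f := s) hS' (n + 1)) :=
        (injective_iff_map_eq_zero _).2 fun x hx => by
          obtain ⟨y, rfl⟩ := (exact_mapL_delta (f := s) hS' (n + 1) x).1 hx
          rw [show y = 0 from @Subsingleton.elim _ (hIY n) _ _, map_zero]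
      exact ⟨(LinearEquiv.ofBijective (CohFin.delta (f := s) hS' (n + 1)) ⟨hi', hδ'⟩).symm ≪≫ₗ e ≪≫ₗ
        LinearEquiv.ofBijective (CohFin.delta (f := π ≫ s) hS (n + 1)) ⟨hi, hδ⟩⟩

end

variable (k : Type u) [Field k] {X X' : Scheme.{u}} [X.Over (Spec (CommRingCat.of k))]
  [X'.Over (Spec (CommRingCat.of k))]

theorem euler_push_acyclic (π : X' ⟶ X)
    (hπ : π ≫ (X ↘ Spec (CommRingCat.of k)) = X' ↘ Spec (CommRingCat.of k)) {M : X'.Modules}
    (hM : PushAcyclic π.base (abSheaf M)) :
    Curv2.euler k X ((Coh.push π).obj M) = Curv2.euler k X' M := by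
  rename_i instX instX'
  cases instX' with
  | ofHom g =>
  obtain rfl : π ≫ (X ↘ Spec (CommRingCat.of k)) = g := hπ.trans rfl
  refine finsum_congr fun n => ?_
  obtain ⟨e⟩ := nonempty_linearEquiv_push_acyclic π (X ↘ Spec (CommRingCat.of k)) n M hM
  congr 2
  exact e.finrank_eq

/-- For high twists by an ample module, intersection symbols are computed on the target. -/
theorem exists_delta_pullback_eq [IsProper (X ↘ Spec (CommRingCat.of k))] (π : X' ⟶ X) [IsProper π]
    (hπ : π ≫ (X ↘ Spec (CommRingCat.of k)) = X' ↘ Spec (CommRingCat.of k)) {A : X'.Modules}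
    (hA : CohB1.IsAmple A) :
    ∀ (l : List X.Modules), (∀ M ∈ l, PicF.IsInvertible M) → ∀ G : X'.Modules, Coh.IsCoh G →
      ∃ j₀ : ℕ, ∀ j, j₀ ≤ j →
        delta k (l.map (Scheme.Modules.pullback π).obj) (CohB1.tensorMod (CohB1.tensorPow A j) G) =
          delta k l ((Coh.push π).obj (CohB1.tensorMod (CohB1.tensorPow A j) G)) := by
  have hN : IsNoetherian X := isNoetherian k
  have : IsLocallyNoetherian X' := LocallyOfFiniteType.isLocallyNoetherian π
  intro l
  induction l with
  | nil =>
    intro _ G hG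
    obtain ⟨j₀, hj₀⟩ := exists_pushAcyclic π hA hG
    exact ⟨j₀, fun j hj => (euler_push_acyclic k π hπ (hj₀ j hj)).symm⟩
  | cons a l ih =>
    intro hl G hG
    have ha : PicF.IsInvertible a := hl a (by simp)
    have ha' := PicAux.isInvertible_pullback π ha
    have hl' := fun M hM => hl M (List.mem_cons_of_mem a hM)
    obtain ⟨j₁, hj₁⟩ := ih hl' G hG
    obtain ⟨j₂, hj₂⟩ := ih hl' _ (isCoh_twist ha' hG)
    refine ⟨max j₁ j₂, fun j hj => ?_⟩
    rw [List.map_cons, delta_cons, delta_cons, hj₁ j (le_of_max_le_left hj),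
      delta_congr k _ (tensor_left_comm ((Scheme.Modules.pullback π).obj a) (CohB1.tensorPow A j) G),
      hj₂ j (le_of_max_le_right hj)]
    congr 1
    exact delta_congr k l
      ⟨(Coh.push π).mapIso (tensor_left_comm (CohB1.tensorPow A j) _ G).some ≪≫
        (Scheme.Modules.pushforward π).mapIso (tensor_comm _ _).some ≪≫
        (PnCoh.exists_projectionFormula π _ ha).choose.symm ≪≫ (tensor_comm _ a).some⟩

end Groth.Inter
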