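import Groth.Agent.Inter.Twist
import Groth.Agent.Inter.Chi
import Groth.Agent.PicAux.Powers
import Groth.Agent.HilbStab.Mult
import Groth.Agent.HilbStab.Scalar
import Groth.Agent.EulerDeg.FiniteSupport
import Groth.Agent.CohC3.ProperSupport
import Groth.Agent.PnCoh.ProjectionFormula

/-!
# Eventual vanishing of the higher cohomology of twists
-/

universe u

open CategoryTheory CategoryTheory.Limits AlgebraicGeometry TopologicalSpace Opposite

namespace Groth.Inter

open Groth.PicAux Groth.HilbStab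

attribute [local instance] Groth.EulerDeg.secModule

variable {X : Scheme.{u}}

/-- `F ⊗ L^n`. -/
noncomputable abbrev tw (L : X.Modules) (n : ℕ) : X.Modules ⥤ X.Modules :=
  DCoh.tensorRightMod (CohB1.tensorPow L n)

/-- `H^i(F ⊗ L^n)` vanishes for large `n`. -/
def GoodAt (L : X.Modules) (i : ℕ) (F : X.Modules) : Prop :=
  ∃ N : ℕ, ∀ n : ℕ, N ≤ n → Subsingleton (Coh.HH X (CohB1.tensorMod F (CohB1.tensorPow L n)) i)

/-- The higher cohomology of `F ⊗ L^n` vanishes for large `n`. -/
def Good (L F : X.Modules) : Prop := ∀ i : ℕ, 0 < i → GoodAt L i F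

lemma tw_add (L F : X.Modules) (a b : ℕ) :
    Nonempty (CohB1.tensorMod (CohB1.tensorMod F (CohB1.tensorPow L a)) (CohB1.tensorPow L b) ≅
      CohB1.tensorMod F (CohB1.tensorPow L (a + b))) :=
  ⟨(tensor_assoc F _ _).some ≪≫
    (tensor_congr ⟨Iso.refl F⟩ ⟨(tensorPow_add L a b).some.symm⟩).some⟩

/-- The exchange `(F ⊗ M) ⊗ B ≅ (F ⊗ B) ⊗ M`, with its formula on sections. -/
theorem exists_swap (F M B : X.Modules) :
    ∃ e : CohB1.tensorMod (CohB1.tensorMod F M) B ≅ CohB1.tensorMod (CohB1.tensorMod F B) M,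
      ∀ W a b c, e.hom.app W (tmulSec (tmulSec a b) c) = tmulSec (tmulSec a c) b := by
  obtain ⟨b₁, hb₁⟩ := exists_braiding (CohB1.tensorMod F M) B
  obtain ⟨α, hα⟩ := exists_associator B F M
  obtain ⟨b₂, hb₂⟩ := exists_braiding B F
  refine ⟨b₁ ≪≫ α.symm ≪≫ (DCoh.tensorRightMod M).mapIso b₂, fun W a b c => ?_⟩
  have h1 : α.inv.app W (tmulSec c (tmulSec a b)) = tmulSec (tmulSec c a) b := by
    apply ((ConcreteCategory.isIso_iff_bijective (α.hom.app W)).1 inferInstance).1
    rw [hα, ← ConcreteCategory.comp_apply (α.inv.app W), ← Scheme.Modules.Hom.comp_app, α.inv_hom_id]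
    rfl
  change ((DCoh.tensorRightMod M).map b₂.hom).app W
    (α.inv.app W (b₁.hom.app W (tmulSec (tmulSec a b) c))) = _
  rw [hb₁, h1]
  refine (tensorRightMod_map_tmulSec M b₂.hom W (tmulSec c a) b).trans ?_
  rw [hb₂]

/-- Twisting multiplication by a section is multiplication on the twist. -/
theorem exists_swap_mulSec {M : X.Modules} (s : Γ(M, ⊤)) (F B : X.Modules) :
    ∃ e : CohB1.tensorMod (CohB1.tensorMod F M) B ≅ CohB1.tensorMod (CohB1.tensorMod F B) M,
      (DCoh.tensorRightMod B).map (mulSec s F) ≫ e.hom = mulSec s (CohB1.tensorMod F B) := by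
  obtain ⟨e, he⟩ := exists_swap F M B
  refine ⟨e, tensor_hom_ext (L := F) (M := B) fun W a c => ?_⟩
  change e.hom.app W (((DCoh.tensorRightMod B).map (mulSec s F)).app W (tmulSec a c)) = _
  rw [tensorRightMod_map_tmulSec B (mulSec s F) W a c, mulSec_app, he, mulSec_app]

/-- Multiplication by a section commutes with isomorphisms. -/
theorem mulSec_iso {M : X.Modules} (s : Γ(M, ⊤)) {G G' : X.Modules} (e : G ≅ G') :
    mulSec s G' = e.inv ≫ mulSec s G ≫ (DCoh.tensorRightMod M).map e.hom := by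
  exact (Iso.eq_inv_comp e).2 (mulSec_naturality s e.hom)

section Good

variable (k : Type u) [Field k] [X.Over (Spec (CommRingCat.of k))]

include k in
lemma subsingleton_HH_of_iso {F G : X.Modules} (e : F ≅ G) {i : ℕ}
    (h : Subsingleton (Coh.HH X F i)) : Subsingleton (Coh.HH X G i) :=
  (EulerDeg.hEquiv k e i).symm.toEquiv.subsingleton

include k in
lemma good_iso {L F G : X.Modules} (e : Nonempty (F ≅ G)) (h : Good L F) : Good L G := fun i hi => by
  obtain ⟨N, hN⟩ := h i hi
  exact ⟨N, fun n hn => subsingleton_HH_of_iso k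
    (tensor_congr e ⟨Iso.refl _⟩).some (hN n hn)⟩

lemma good_isZero (L : X.Modules) {F : X.Modules} (h : IsZero F) : Good L F := fun i _ =>
  ⟨0, fun n _ => Sheaf.subsingleton_H_of_isZero
    ((SheafOfModules.toSheaf X.ringCatSheaf).map_isZero ((tw L n).map_isZero h)) i⟩

include k in
lemma good_ext {L : X.Modules} (hL : PicF.IsInvertible L) {S : ShortComplex X.Modules}
    (hS : S.ShortExact) (h₁ : Good L S.X₁) (h₃ : Good L S.X₃) : Good L S.X₂ := fun i hi => by
  obtain ⟨N₁, hN₁⟩ := h₁ i hi
  obtain ⟨N₃, hN₃⟩ := h₃ i hi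
  refine ⟨max N₁ N₃, fun n hn => ?_⟩
  have hT : (S.map (tw L n)).ShortExact := shortExact_tensorRightMod (isInvertible_tensorPow hL n) hS
  have := hN₁ n (le_of_max_le_left hn)
  have := hN₃ n (le_of_max_le_right hn)
  refine subsingleton_of_forall_eq 0 fun x => ?_
  obtain ⟨y, hy⟩ := (EulerDeg.exact_mid k hT i x).1 ((show Subsingleton (Coh.HH X (S.map (tw L n)).X₃ i)
    from inferInstanceAs (Subsingleton (Coh.HH X (CohB1.tensorMod S.X₃ (CohB1.tensorPow L n)) i))).elim _ _)
  rw [← hy, (show Subsingleton (Coh.HH X (S.map (tw L n)).X₁ i)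
    from inferInstanceAs (Subsingleton (Coh.HH X (CohB1.tensorMod S.X₁ (CohB1.tensorPow L n)) i))).elim y 0,
    map_zero]
  rfl

/-- A morphism whose kernel and cokernel have no cohomology in the relevant degrees. -/
theorem hMap_surjective_injective {A B : X.Modules} (g : A ⟶ B) (i : ℕ)
    (hK : Subsingleton (Coh.HH X (kernel g) i)) (hK' : Subsingleton (Coh.HH X (kernel g) (i + 1)))
    (hC : Subsingleton (Coh.HH X (cokernel g) i))
    (hC' : 2 ≤ i → Subsingleton (Coh.HH X (cokernel g) (i - 1))) :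
    Function.Surjective (EulerDeg.hMap k g i) ∧
      (2 ≤ i → Function.Injective (EulerDeg.hMap k g i)) := by
  let S₁ : ShortComplex X.Modules := ShortComplex.mk (kernel.ι g) (Abelian.factorThruImage g) (by
    rw [← cancel_mono (Abelian.image.ι g), Category.assoc, Abelian.image.fac, kernel.condition,
      zero_comp])
  have hS₁ : S₁.ShortExact :=
    { exact := ShortComplex.exact_of_f_is_kernel _ (KernelFork.IsLimit.ofι _ _
        (fun x hx => kernel.lift g x (by
          rw [← Abelian.image.fac g, ← Category.assoc, hx, zero_comp]))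
        (fun x hx => kernel.lift_ι _ _ _)
        (fun x hx m hm => by
          rw [← cancel_mono (kernel.ι g), kernel.lift_ι]; exact hm))
      mono_f := inferInstanceAs (Mono (kernel.ι g))
      epi_g := inferInstanceAs (Epi (Abelian.factorThruImage g)) }
  let S₂ : ShortComplex X.Modules := ShortComplex.mk (Abelian.image.ι g) (cokernel.π g)
    (kernel.condition _)
  have hS₂ : S₂.ShortExact :=
    { exact := ShortComplex.exact_of_f_is_kernel _ (kernelIsKernel _)
      mono_f := inferInstanceAs (Mono (kernel.ι (cokernel.π g)))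
      epi_g := inferInstanceAs (Epi (cokernel.π g)) }
  have hcomp : ∀ x, EulerDeg.hMap k g i x = EulerDeg.hMap k S₂.f i (EulerDeg.hMap k S₁.g i x) :=
    fun x => by rw [← LinearMap.comp_apply, ← EulerDeg.hMap_comp, Abelian.image.fac]
  have hbij : Function.Bijective (EulerDeg.hMap k S₁.g i) := by
    refine ⟨(injective_iff_map_eq_zero _).2 fun x hx => ?_, fun y => ?_⟩
    · obtain ⟨z, hz⟩ := (EulerDeg.exact_mid k hS₁ i x).1 hx
      rw [← hz, hK.elim z 0, map_zero]
    · exact (EulerDeg.exact_right k hS₁ i y).1 (hK'.elim _ _)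
  constructor
  · intro y
    obtain ⟨z, hz⟩ := (EulerDeg.exact_mid k hS₂ i y).1 (hC.elim _ _)
    obtain ⟨x, rfl⟩ := hbij.2 z
    exact ⟨x, (hcomp x).trans hz⟩
  · intro hi2
    obtain ⟨j, rfl⟩ : ∃ j, i = j + 1 := ⟨i - 1, by omega⟩
    refine (injective_iff_map_eq_zero _).2 fun x hx => ?_
    rw [hcomp] at hx
    obtain ⟨z, hz⟩ := (EulerDeg.exact_left k hS₂ j _).1 hx
    rw [(show Subsingleton (Coh.HH X S₂.X₃ j) by simpa using hC' hi2).elim z 0, map_zero] at hz
    exact hbij.1 (hz.symm.trans (map_zero _).symm)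

/-- Twisted morphisms with good kernel and cokernel. -/
theorem exists_hMap_twist {L : X.Modules} (hL : PicF.IsInvertible L) {A B : X.Modules} (f : A ⟶ B)
    (hK : Good L (kernel f)) (hC : Good L (cokernel f)) (i : ℕ) (hi : 0 < i) :
    ∃ N : ℕ, ∀ n : ℕ, N ≤ n → Function.Surjective (EulerDeg.hMap k ((tw L n).map f) i) ∧
      (2 ≤ i → Function.Injective (EulerDeg.hMap k ((tw L n).map f) i)) := by
  obtain ⟨N₁, h₁⟩ := hK i hi
  obtain ⟨N₂, h₂⟩ := hK (i + 1) (by omega)
  obtain ⟨N₃, h₃⟩ := hC i hi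
  obtain ⟨N₄, h₄⟩ : ∃ N₄, ∀ n, N₄ ≤ n → 2 ≤ i →
      Subsingleton (Coh.HH X (CohB1.tensorMod (cokernel f) (CohB1.tensorPow L n)) (i - 1)) := by
    by_cases h2 : 2 ≤ i
    · obtain ⟨N₄, h₄⟩ := hC (i - 1) (by omega)
      exact ⟨N₄, fun n hn _ => h₄ n hn⟩
    · exact ⟨0, fun n _ h => absurd h h2⟩
  refine ⟨max (max N₁ N₂) (max N₃ N₄), fun n hn => ?_⟩
  have := isEquivalence_tensorRightMod_of_isInvertible (isInvertible_tensorPow hL n)
  have eK : kernel ((tw L n).map f) ≅ CohB1.tensorMod (kernel f) (CohB1.tensorPow L n) :=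
    (PreservesKernel.iso (tw L n) f).symm
  have eC : cokernel ((tw L n).map f) ≅ CohB1.tensorMod (cokernel f) (CohB1.tensorPow L n) :=
    (PreservesCokernel.iso (tw L n) f).symm
  exact hMap_surjective_injective k ((tw L n).map f) i
    (subsingleton_HH_of_iso k eK.symm (h₁ n (by omega)))
    (subsingleton_HH_of_iso k eK.symm (h₂ n (by omega)))
    (subsingleton_HH_of_iso k eC.symm (h₃ n (by omega)))
    (fun h2 => subsingleton_HH_of_iso k eC.symm (h₄ n (by omega) h2))

/-- Multiplication by a section with good kernel and cokernel is onto on the twists. -/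
theorem exists_mulSec_twist {L : X.Modules} (hL : PicF.IsInvertible L) {M : X.Modules}
    (s : Γ(M, ⊤)) {F : X.Modules} (hK : Good L (kernel (mulSec s F)))
    (hC : Good L (cokernel (mulSec s F))) (i : ℕ) (hi : 0 < i) :
    ∃ N : ℕ, ∀ n : ℕ, N ≤ n → Function.Surjective
        (EulerDeg.hMap k (mulSec s (CohB1.tensorMod F (CohB1.tensorPow L n))) i) := by
  obtain ⟨N, hN⟩ := exists_hMap_twist k hL (mulSec s F) hK hC i hi
  refine ⟨N, fun n hn => ?_⟩
  obtain ⟨e, he⟩ := exists_swap_mulSec s F (CohB1.tensorPow L n)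
  rw [← he]
  intro y
  obtain ⟨z, hz⟩ := (EulerDeg.hEquiv k e i).surjective y
  obtain ⟨x, hx⟩ := (hN n hn).1 z
  exact ⟨x, ((LinearMap.congr_fun (EulerDeg.hMap_comp k _ _ i) x).trans
    (congrArg (EulerDeg.hMap k e.hom i) hx)).trans hz⟩

theorem abMap_scalar (g : Γ(X, ⊤)) (M : X.Modules) :
    EulerDeg.abMap (scalar g M) = Coh.smulAb M g := by
  ext U m
  exact scalar_app g M U.unop m

theorem mulSec_smul {M : X.Modules} (c : k) (t : Γ(M, ⊤)) (G : X.Modules) :
    mulSec (c • t) G = mulSec t G ≫ scalar (Coh.toGlobal (X ↘ Spec (CommRingCat.of k)) c) _ := by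
  ext V a
  change (mulSec (c • t) G).app V a = (scalar _ _).app V ((mulSec t G).app V a)
  rw [scalar_app, mulSec_app, mulSec_app, EulerDeg.smul_sec, res_smul, tmulSec_smul_right]
  congr 1
  exact resX_resX (X := X) le_rfl le_top _

/-- A nonzero section of an invertible module on an integral scheme generates at the generic point. -/
theorem genericPoint_mem_gloc [IsIntegral X] {M : X.Modules} (hM : PicF.IsInvertible M)
    {s : Γ(M, ⊤)} (hs : s ≠ 0) : genericPoint X ∈ Groth.PropsBasic.Ample.gloc s := by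
  by_contra hne
  choose U e hU hxU he using fun x : X => exists_affine_gen_mem hM x
  refine hs (res_ext (M := M) U (fun _ => le_top) (fun x _ => Opens.mem_iSup.2 ⟨x, hxU x⟩) fun x => ?_)
  obtain ⟨c, hc⟩ := (he x).exists_coeff le_rfl (res M (le_top : U x ≤ ⊤) s)
  rw [res_self] at hc
  have hb : X.basicOpen c = ⊥ := by
    by_contra hb
    obtain ⟨z, hz⟩ := (Opens.ne_bot_iff_nonempty _).1 hb
    rw [← Groth.PropsBasic.Ample.gloc_inf_eq_basicOpen (he x) hc] at hz
    exact hne (((genericPoint_spec X).specializes (Set.mem_univ z)).mem_open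
      (Groth.PropsBasic.Ample.gloc s).2 hz.1)
  rw [hc, (basicOpen_eq_bot_iff c).1 hb, zero_smul, res_zero]

/-- The action of the sections of `M` on cohomology. -/
noncomputable def mulLin (M G : X.Modules) (i : ℕ) :
    Γ(M, (⊤ : X.Opens)) →ₗ[k] (Coh.HH X G i →ₗ[k] Coh.HH X (CohB1.tensorMod G M) i) where
  toFun t := EulerDeg.hMap k (mulSec t G) i
  map_add' s t := by
    have h : mulSec (s + t) G = mulSec s G + mulSec t G := by
      ext V a
      change (mulSec (s + t) G).app V a = (mulSec s G).app V a + (mulSec t G).app V a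
      rw [mulSec_app, mulSec_app, mulSec_app, res_add, tmulSec_add_right]
    refine LinearMap.ext fun x => ?_
    rw [h]
    change Sheaf.H.map (EulerDeg.abMap (mulSec s G + mulSec t G)) i x =
      Sheaf.H.map (EulerDeg.abMap (mulSec s G)) i x + Sheaf.H.map (EulerDeg.abMap (mulSec t G)) i x
    rw [show EulerDeg.abMap (mulSec s G + mulSec t G) =
      EulerDeg.abMap (mulSec s G) + EulerDeg.abMap (mulSec t G) from
        (Groth.CohBase.toAbF X).map_add, Sheaf.H.map_apply, Sheaf.H.map_apply, Sheaf.H.map_apply,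
      Abelian.Ext.mk₀_add, Abelian.Ext.comp_add]
  map_smul' c t := by
    refine LinearMap.ext fun x => ?_
    rw [mulSec_smul k c t G, EulerDeg.hMap_comp]
    change Sheaf.H.map (EulerDeg.abMap
      (scalar (Coh.toGlobal (X ↘ Spec (CommRingCat.of k)) c) (CohB1.tensorMod G M))) i
      (EulerDeg.hMap k (mulSec t G) i x) = _
    rw [abMap_scalar]
    exact (EulerDeg.smul_def k c _).symm

variable [IsProper (X ↘ Spec (CommRingCat.of k))]

include k in
lemma finite_HH_twist {L : X.Modules} (hL : PicF.IsInvertible L) {F : X.Modules} (hF : Coh.IsCoh F)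
    (n i : ℕ) : Module.Finite k (Coh.HH X (CohB1.tensorMod F (CohB1.tensorPow L n)) i) :=
  (finCoh k (RefRank.isCoh_tensorMod hF
    (isCoh_of_isInvertible (isInvertible_tensorPow hL n)))).finite i

/-- Step of the main induction: on an integral scheme on which the twists of all modules vanishing
at the generic point have no higher cohomology, and `L^m` has many sections, twists of all modules
have no higher cohomology. -/
theorem goodAt_of_many_sections [IsIntegral X] {L : X.Modules} (hL : PicF.IsInvertible L)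
    (hsmall : ∀ G : X.Modules, Coh.IsCoh G → genericPoint X ∉ CohB1.support G → Good L G)
    (hgrow : ∀ c : ℕ, ∃ m : ℕ, c < Module.finrank k Γ(CohB1.tensorPow L m, (⊤ : X.Opens)))
    {F : X.Modules} (hF : Coh.IsCoh F) (i : ℕ) (hi : 0 < i) : GoodAt L i F := by
  classical
  have hN : IsNoetherian X := isNoetherian k
  have hP : ∀ m, PicF.IsInvertible (CohB1.tensorPow L m) := isInvertible_tensorPow hL
  -- nonzero sections have good kernel and cokernel
  have hsec : ∀ (m : ℕ) (s : Γ(CohB1.tensorPow L m, (⊤ : X.Opens))), s ≠ 0 →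
      ∃ N : ℕ, ∀ n : ℕ, N ≤ n → Function.Surjective
        (EulerDeg.hMap k (mulSec s (CohB1.tensorMod F (CohB1.tensorPow L n))) i) := by
    intro m s hs
    have hFM : Coh.IsCoh (CohB1.tensorMod F (CohB1.tensorPow L m)) :=
      RefRank.isCoh_tensorMod hF (isCoh_of_isInvertible (hP m))
    have hne := genericPoint_mem_gloc (hP m) hs
    have := hF.1
    have := hFM.1
    exact exists_mulSec_twist k hL s
      (hsmall _ (QCohMod.isCoh_kernel _ hF) fun h => support_kernel_mulSec_subset s F h hne)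
      (hsmall _ (QCohMod.isCoh_cokernel _ hFM) fun h => support_cokernel_mulSec_subset s F h hne) i hi
  -- a bound on the dimensions
  obtain ⟨m₀, hm₀', hm00⟩ : ∃ m₀, 0 < Module.finrank k Γ(CohB1.tensorPow L m₀, (⊤ : X.Opens)) ∧
      ¬ m₀ = 0 := by
    obtain ⟨m₀, h⟩ := hgrow (Module.finrank k Γ(CohB1.tensorPow L 0, (⊤ : X.Opens)))
    exact ⟨m₀, by omega, by rintro rfl; exact lt_irrefl _ h⟩
  have hm₀ := hm₀'
  have : Module.Finite k Γ(CohB1.tensorPow L m₀, (⊤ : X.Opens)) :=
    Module.finite_of_finrank_pos hm₀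
  obtain ⟨s₀, hs₀⟩ : ∃ s₀ : Γ(CohB1.tensorPow L m₀, (⊤ : X.Opens)), s₀ ≠ 0 :=
    @exists_ne _ (Module.nontrivial_of_finrank_pos hm₀) 0
  obtain ⟨N₀, hN₀⟩ := hsec m₀ s₀ hs₀
  set d := fun n => Module.finrank k (Coh.HH X (CohB1.tensorMod F (CohB1.tensorPow L n)) i) with hd
  have hstep : ∀ n, N₀ ≤ n → d (n + m₀) ≤ d n := fun n hn => by
    have := finite_HH_twist k hL hF n i
    have e := (tw_add L F n m₀).some
    exact ((EulerDeg.hEquiv k e i).finrank_eq).symm.trans_le
      (LinearMap.finrank_le_finrank_of_surjective (hN₀ n hn))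
  obtain ⟨C, hC⟩ : ∃ C, ∀ n, N₀ ≤ n → d n ≤ C := by
    refine ⟨(Finset.range m₀).sup fun r => d (N₀ + r), fun n hn => ?_⟩
    obtain ⟨q, r, hr, rfl⟩ : ∃ q r, r < m₀ ∧ n = N₀ + r + q * m₀ :=
      ⟨(n - N₀) / m₀, (n - N₀) % m₀, Nat.mod_lt _ (Nat.pos_of_ne_zero hm00),
        by have := Nat.div_add_mod' (n - N₀) m₀; omega⟩
    induction q with
    | zero =>
      rw [Nat.zero_mul, Nat.add_zero]
      exact Finset.le_sup (f := fun r => d (N₀ + r)) (Finset.mem_range.2 hr)
    | succ q ih =>
      rw [Nat.succ_mul, ← Nat.add_assoc]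
      exact (hstep _ (by omega)).trans (ih (by omega))
  obtain ⟨m, hm⟩ := hgrow (C * C)
  have : Module.Finite k Γ(CohB1.tensorPow L m, (⊤ : X.Opens)) :=
    Module.finite_of_finrank_pos (by omega)
  -- for each starting exponent, eventual vanishing in its class
  have key : ∀ a, N₀ ≤ a → ∃ J, ∀ j, J ≤ j →
      Subsingleton (Coh.HH X (CohB1.tensorMod F (CohB1.tensorPow L (a + j * m₀ + m))) i) := by
    intro a ha
    let G : ℕ → X.Modules := fun j => CohB1.tensorMod F (CohB1.tensorPow L (a + j * m₀))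
    have := finite_HH_twist k hL hF a i
    have := finite_HH_twist k hL hF (a + m) i
    have hfin : Module.Finite k (Coh.HH X (CohB1.tensorMod (G 0) (CohB1.tensorPow L m)) i) :=
      (finCoh k (RefRank.isCoh_tensorMod (RefRank.isCoh_tensorMod hF (isCoh_of_isInvertible (hP _)))
        (isCoh_of_isInvertible (hP m)))).finite i
    have hfin0 : Module.Finite k (Coh.HH X (G 0) i) :=
      (finCoh k (RefRank.isCoh_tensorMod hF (isCoh_of_isInvertible (hP _)))).finite i
    obtain ⟨t, htk, ht⟩ : ∃ t ∈ LinearMap.ker (mulLin k (CohB1.tensorPow L m) (G 0) i), t ≠ 0 := by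
      refine Submodule.exists_mem_ne_zero_of_ne_bot fun hbot => ?_
      have h1 := LinearMap.finrank_le_finrank_of_injective (LinearMap.ker_eq_bot.1 hbot)
      rw [Module.finrank_linearMap] at h1
      have h2 : Module.finrank k (Coh.HH X (G 0) i) ≤ C := hC _ (by omega)
      have h3 : Module.finrank k (Coh.HH X (CohB1.tensorMod (G 0) (CohB1.tensorPow L m)) i) ≤ C :=
        ((EulerDeg.hEquiv k (tw_add L F _ m).some i).finrank_eq).trans_le (hC _ (by omega))
      have := Nat.mul_le_mul h2 h3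
      omega
    have hz : ∀ j, EulerDeg.hMap k (mulSec t (G j)) i = 0 := by
      intro j
      induction j with
      | zero => exact LinearMap.mem_ker.1 htk
      | succ j ih =>
        let φ := mulSec s₀ (G j)
        have hφ : Function.Surjective (EulerDeg.hMap k φ i) := hN₀ _ (by omega)
        have e : CohB1.tensorMod (G j) (CohB1.tensorPow L m₀) ≅ G (j + 1) :=
          (tw_add L F _ m₀).some ≪≫ eqToIso (by
            simp only [G]; rw [Nat.succ_mul, Nat.add_assoc])
        have h0 : EulerDeg.hMap k (mulSec t (CohB1.tensorMod (G j) (CohB1.tensorPow L m₀))) i = 0 :=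
          LinearMap.ext fun y => by
            obtain ⟨x, rfl⟩ := hφ y
            have h1 := LinearMap.congr_fun (EulerDeg.hMap_comp k φ
              (mulSec t (CohB1.tensorMod (G j) (CohB1.tensorPow L m₀))) i) x
            rw [mulSec_naturality t φ] at h1
            refine h1.symm.trans ((LinearMap.congr_fun (EulerDeg.hMap_comp k _ _ i) x).trans ?_)
            change EulerDeg.hMap k _ i (EulerDeg.hMap k (mulSec t (G j)) i x) = _
            rw [ih, LinearMap.zero_apply, map_zero]
            rfl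
        rw [mulSec_iso t e]
        refine LinearMap.ext fun y => ?_
        refine (LinearMap.congr_fun (EulerDeg.hMap_comp k e.inv _ i) y).trans ?_
        refine (LinearMap.congr_fun (EulerDeg.hMap_comp k _ _ i) (EulerDeg.hMap k e.inv i y)).trans ?_
        change EulerDeg.hMap k _ i (EulerDeg.hMap k _ i _) = _
        rw [h0, LinearMap.zero_apply, map_zero]
        rfl
    obtain ⟨N, hN'⟩ := hsec m t ht
    refine ⟨N, fun j hj => ?_⟩
    refine subsingleton_HH_of_iso k (tw_add L F _ m).some ?_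
    have hs := hN' (a + j * m₀) (by nlinarith [Nat.pos_of_ne_zero hm00])
    change Function.Surjective (EulerDeg.hMap k (mulSec t (G j)) i) at hs
    rw [hz j] at hs
    exact subsingleton_of_forall_eq 0 fun y => by obtain ⟨x, rfl⟩ := hs y; rfl
  choose J hJ using fun r : ℕ => key (N₀ + r) (Nat.le_add_right _ _)
  refine ⟨N₀ + m + m₀ + ((Finset.range m₀).sup J) * m₀, fun n hn => ?_⟩
  let u := n - N₀ - m
  have hu : u % m₀ + u / m₀ * m₀ = u := Nat.mod_add_div' u m₀
  have h1 : J (u % m₀) ≤ u / m₀ := by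
    refine (Finset.le_sup (f := J) (Finset.mem_range.2 (Nat.mod_lt _ (Nat.pos_of_ne_zero hm00)))).trans ?_
    rw [Nat.le_div_iff_mul_le (Nat.pos_of_ne_zero hm00)]
    omega
  have := hJ (u % m₀) (u / m₀) h1
  rwa [show N₀ + u % m₀ + u / m₀ * m₀ + m = n by omega] at this

end Good

end Groth.Inter
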